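import Cfsg.Agent.Lib.Invol.OddTransitive.Main
import Cfsg.Agent.Lib.Grp.Solvable

/-!
# Groups of odd order transitive on an elementary abelian group

Such a group of automorphisms has a cyclic subgroup which is semiregular, self-centralising and kept by everything
normalising the group; so its order is less than the square of the order of that subgroup.
-/

set_option autoImplicit false
set_option linter.unusedSectionVars false

namespace Cfsg.Agent.Invol.Aschbacher

open Subgroup

universe u

/-- The Fitting subgroup of a soluble subgroup, when cyclic, as a subgroup of the whole group. -/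
theorem exists_kernel_map {H : Type u} [Group H] [Finite H] (R : Subgroup H) [Group.IsSolvable R]
    [IsCyclic (Cfsg.fittingSubgroup R)] :
    ∃ K : Subgroup H, K ≤ R ∧ IsCyclic K ∧ (∀ b : H, (∀ r ∈ R, b * r * b⁻¹ ∈ R) → ∀ k ∈ K, b * k * b⁻¹ ∈ K) ∧
      (∀ k ∈ K, ∃ k' : R, k' ∈ Cfsg.fittingSubgroup R ∧ (k' : H) = k) ∧ R ⊓ centralizer (K : Set H) ≤ K := by
  classical
  obtain ⟨K, hK⟩ : ∃ K, K = (Cfsg.fittingSubgroup R).map R.subtype := ⟨_, rfl⟩
  have hKR : K ≤ R := hK ▸ map_subtype_le _
  have hKc : IsCyclic K := by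
    let e := ((Cfsg.fittingSubgroup R).equivMapOfInjective R.subtype R.subtype_injective).trans
      (MulEquiv.subgroupCongr hK.symm)
    exact isCyclic_of_surjective e.toMonoidHom e.surjective
  refine ⟨K, hKR, hKc, fun b hb k hk => ?_, fun k hk => ?_, fun g hg => ?_⟩
  · -- a conjugate of the kernel is a normal cyclic subgroup
    obtain ⟨K', hK'⟩ : ∃ K', K' = K.map (MulAut.conj b).toMonoidHom := ⟨_, rfl⟩
    have hbinv : ∀ r ∈ R, b⁻¹ * r * b ∈ R := by
      intro r hr
      obtain ⟨⟨r', hr'⟩, e⟩ := (Finite.injective_iff_surjective (f := fun s : R => (⟨b * s * b⁻¹, hb s s.2⟩ : R))).1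
        (fun s t e => Subtype.ext (mul_left_cancel (mul_right_cancel (congrArg Subtype.val e)))) ⟨r, hr⟩
      have e' : b * r' * b⁻¹ = r := congrArg Subtype.val e
      rw [← e']
      simpa [mul_assoc] using hr'
    have hnK : ∀ r ∈ R, ∀ y ∈ K, r * y * r⁻¹ ∈ K := by
      intro r hr y hy
      rw [hK, Subgroup.mem_map] at hy
      obtain ⟨y, hy, rfl⟩ := hy
      rw [hK, Subgroup.mem_map]
      exact ⟨⟨r, hr⟩ * y * ⟨r, hr⟩⁻¹, (Grp.fittingSubgroup_isNormal (G := R)).conj_mem y hy _, rfl⟩
    have hle : K' ≤ R := fun x hx => by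
      rw [hK', Subgroup.mem_map] at hx
      obtain ⟨y, hy, rfl⟩ := hx
      exact hb y (hKR hy)
    have hn : (K'.subgroupOf R).Normal := ⟨fun y hy r => by
      rw [mem_subgroupOf, hK', Subgroup.mem_map] at hy ⊢
      obtain ⟨z, hz, e⟩ := hy
      refine ⟨b⁻¹ * r * b * z * (b⁻¹ * r * b)⁻¹, hnK _ (hbinv r r.2) z hz, ?_⟩
      show b * (b⁻¹ * r * b * z * (b⁻¹ * r * b)⁻¹) * b⁻¹ = (r : H) * y * (r : H)⁻¹
      rw [show (y : H) = b * z * b⁻¹ from e.symm]
      group⟩
    have hnil : Group.IsNilpotent (K'.subgroupOf R) := by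
      haveI := hKc
      let e := ((K.equivMapOfInjective _ (MulAut.conj b).injective).trans (MulEquiv.subgroupCongr hK'.symm)).trans
        (subgroupOfEquivOfLe hle).symm
      haveI : IsCyclic (K'.subgroupOf R) := isCyclic_of_surjective e.toMonoidHom e.surjective
      letI := IsCyclic.commGroup (α := K'.subgroupOf R)
      infer_instance
    have hm : (⟨_, hb k (hKR hk)⟩ : R) ∈ K'.subgroupOf R := by
      rw [mem_subgroupOf, hK', Subgroup.mem_map]
      exact ⟨k, hk, rfl⟩
    rw [hK, Subgroup.mem_map]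
    exact ⟨_, Grp.le_fittingSubgroup hn hnil hm, rfl⟩
  · rw [hK, Subgroup.mem_map] at hk
    exact hk
  · obtain ⟨hgR, hgc⟩ := Subgroup.mem_inf.1 hg
    have h1 : (⟨g, hgR⟩ : R) ∈ centralizer (Cfsg.fittingSubgroup R : Set R) := mem_centralizer_iff.2 fun y hy =>
      Subtype.ext (mem_centralizer_iff.1 hgc y (hK ▸ mem_map_of_mem _ hy))
    rw [hK, Subgroup.mem_map]
    exact ⟨_, Grp.centralizer_fittingSubgroup_le h1, rfl⟩

variable {E : Type u} [CommGroup E] [Finite E] [Nontrivial E]

/-- The cyclic kernel of a transitive automorphism group of odd order. -/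
theorem exists_cyclic_kernel (h2 : ∀ e : E, e * e = 1) {R : Subgroup (MulAut E)} (hodd : Odd (Nat.card R))
    (ht : ∀ x y : E, x ≠ 1 → y ≠ 1 → ∃ g ∈ R, g x = y) :
    ∃ K : Subgroup (MulAut E), K ≤ R ∧ IsCyclic K ∧
      (∀ b : MulAut E, (∀ r ∈ R, b * r * b⁻¹ ∈ R) → ∀ k ∈ K, b * k * b⁻¹ ∈ K) ∧
      (∀ k ∈ K, k ≠ 1 → ∀ x : E, k x = x → x = 1) ∧ R ⊓ centralizer (K : Set (MulAut E)) ≤ K := by
  classical
  haveI : Finite (MulAut E) := Finite.of_injective (fun f : MulAut E => (f : E → E)) DFunLike.coe_injective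
  letI : Module (ZMod 2) (Additive E) := AddCommGroup.zmodModule (n := 2) fun v => by
    rw [two_nsmul]
    exact h2 (Additive.toMul v)
  let ρ : R →* (Additive E ≃ₗ[ZMod 2] Additive E) := MonoidHom.mk'
    (fun g =>
      { toFun := fun v => Additive.ofMul ((g : MulAut E) (Additive.toMul v))
        invFun := fun v => Additive.ofMul ((g : MulAut E).symm (Additive.toMul v))
        left_inv := fun v => by simp
        right_inv := fun v => by simp
        map_add' := fun v w => congrArg Additive.ofMul (map_mul (g : MulAut E) _ _)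
        map_smul' := fun r v => ZMod.map_smul (AddMonoidHom.mk'
          (fun v : Additive E => Additive.ofMul ((g : MulAut E) (Additive.toMul v)))
          fun v w => congrArg Additive.ofMul (map_mul (g : MulAut E) _ _)) r v })
    fun g h => LinearEquiv.ext fun v => rfl
  have hρ : Function.Injective ρ := fun g h e => Subtype.ext (MulEquiv.ext fun x =>
    congrArg Additive.toMul (LinearEquiv.congr_fun e (Additive.ofMul x)))
  haveI : Nontrivial (Additive E) := ‹Nontrivial E›
  obtain ⟨hcyc, hfpf, hcomm⟩ := OddTransitive.main (ρ := ρ) hodd hρ fun x y hx hy => by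
    obtain ⟨g, hg, h⟩ := ht (Additive.toMul x) (Additive.toMul y) hx hy
    exact ⟨⟨g, hg⟩, congrArg Additive.ofMul h⟩
  haveI := hcyc
  haveI := Grp.fittingSubgroup_isNormal (G := R)
  haveI : Group.IsSolvable R := by
    haveI : Group.IsSolvable (Cfsg.fittingSubgroup R) :=
      Group.isSolvable_of_comm fun a b => IsCyclic.commGroup.mul_comm a b
    haveI : Group.IsSolvable (R ⧸ Cfsg.fittingSubgroup R) := Group.isSolvable_of_comm fun a b => by
      obtain ⟨a, rfl⟩ := QuotientGroup.mk'_surjective _ a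
      obtain ⟨b, rfl⟩ := QuotientGroup.mk'_surjective _ b
      rw [← map_mul, ← map_mul, QuotientGroup.mk'_apply, QuotientGroup.mk'_apply, QuotientGroup.eq_iff_div_mem,
        div_eq_mul_inv, mul_inv_rev, ← mul_assoc]
      exact hcomm (Subgroup.commutator_mem_commutator (mem_top a) (mem_top b))
    exact Group.isSolvable_of_ker_le_range (Cfsg.fittingSubgroup R).subtype
      (QuotientGroup.mk' (Cfsg.fittingSubgroup R)) (by simp)
  obtain ⟨K, hKR, hKc, hconj, hmem, hsc⟩ := exists_kernel_map R
  refine ⟨K, hKR, hKc, hconj, fun k hk hne x hx => ?_, hsc⟩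
  obtain ⟨k', hk', rfl⟩ := hmem k hk
  exact congrArg Additive.toMul (hfpf k' hk' (fun e => hne (by rw [e]; rfl)) (Additive.ofMul x)
    (congrArg Additive.ofMul hx))

/-- Such a group has fewer elements than the square of the order of its kernel. -/
theorem card_le_sq {H : Type u} [Group H] [Finite H] {R K : Subgroup H} [IsCyclic K]
    (hn : ∀ r ∈ R, ∀ k ∈ K, r * k * r⁻¹ ∈ K) (hc : R ⊓ centralizer (K : Set H) ≤ K) :
    Nat.card R ≤ Nat.card K ^ 2 := by
  classical
  have hnorm : R ≤ normalizer (K : Set H) := fun r hr => Subgroup.mem_normalizer_fintype fun k hk => hn r hr k hk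
  obtain ⟨f, hf⟩ : ∃ f : R →* MulAut K, f = K.normalizerMonoidHom.comp (inclusion hnorm) := ⟨_, rfl⟩
  haveI : Finite (MulAut K) := Finite.of_injective (fun f : MulAut K => (f : K → K)) DFunLike.coe_injective
  have h1 := Subgroup.card_eq_card_quotient_mul_card_subgroup f.ker
  rw [Nat.card_congr (QuotientGroup.quotientKerEquivRange f).toEquiv] at h1
  have h2 : Nat.card f.range ≤ Nat.card K := by
    refine (Subgroup.card_le_card_group _).trans ?_
    rw [IsCyclic.card_mulAut]
    exact Nat.totient_le _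
  have h3 : Nat.card f.ker ≤ Nat.card K := by
    refine Nat.card_le_card_of_injective (fun r => (⟨((r : R) : H), hc ⟨(r : R).2, mem_centralizer_iff.2 fun k hk => ?_⟩⟩ : K))
      fun a b e => Subtype.ext (Subtype.ext (congrArg Subtype.val e :))
    have h4 := congrArg (fun φ => ((φ ⟨k, hk⟩ : K) : H))
      (((DFunLike.congr_fun hf (r : R)).symm).trans (MonoidHom.mem_ker.1 r.2))
    exact (mul_inv_eq_iff_eq_mul.1 h4).symm
  rw [h1, pow_two]
  exact Nat.mul_le_mul h2 h3

end Cfsg.Agent.Invol.Aschbacher
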