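import Cfsg.Agent.Lib.Invol.Aschbacher.Middle
import Cfsg.Agent.Lib.Invol.Bender.Cor.Setup
import Cfsg.Agent.Lib.Invol.ZStar
import Cfsg.Agent.Lib.Transfer.Local.Basic

/-!
# Pairs of points

The swappers of a pair in `Z` correspond to the members at a point; the odd core of the pair stabiliser is
transitive on both, and the three cores in a triangle have equal order.
-/

set_option autoImplicit false
set_option linter.unusedSectionVars false

namespace Cfsg.Agent.Invol.Aschbacher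

open MulAction Subgroup
open Cfsg.Agent.Invol.Bender (conj_smul_smul swap_symm pairStab mem_pair)
open Cfsg.Agent.Transfer.Loc (O' O'_le le_O' le_normalizer_core' O'_coprime)

universe u v

variable {G : Type u} {Ω : Type v} [Group G] [MulAction G Ω] [Finite G] {Z : Set G}

/-- The odd core of the stabiliser of two points. -/
abbrev pairCore (G : Type u) {Ω : Type v} [Group G] [MulAction G Ω] (a b : Ω) : Subgroup G :=
  O' 2 (pairStab G a b)

theorem pairCore_le (a b : Ω) : pairCore G a b ≤ pairStab G a b := O'_le 2 _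

theorem odd_pairCore (a b : Ω) : Odd (Nat.card (pairCore G a b)) := by
  haveI : Fact (Nat.Prime 2) := ⟨Nat.prime_two⟩
  exact Nat.coprime_two_right.1 (O'_coprime _)

omit [MulAction G Ω] [Finite G] in
theorem conj_mem_of_norm {g x : G} {X : Subgroup G} (h : g ∈ normalizer (X : Set G)) (hx : x ∈ X) :
    g * x * g⁻¹ ∈ X := (Subgroup.mem_normalizer_iff.1 h x).1 hx

omit [MulAction G Ω] [Finite G] in
theorem zpow_eq_one_or_self {w : G} (hw : orderOf w = 2) (k : ℤ) : w ^ k = 1 ∨ w ^ k = w := by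
  rw [← zpow_mod_orderOf, hw]
  rcases Int.emod_two_eq k with h | h
  · exact Or.inl (by rw [Nat.cast_ofNat, h, zpow_zero])
  · exact Or.inr (by rw [Nat.cast_ofNat, h, zpow_one])

omit [MulAction G Ω] in
/-- Orbit counting for a transitive conjugation. -/
theorem card_centralizer_mul {R : Subgroup G} {T : Set G} {s : G} (hs : s ∈ T)
    (hT : ∀ g ∈ R, ∀ t ∈ T, g * t * g⁻¹ ∈ T) (htr : ∀ t ∈ T, ∃ g ∈ R, g * s * g⁻¹ = t) :
    Nat.card ↥(R ⊓ centralizer ({s} : Set G)) * Nat.card ↥T = Nat.card R := by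
  letI : MulAction R ↥T :=
    { smul := fun g t => ⟨(g : G) * t * (g : G)⁻¹, hT g g.2 t t.2⟩
      one_smul := fun t => Subtype.ext (by show (1 : G) * t * (1 : G)⁻¹ = t; group)
      mul_smul := fun g h t => Subtype.ext (by
        show (g * h : G) * t * (g * h : G)⁻¹ = g * ((h : G) * t * (h : G)⁻¹) * (g : G)⁻¹; group) }
  haveI : MulAction.IsPretransitive R ↥T := ⟨fun x y => by
    obtain ⟨g, hg, hgx⟩ := htr x x.2
    obtain ⟨h, hh, hhy⟩ := htr y y.2
    refine ⟨⟨h * g⁻¹, R.mul_mem hh (R.inv_mem hg)⟩, Subtype.ext ?_⟩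
    show h * g⁻¹ * (x : G) * (h * g⁻¹)⁻¹ = y
    rw [← hgx, ← hhy]; group⟩
  have h1 : (MulAction.stabilizer R (⟨s, hs⟩ : ↥T)).map R.subtype = R ⊓ centralizer ({s} : Set G) := by
    ext g
    constructor
    · rintro ⟨⟨g, hg⟩, hfix, rfl⟩
      refine ⟨hg, Subgroup.mem_centralizer_singleton_iff.2 ?_⟩
      have h2 : g * s * g⁻¹ = s := congrArg Subtype.val (MulAction.mem_stabilizer_iff.1 hfix)
      exact mul_inv_eq_iff_eq_mul.1 h2
    · rintro ⟨hg, hc⟩
      refine ⟨⟨g, hg⟩, MulAction.mem_stabilizer_iff.2 (Subtype.ext ?_), rfl⟩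
      exact mul_inv_eq_iff_eq_mul.2 (Subgroup.mem_centralizer_singleton_iff.1 hc)
  rw [← h1, Subgroup.card_map_of_injective R.subtype_injective, ← MulAction.index_stabilizer_of_transitive R
    (⟨s, hs⟩ : ↥T), Subgroup.card_mul_index]

namespace Hyp

variable (S : Hyp G Ω Z)
include S

/-- Swappers of the same pair have a product of odd order. -/
theorem odd_swap_mul {a b : Ω} (hab : a ≠ b) {w w' : G} (hw : w ∈ zSwap Z a b) (hw' : w' ∈ zSwap Z a b) :
    Odd (orderOf (w * w')) := by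
  have hw2 := S.invol w hw.1
  have hw2' := S.invol w' hw'.1
  have hfix : (w * w') • a = a := by rw [mul_smul, hw'.2, swap_symm hw2 hw.2]
  refine Nat.not_even_iff_odd.1 fun he => ?_
  obtain ⟨r, hr⟩ := he
  obtain ⟨c, hc⟩ : ∃ c, c = (w * w') ^ r := ⟨_, rfl⟩
  have hc2 : orderOf c = 2 := by
    have h0 := orderOf_pos (w * w')
    rw [hc, orderOf_pow, hr, Nat.gcd_eq_right ⟨2, by ring⟩, ← two_mul]
    exact Nat.mul_div_cancel _ (by omega)
  have h1 : Commute w c := by
    have h2 := mul_zpow_comm hw2 hw2' (r : ℤ)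
    rw [zpow_natCast, zpow_neg, zpow_natCast, ← hc, inv_of_orderOf_two hc2] at h2
    exact h2
  have h3 : Commute w' c := by
    have := h1.mul_left (hc ▸ Commute.self_pow (w * w') r : Commute (w * w') c)
    rwa [← y_eq hw2] at this
  have hca : c • a = a := hc ▸ mem_stabilizer_iff.1 (Subgroup.pow_mem _ (mem_stabilizer_iff.2 hfix) r)
  by_cases hcZ : c ∈ Z
  · obtain ⟨p, hp⟩ := S.exists_fix hcZ
    obtain rfl := S.fix_unique hcZ hp hca
    exact hab ((S.fix_of_commute hcZ hp h1).symm.trans hw.2)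
  · refine S.notMem_lgen c hc2 hcZ ?_
    have h4 := Subgroup.pow_mem _ (Subgroup.mul_mem _ (mem_lgen hw.1 h1) (mem_lgen hw'.1 h3)) r
    rwa [← hc] at h4

/-- A product of two swappers lies in the odd core of the pair stabiliser. -/
theorem swap_mul_mem {a b : Ω} (hab : a ≠ b) {w w' : G} (hw : w ∈ zSwap Z a b) (hw' : w' ∈ zSwap Z a b) :
    w * w' ∈ pairCore G a b := by
  haveI : Fact (Nat.Prime 2) := ⟨Nat.prime_two⟩
  have hw2 := S.invol w hw.1
  have hww := mul_self_of_orderOf_two hw2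
  obtain ⟨D, hD⟩ : ∃ D, D = pairStab G a b := ⟨_, rfl⟩
  have hmemD : ∀ {g : G}, g ∈ D ↔ g • a = a ∧ g • b = b := by intro g; rw [hD]; exact mem_pair
  have hwb : w • b = a := swap_symm hw2 hw.2
  have hconjD : ∀ d ∈ D, w * d * w⁻¹ ∈ D := fun d hd => hmemD.2
    ⟨by rw [inv_of_orderOf_two hw2, mul_smul, mul_smul, hw.2, (hmemD.1 hd).2, hwb],
      by rw [inv_of_orderOf_two hw2, mul_smul, mul_smul, hwb, (hmemD.1 hd).1, hw.2]⟩
  obtain ⟨X, hX⟩ : ∃ X, X = D ⊔ Subgroup.zpowers w := ⟨_, rfl⟩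
  have hwX : w ∈ X := hX ▸ Subgroup.mem_sup_right (Subgroup.mem_zpowers w)
  have hXmem : ∀ g ∈ X, g ∈ D ∨ g * w ∈ D := by
    intro g hg
    rw [hX, Subgroup.sup_eq_closure] at hg
    induction hg using Subgroup.closure_induction_left with
    | one => exact Or.inl D.one_mem
    | mul_left x hx y _ ih =>
      rcases hx with hx | hx
      · exact ih.imp (fun h => D.mul_mem hx h) fun h => by rw [mul_assoc]; exact D.mul_mem hx h
      · obtain ⟨k, rfl⟩ := Subgroup.mem_zpowers_iff.1 hx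
        rcases zpow_eq_one_or_self hw2 k with h | h
        · rw [h, one_mul]; exact ih
        · rw [h]
          rcases ih with hy | hy
          · refine Or.inr ?_
            have := hconjD y hy
            rwa [inv_of_orderOf_two hw2] at this
          · refine Or.inl ?_
            have := hconjD _ hy
            rwa [show w * (y * w) * w⁻¹ = w * y by group] at this
    | inv_mul_cancel x hx y _ ih =>
      rcases hx with hx | hx
      · exact ih.imp (fun h => D.mul_mem (D.inv_mem hx) h)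
          fun h => by rw [mul_assoc]; exact D.mul_mem (D.inv_mem hx) h
      · obtain ⟨k, rfl⟩ := Subgroup.mem_zpowers_iff.1 hx
        rw [← zpow_neg]
        rcases zpow_eq_one_or_self hw2 (-k) with h | h
        · rw [h, one_mul]; exact ih
        · rw [h]
          rcases ih with hy | hy
          · refine Or.inr ?_
            have := hconjD y hy
            rwa [inv_of_orderOf_two hw2] at this
          · refine Or.inl ?_
            have := hconjD _ hy
            rwa [show w * (y * w) * w⁻¹ = w * y by group] at this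
  -- the swapper is isolated in `X`
  have hiso : IsIsolatedInvolution (⟨w, hwX⟩ : X) := by
    refine ⟨(orderOf_coe (⟨w, hwX⟩ : X)).symm.trans hw2, fun g hg => Subtype.ext ?_⟩
    have hgc : Commute w ((g : G) * w * (g : G)⁻¹) := congrArg Subtype.val hg.eq
    show (g : G) * w * (g : G)⁻¹ = w
    obtain ⟨d, hd, hdw⟩ : ∃ d ∈ D, d * w * d⁻¹ = (g : G) * w * (g : G)⁻¹ := by
      rcases hXmem g g.2 with h | h
      · exact ⟨g, h, rfl⟩
      · exact ⟨(g : G) * w, h, by group⟩
    rw [← hdw] at hgc ⊢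
    by_contra hne
    have hd' := hmemD.1 hd
    have hs : d * w * d⁻¹ ∈ zSwap Z a b := by
      refine ⟨S.conj_mem d w hw.1, ?_⟩
      conv_lhs => rw [← hd'.1]
      rw [conj_smul_smul, hw.2, hd'.2]
    have hodd := S.odd_swap_mul hab hw hs
    have h2 : (w * (d * w * d⁻¹)) ^ 2 = 1 := by
      rw [hgc.mul_pow, pow_two, pow_two, hww, mul_self_of_orderOf_two (S.invol _ hs.1), one_mul]
    have h3 := (Nat.dvd_prime Nat.prime_two).1 (orderOf_dvd_of_pow_eq_one h2)
    rcases h3 with h3 | h3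
    · refine hne ?_
      rw [orderOf_eq_one_iff, mul_eq_one_iff_eq_inv', inv_of_orderOf_two hw2] at h3
      exact h3
    · rw [h3] at hodd
      exact absurd hodd (by decide)
  obtain ⟨N, hN, hNodd, hcomm⟩ := ZStar.exists_odd_normal hiso
  obtain ⟨N', hN'⟩ : ∃ N', N' = N.map X.subtype := ⟨_, rfl⟩
  have hN'card : Odd (Nat.card N') := by
    rw [hN', Nat.card_congr (N.equivMapOfInjective _ X.subtype_injective).toEquiv.symm]
    exact hNodd
  have hN'D : N' ≤ D := by
    intro g hg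
    obtain ⟨x, -, rfl⟩ := hN' ▸ hg
    obtain ⟨i, hi⟩ := hN'card.of_dvd_nat (Subgroup.orderOf_dvd_natCard _ hg)
    have hsq : (x : G) * x ∈ D := by
      rcases hXmem _ x.2 with h | h
      · exact D.mul_mem h h
      · have h5 := D.mul_mem h (hconjD _ h)
        rwa [show (x : G) * w * (w * ((x : G) * w) * w⁻¹) = (x : G) * (w * w) * x * (w * w⁻¹) by group, hww,
          mul_one, mul_inv_cancel, mul_one] at h5
    have h6 : (x : G) = ((x : G) * x) ^ (i + 1) := by
      rw [← pow_two, ← pow_mul, show 2 * (i + 1) = 2 * i + 1 + 1 by ring, pow_succ, ← hi,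
        show (x : G) = X.subtype x from rfl, pow_orderOf_eq_one, one_mul]
    rw [show X.subtype x = (x : G) from rfl, h6]
    exact D.pow_mem hsq _
  have hN'norm : D ≤ normalizer (N' : Set G) := fun d hd => mem_normalizer_fintype fun g hg => by
    obtain ⟨x, hx, rfl⟩ := hN' ▸ hg
    refine hN' ▸ ⟨⟨d, hX ▸ Subgroup.mem_sup_left hd⟩ * x * ⟨d, hX ▸ Subgroup.mem_sup_left hd⟩⁻¹,
      hN.conj_mem x hx _, rfl⟩
  have hle : N' ≤ pairCore G a b := by
    rw [pairCore, ← hD]
    exact le_O' (r := 2) hN'D hN'norm (Nat.coprime_two_right.2 hN'card)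
  -- conjugate `w` to `w'` inside the stabiliser
  obtain ⟨k, hk, hkw⟩ := Cfsg.Agent.Invol.Bender.Cor.exists_conj_of_odd hw2 (S.invol w' hw'.1) (S.odd_swap_mul hab hw hw')
  have hkD : k ∈ D := by
    obtain ⟨i, rfl⟩ := Subgroup.mem_zpowers_iff.1 hk
    exact D.zpow_mem (hmemD.2 ⟨by rw [mul_smul, hw'.2, hwb],
      by rw [mul_smul, swap_symm (S.invol w' hw'.1) hw'.2, hw.2]⟩) i
  refine hle (hN' ▸ ⟨_, hcomm ⟨k, hX ▸ Subgroup.mem_sup_left hkD⟩, ?_⟩)
  show w * k * w⁻¹ * k⁻¹ = w * w'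
  rw [← hkw, inv_of_orderOf_two hw2]; group

/-- The odd core is transitive on the swappers. -/
theorem exists_conj_zSwap {a b : Ω} (hab : a ≠ b) {w w' : G} (hw : w ∈ zSwap Z a b) (hw' : w' ∈ zSwap Z a b) :
    ∃ k ∈ pairCore G a b, k * w * k⁻¹ = w' := by
  obtain ⟨k, hk, hkw⟩ := Cfsg.Agent.Invol.Bender.Cor.exists_conj_of_odd (S.invol w hw.1) (S.invol w' hw'.1) (S.odd_swap_mul hab hw hw')
  obtain ⟨i, rfl⟩ := Subgroup.mem_zpowers_iff.1 hk
  exact ⟨_, Subgroup.zpow_mem _ (S.swap_mul_mem hab hw hw') i, hkw⟩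

/-- Every member at `b` is carried to every member at `a` by a swapper of the pair. -/
theorem exists_zSwap_conj {a b : Ω} (hab : a ≠ b) {t s : G} (ht : t ∈ zAt Z a) (hs : s ∈ zAt Z b) :
    ∃ m ∈ zSwap Z a b, m * t * m⁻¹ = s := by
  obtain ⟨m, hm, -, hmt, hma⟩ := S.exists_swapper ht.1 hs.1 ht.2 hs.2 hab
  exact ⟨m, ⟨hm, hma⟩, hmt⟩

/-- The odd core is transitive on the members at a point of the pair. -/
theorem exists_conj_zAt {a b : Ω} (hab : a ≠ b) {s t : G} (hs : s ∈ zAt Z a) (ht : t ∈ zAt Z a) :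
    ∃ k ∈ pairCore G a b, k * s * k⁻¹ = t := by
  obtain ⟨r, hr⟩ := S.zAt_nonempty b
  obtain ⟨m, hm, hms⟩ := S.exists_zSwap_conj hab hs hr
  obtain ⟨n, hn, hnt⟩ := S.exists_zSwap_conj hab ht hr
  refine ⟨n * m, S.swap_mul_mem hab hn hm, ?_⟩
  calc n * m * s * (n * m)⁻¹ = n * (m * s * m⁻¹) * n⁻¹ := by group
    _ = n * (n * t * n⁻¹) * n⁻¹ := by rw [hms, hnt]
    _ = (n * n) * t * (n * n)⁻¹ := by group
    _ = t := by rw [mul_self_of_orderOf_two (S.invol n hn.1), one_mul, inv_one, mul_one]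

omit [Finite G] in
theorem zAt_conj {a : Ω} {g z : G} (hz : z ∈ zAt Z a) : g * z * g⁻¹ ∈ zAt Z (g • a) :=
  ⟨S.conj_mem g z hz.1, by rw [conj_smul_smul, hz.2]⟩

theorem card_zAt (a b : Ω) : Nat.card ↥(zAt Z a) = Nat.card ↥(zAt Z b) := by
  obtain ⟨g, rfl⟩ := S.exists_smul_eq a b
  refine Nat.card_congr ((MulAut.conj g).toEquiv.subtypeEquiv fun z => ⟨S.zAt_conj, fun h => ?_⟩)
  have := S.zAt_conj (g := g⁻¹) h
  simpa [mul_assoc] using this

/-- A pair has as many swappers in `Z` as a point has members. -/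
theorem card_zSwap {a b : Ω} (hab : a ≠ b) : Nat.card ↥(zSwap Z a b) = Nat.card ↥(zAt Z a) := by
  classical
  haveI := S.finite_points
  have := Fintype.ofFinite Ω
  have := Fintype.ofFinite G
  have hle : ∀ y : Ω, Nat.card ↥(zAt Z a) ≤ Nat.card ↥(zSwap Z a y) := by
    intro y
    rcases eq_or_ne a y with rfl | hy
    · exact le_of_eq rfl
    obtain ⟨r, hr⟩ := S.zAt_nonempty y
    have hex := fun s : ↥(zAt Z a) => S.exists_zSwap_conj hy s.2 hr
    choose m hm hms using hex
    refine Nat.card_le_card_of_injective (fun s => (⟨m s, hm s⟩ : ↥(zSwap Z a y))) fun s s' he => Subtype.ext ?_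
    have he' : m s = m s' := congrArg Subtype.val he
    have h1 := hms s
    rw [he', ← hms s'] at h1
    exact mul_left_cancel (mul_right_cancel h1)
  have hsum : ∑ _y : Ω, Nat.card ↥(zAt Z a) = ∑ y : Ω, Nat.card ↥(zSwap Z a y) := by
    have e1 : Nat.card ↥Z = ∑ y : Ω, Nat.card ↥(zAt Z y) := by
      rw [← Nat.card_sigma]
      refine Nat.card_congr (Equiv.ofBijective (fun p : (y : Ω) × ↥(zAt Z y) => (⟨(p.2 : G), p.2.2.1⟩ : ↥Z))
        ⟨?_, fun t => ?_⟩).symm
      · rintro ⟨y, t, ht⟩ ⟨y', t', ht'⟩ he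
        obtain rfl : t = t' := congrArg Subtype.val he
        obtain rfl := S.fix_unique ht.1 ht.2 ht'.2
        rfl
      · obtain ⟨y, hy⟩ := S.exists_fix t.2
        exact ⟨⟨y, t, t.2, hy⟩, rfl⟩
    have e2 : Nat.card ↥Z = ∑ y : Ω, Nat.card ↥(zSwap Z a y) := by
      rw [← Nat.card_sigma]
      exact Nat.card_congr
        { toFun := fun t => ⟨t.1 • a, t.1, t.2, rfl⟩
          invFun := fun p => ⟨p.2.1, p.2.2.1⟩
          left_inv := fun t => rfl
          right_inv := by rintro ⟨y, t, ht, rfl⟩; rfl }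
    rw [← e2, e1]
    exact Finset.sum_congr rfl fun y _ => S.card_zAt a y
  exact ((Finset.sum_eq_sum_iff_of_le fun y _ => hle y).1 hsum b (Finset.mem_univ _)).symm

/-- A swapper of a pair is determined by its effect on one member at a point of the pair. -/
theorem zSwap_conj_inj {a b : Ω} (hab : a ≠ b) {w w' t : G} (hw : w ∈ zSwap Z a b) (hw' : w' ∈ zSwap Z a b)
    (ht : t ∈ zAt Z a) (h : w * t * w⁻¹ = w' * t * w'⁻¹) : w = w' := by
  classical
  obtain ⟨s, hs⟩ : ∃ s, s = w * t * w⁻¹ := ⟨_, rfl⟩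
  have hsb : s ∈ zAt Z b := by
    have := S.zAt_conj (g := w) ht
    rw [hw.2] at this
    exact hs ▸ this
  have hex := fun r : ↥(zAt Z a) => S.exists_zSwap_conj hab r.2 hsb
  choose m hm hms using hex
  have hinj : Function.Injective (fun r => (⟨m r, hm r⟩ : ↥(zSwap Z a b))) := fun r r' he => Subtype.ext (by
    have he' : m r = m r' := congrArg Subtype.val he
    have h1 := hms r
    rw [he', ← hms r'] at h1
    exact mul_left_cancel (mul_right_cancel h1))
  have hsurj := ((Nat.bijective_iff_injective_and_card _).2 ⟨hinj, (S.card_zSwap hab).symm⟩).surjective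
  obtain ⟨r, hr⟩ := hsurj ⟨w, hw⟩
  obtain ⟨r', hr'⟩ := hsurj ⟨w', hw'⟩
  have e : m r = w := congrArg Subtype.val hr
  have e' : m r' = w' := congrArg Subtype.val hr'
  have h1 := hms r
  have h2 := hms r'
  rw [e, hs] at h1
  rw [e', hs, h] at h2
  rw [← e, ← e', show r = r' from Subtype.ext
    ((mul_left_cancel (mul_right_cancel h1)).trans (mul_left_cancel (mul_right_cancel h2)).symm)]

/-- The centraliser of a member at `a` covers the pair stabiliser modulo the odd core. -/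
theorem exists_core_mul_centralizer {a b : Ω} (hab : a ≠ b) {z : G} (hz : z ∈ zAt Z a) {g : G}
    (hg : g ∈ pairStab G a b) :
    ∃ k ∈ pairCore G a b, ∃ c ∈ pairStab G a b, Commute c z ∧ g = k * c := by
  have hz' : g * z * g⁻¹ ∈ zAt Z a := by
    have := S.zAt_conj (g := g) hz
    rwa [(mem_pair.1 hg).1] at this
  obtain ⟨k, hk, hkz⟩ := S.exists_conj_zAt hab hz hz'
  refine ⟨k, hk, k⁻¹ * g, Subgroup.mul_mem _ (Subgroup.inv_mem _ (pairCore_le a b hk)) hg, ?_, by group⟩
  show k⁻¹ * g * z = z * (k⁻¹ * g)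
  calc k⁻¹ * g * z = k⁻¹ * (g * z * g⁻¹) * g := by group
    _ = k⁻¹ * (k * z * k⁻¹) * g := by rw [hkz]
    _ = z * (k⁻¹ * g) := by group

/-- The centraliser of a swapper covers the pair stabiliser modulo the odd core. -/
theorem exists_core_mul_swapper {a b : Ω} (hab : a ≠ b) {w : G} (hw : w ∈ zSwap Z a b) {g : G}
    (hg : g ∈ pairStab G a b) :
    ∃ k ∈ pairCore G a b, ∃ c ∈ pairStab G a b, Commute c w ∧ g = k * c := by
  obtain ⟨hga, hgb⟩ := mem_pair.1 hg
  have hw' : g * w * g⁻¹ ∈ zSwap Z a b := by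
    refine ⟨S.conj_mem g w hw.1, ?_⟩
    conv_lhs => rw [← hga]
    rw [conj_smul_smul, hw.2, hgb]
  obtain ⟨k, hk, hkw⟩ := S.exists_conj_zSwap hab hw hw'
  refine ⟨k, hk, k⁻¹ * g, Subgroup.mul_mem _ (Subgroup.inv_mem _ (pairCore_le a b hk)) hg, ?_, by group⟩
  show k⁻¹ * g * w = w * (k⁻¹ * g)
  calc k⁻¹ * g * w = k⁻¹ * (g * w * g⁻¹) * g := by group
    _ = k⁻¹ * (k * w * k⁻¹) * g := by rw [hkw]
    _ = w * (k⁻¹ * g) := by group

/-- The triangle lemma: `u` at `d` interchanges `g` and `b`; the odd cores of the pairs `g, b` and `d, g` meet the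
triangle stabiliser in the same subgroup. -/
theorem triangle_inf {u : G} {d g b : Ω} (hu : u ∈ zAt Z d) (hg : u • g = b) (hgb : g ≠ b) :
    pairCore G g b ⊓ stabilizer G d = pairCore G d g ⊓ stabilizer G b := by
  haveI : Fact (Nat.Prime 2) := ⟨Nat.prime_two⟩
  have hdg : d ≠ g := fun e => hgb (by rw [← hg, ← e, hu.2, e])
  have hsw : u ∈ zSwap Z g b := ⟨hu.1, hg⟩
  obtain ⟨T, hT⟩ : ∃ T, T = pairStab G g b ⊓ stabilizer G d := ⟨_, rfl⟩
  have hTmem : ∀ {x : G}, x ∈ T ↔ (x • g = g ∧ x • b = b) ∧ x • d = d := by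
    intro x; rw [hT, Subgroup.mem_inf, mem_pair, mem_stabilizer_iff]
  -- an element commuting with `u` and fixing `g` lies in the triangle stabiliser
  have hC : ∀ {c : G}, c • g = g → Commute c u → c ∈ T := fun {c} hcg hcu => hTmem.2
    ⟨⟨hcg, by rw [← hg, ← mul_smul, hcu.eq, mul_smul, hcg]⟩, S.fix_of_commute hu.1 hu.2 hcu⟩
  have key : ∀ x y : Ω, T ≤ pairStab G x y →
      (∀ h ∈ pairStab G x y, ∃ k ∈ pairCore G x y, ∃ c ∈ T, h = k * c) → pairCore G x y ⊓ T = O' 2 T := by
    intro x y hTle hcov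
    have hTn : T ≤ normalizer (pairCore G x y : Set G) := hTle.trans (le_normalizer_core' _)
    refine le_antisymm (le_O' inf_le_right ?_ (Nat.coprime_two_right.2
      ((odd_pairCore x y).of_dvd_nat (Subgroup.card_dvd_of_le inf_le_left)))) (le_inf ?_ (O'_le 2 _))
    · intro t ht
      refine mem_normalizer_fintype fun r hr => ?_
      exact ⟨conj_mem_of_norm (hTn ht) hr.1,
        T.mul_mem (T.mul_mem ht hr.2) (T.inv_mem ht)⟩
    · obtain ⟨Y, hY⟩ : ∃ Y, Y = pairCore G x y ⊔ O' 2 T := ⟨_, rfl⟩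
      have hOn : O' 2 T ≤ normalizer (pairCore G x y : Set G) := (O'_le 2 _).trans hTn
      have hYodd : Odd (Nat.card Y) := by
        have h1 : Nat.card Y ∣ Nat.card (O' 2 T) * Nat.card (pairCore G x y) := by
          rw [hY, sup_comm]; exact Grp.card_sup_dvd_mul hOn
        exact ((Nat.coprime_two_right.1 (O'_coprime T)).mul (odd_pairCore x y)).of_dvd_nat h1
      have hYle : Y ≤ pairStab G x y := hY ▸ sup_le (pairCore_le x y) ((O'_le 2 _).trans hTle)
      have hYn : pairStab G x y ≤ normalizer (Y : Set G) := fun h hh => by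
        obtain ⟨k, hk, c, hc, rfl⟩ := hcov h hh
        refine Subgroup.mul_mem _ (le_normalizer (hY ▸ Subgroup.mem_sup_left hk)) ?_
        refine mem_normalizer_fintype fun r hr => ?_
        have hle : Y ≤ Y.comap (MulAut.conj c).toMonoidHom := by
          conv_lhs => rw [hY]
          refine sup_le (fun r hr => hY ▸ Subgroup.mem_sup_left ?_) (fun r hr => hY ▸ Subgroup.mem_sup_right ?_)
          · exact conj_mem_of_norm (hTn hc) hr
          · exact conj_mem_of_norm (le_normalizer_core' T hc) hr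
        exact hle hr
      have hle : Y ≤ pairCore G x y := le_O' hYle hYn (Nat.coprime_two_right.2 hYodd)
      exact fun r hr => hle (hY ▸ Subgroup.mem_sup_right hr)
  have h1 := key g b (hT ▸ inf_le_left) fun h hh => by
    obtain ⟨k, hk, c, hc, hcu, rfl⟩ := S.exists_core_mul_swapper hgb hsw hh
    exact ⟨k, hk, c, hC (mem_pair.1 hc).1 hcu, rfl⟩
  have h2 := key d g (fun x hx => mem_pair.2 ⟨(hTmem.1 hx).2, (hTmem.1 hx).1.1⟩) fun h hh => by
    obtain ⟨k, hk, c, hc, hcu, rfl⟩ := S.exists_core_mul_centralizer hdg hu hh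
    exact ⟨k, hk, c, hC (mem_pair.1 hc).2 hcu, rfl⟩
  have e1 : pairCore G g b ⊓ stabilizer G d = pairCore G g b ⊓ T :=
    le_antisymm (fun x hx => ⟨hx.1, hTmem.2 ⟨mem_pair.1 (pairCore_le g b hx.1), mem_stabilizer_iff.1 hx.2⟩⟩)
      fun x hx => ⟨hx.1, mem_stabilizer_iff.2 (hTmem.1 hx.2).2⟩
  have e2 : pairCore G d g ⊓ stabilizer G b = pairCore G d g ⊓ T :=
    le_antisymm (fun x hx => ⟨hx.1, hTmem.2 ⟨⟨(mem_pair.1 (pairCore_le d g hx.1)).2, mem_stabilizer_iff.1 hx.2⟩,
      (mem_pair.1 (pairCore_le d g hx.1)).1⟩⟩)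
      fun x hx => ⟨hx.1, mem_stabilizer_iff.2 (hTmem.1 hx.2).1.2⟩
  rw [e1, e2, h1, h2]

/-- In a triangle the odd cores have equal order. -/
theorem card_triangle {u : G} {d g b : Ω} (hu : u ∈ zAt Z d) (hg : u • g = b) (hgb : g ≠ b) :
    Nat.card (pairCore G g b) = Nat.card (pairCore G d g) := by
  have hdg : d ≠ g := fun e => hgb (by rw [← hg, ← e, hu.2, e])
  have hinf := S.triangle_inf hu hg hgb
  have e : pairCore G g b ⊓ centralizer ({u} : Set G) = pairCore G d g ⊓ centralizer ({u} : Set G) := by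
    refine le_antisymm ?_ ?_ <;> rintro x ⟨hx, hxu⟩ <;> refine ⟨?_, hxu⟩
    · have hxd : x • d = d := S.fix_of_commute hu.1 hu.2 (Subgroup.mem_centralizer_singleton_iff.1 hxu)
      exact (hinf.le ⟨hx, mem_stabilizer_iff.2 hxd⟩).1
    · have hxb : x • b = b := by
        rw [← hg, ← mul_smul, (Subgroup.mem_centralizer_singleton_iff.1 hxu : x * u = u * x), mul_smul,
          (mem_pair.1 (pairCore_le d g hx)).2]
      exact (hinf.ge ⟨hx, mem_stabilizer_iff.2 hxb⟩).1
  have h1 := card_centralizer_mul (R := pairCore G g b) (T := zSwap Z g b) (s := u) ⟨hu.1, hg⟩ (fun r hr t ht => by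
      obtain ⟨hrg, hrb⟩ := mem_pair.1 (pairCore_le g b hr)
      refine ⟨S.conj_mem r t ht.1, ?_⟩
      conv_lhs => rw [← hrg]
      rw [conj_smul_smul, ht.2, hrb]) fun t ht => S.exists_conj_zSwap hgb ⟨hu.1, hg⟩ ht
  have h2 := card_centralizer_mul (R := pairCore G d g) (T := zAt Z d) (s := u) hu (fun r hr t ht => by
      have := S.zAt_conj (g := r) ht
      rwa [(mem_pair.1 (pairCore_le d g hr)).1] at this) fun t ht => S.exists_conj_zAt hdg hu ht
  rw [← h1, ← h2, e, S.card_zSwap hgb, S.card_zAt g d]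

end Hyp

end Cfsg.Agent.Invol.Aschbacher
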