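import Cfsg.Agent.Lib.Invol.Aschbacher.Invariant
import Cfsg.Agent.Lib.Invol.Aschbacher.Pair
import Cfsg.Agent.Lib.Grp.CoprimeAbelian
import Cfsg.Agent.Lib.Invol.Bender.KerLocal

/-!
# Invariant `p`-groups with all inverted elements

For a member `w` of `Z` moving `a`, an invariant `p`-subgroup of the stabiliser of `a, w a` is full if it contains as
many inverted elements as an invariant Sylow subgroup.  If invariant Sylow subgroups move the point of `w`, so do
full subgroups; then no member normalising one has its point among the fixed points, and `w` is central in the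
normaliser modulo the odd core.
-/

set_option autoImplicit false
set_option linter.unusedSectionVars false

namespace Cfsg.Agent.Invol.Aschbacher

open MulAction Subgroup
open Cfsg.Agent.Invol.Bender (conj_smul_smul swap_symm pairStab mem_pair)
open scoped Pointwise

universe u v

variable {G : Type u} {Ω : Type v} [Group G] [MulAction G Ω] [Finite G] {Z : Set G}

/-- The `p`-part of the number of members at a point. -/
noncomputable def memPart (Z : Set G) (p : ℕ) (a : Ω) : ℕ := p ^ (Nat.card ↥(zAt Z a)).factorization p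

/-- A `w`-invariant `p`-subgroup of the stabiliser of `a, w a` with all inverted elements. -/
structure Full (Z : Set G) (p : ℕ) (w : G) (a : Ω) (W : Subgroup G) : Prop where
  mem : w ∈ Z
  ne : w • a ≠ a
  pgroup : IsPGroup p W
  le : W ≤ pairStab G a (w • a)
  norm : w ∈ normalizer (W : Set G)
  count : memPart Z p a ≤ Nat.card ↥(Bender.invertedBy w W)

/-- Invariant Sylow subgroups of pair stabilisers move the point of the swapper. -/
def CentreMoved (Ω : Type v) [MulAction G Ω] (Z : Set G) (p : ℕ) : Prop :=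
  ∀ w ∈ Z, ∀ a e : Ω, w • a ≠ a → w • e = e → ∀ P : Subgroup G,
    Grp.IsSylowIn p P (pairStab G a (w • a)) → w ∈ normalizer (P : Set G) → ¬ P ≤ stabilizer G e

theorem smul_fixed {W : Subgroup G} {g : G} (hg : g ∈ normalizer (W : Set G)) {x : Ω}
    (hx : W ≤ stabilizer G x) : W ≤ stabilizer G (g • x) := fun w hw => by
  have h1 := mem_stabilizer_iff.1 (hx (Bender.conj_mem_of_normalizer' hg hw))
  rw [mul_smul, mul_smul, inv_smul_eq_iff] at h1
  exact mem_stabilizer_iff.2 h1

namespace Hyp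

variable (S : Hyp G Ω Z)
include S

theorem pair_norm {w : G} (hw : w ∈ Z) (a : Ω) : w ∈ normalizer (pairStab G a (w • a) : Set G) := by
  have hw2 := S.invol w hw
  refine mem_normalizer_fintype fun y hy => ?_
  obtain ⟨h1, h2⟩ := mem_pair.1 hy
  refine mem_pair.2 ⟨?_, ?_⟩
  · conv_lhs => rw [← swap_symm hw2 (rfl : w • a = w • a)]
    rw [conj_smul_smul, h2, swap_symm hw2 rfl]
  · rw [conj_smul_smul, h1]

theorem pair_oddConj {w : G} (hw : w ∈ Z) {a : Ω} (ha : w • a ≠ a) : OddConj w (pairStab G a (w • a)) :=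
  fun x hx => S.odd_swap_mul (Ne.symm ha) ⟨hw, rfl⟩ ⟨S.conj_mem x w hw, by
    conv_lhs => rw [← (mem_pair.1 hx).1]
    rw [conj_smul_smul, (mem_pair.1 hx).2]⟩

/-- The pair stabiliser is transitive on the swappers. -/
theorem image_conj_eq {w : G} (hw : w ∈ Z) {a : Ω} (ha : w • a ≠ a) :
    (fun x => x * w * x⁻¹) '' (pairStab G a (w • a) : Set G) = zSwap Z a (w • a) := by
  refine Set.Subset.antisymm ?_ fun t ht => ?_
  · rintro _ ⟨x, hx, rfl⟩
    refine ⟨S.conj_mem x w hw, ?_⟩
    show (x * w * x⁻¹) • a = w • a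
    conv_lhs => rw [← (mem_pair.1 hx).1]
    rw [conj_smul_smul, (mem_pair.1 hx).2]
  · obtain ⟨k, hk, hkw⟩ := S.exists_conj_zSwap (Ne.symm ha) ⟨hw, rfl⟩ ht
    exact ⟨k, pairCore_le _ _ hk, hkw⟩

variable {p : ℕ} [hp : Fact p.Prime]

theorem card_inverted_pair (hp2 : p ≠ 2) {w : G} (hw : w ∈ Z) {a : Ω} (ha : w • a ≠ a) {P : Subgroup G}
    (hP : Grp.IsSylowIn p P (pairStab G a (w • a))) (hwP : w ∈ normalizer (P : Set G)) :
    Nat.card ↥(Bender.invertedBy w P) = memPart Z p a := by
  rw [QOdd.card_inverted hp2 (S.invol w hw) (S.pair_norm hw a) (S.pair_oddConj hw ha) hP hwP,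
    S.image_conj_eq hw ha, S.card_zSwap (Ne.symm ha)]
  rfl

theorem memPart_eq (a b : Ω) : memPart Z p a = memPart Z p b := by
  unfold memPart
  rw [S.card_zAt a b]

theorem full_sylow (hp2 : p ≠ 2) {w : G} (hw : w ∈ Z) {a : Ω} (ha : w • a ≠ a) {P : Subgroup G}
    (hP : Grp.IsSylowIn p P (pairStab G a (w • a))) (hwP : w ∈ normalizer (P : Set G)) : Full Z p w a P :=
  ⟨hw, ha, hP.2.1, hP.1, hwP, (S.card_inverted_pair hp2 hw ha hP hwP).ge⟩

/-- A swapper of a pair normalises each Sylow subgroup of the pair stabiliser. -/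
theorem exists_swapper_normalizer (hp2 : p ≠ 2) {h k : Ω} (hhk : h ≠ k) {W : Subgroup G}
    (hW : Grp.IsSylowIn p W (pairStab G h k)) :
    ∃ z ∈ zSwap Z h k, z ∈ normalizer (W : Set G) := by
  obtain ⟨s, hs⟩ := S.zAt_nonempty k
  obtain ⟨t, ht⟩ := S.zAt_nonempty h
  obtain ⟨w, hw, -⟩ := S.exists_zSwap_conj hhk ht hs
  have hwh : w • h ≠ h := by rw [hw.2]; exact hhk.symm
  obtain ⟨P, hP, hwP⟩ := exists_invariant_sylow (p := p) (S.invol w hw.1) (S.pair_norm hw.1 h)
    (S.pair_oddConj hw.1 hwh)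
  rw [hw.2] at hP
  obtain ⟨y, hy, hyW⟩ := hP.conj hW
  obtain ⟨hyh, hyk⟩ := mem_pair.1 hy
  refine ⟨y * w * y⁻¹, ⟨S.conj_mem y w hw.1, ?_⟩, mem_normalizer_fintype fun z hz => ?_⟩
  · conv_lhs => rw [← hyh]
    rw [conj_smul_smul, hw.2, hyk]
  · rw [← hyW] at hz ⊢
    obtain ⟨z₀, hz₀, rfl⟩ := hz
    refine ⟨w * z₀ * w⁻¹, Bender.conj_mem_of_normalizer hwP hz₀, ?_⟩
    simp [mul_assoc]

omit hp in
/-- A group of odd order normalised by two commuting members at a point fixes the point. -/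
theorem le_stabilizer_of_four {X : Subgroup G} (hX : Odd (Nat.card X)) {x y : G} {e : Ω} (hx : x ∈ zAt Z e)
    (hy : y ∈ Z) (hne : x ≠ y) (hxy : Commute x y) (hxX : x ∈ normalizer (X : Set G))
    (hyX : y ∈ normalizer (X : Set G)) : X ≤ stabilizer G e := by
  have hx2 := S.invol x hx.1
  have hy2 := S.invol y hy
  have hxx := mul_self_of_orderOf_two hx2
  have hyy := mul_self_of_orderOf_two hy2
  obtain ⟨A, hA⟩ : ∃ A, A = zpowers x ⊔ zpowers y := ⟨_, rfl⟩
  have hxA : x ∈ A := hA ▸ mem_sup_left (mem_zpowers x)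
  have hyA : y ∈ A := hA ▸ mem_sup_right (mem_zpowers y)
  have hmem : ∀ a ∈ A, a = 1 ∨ a = x ∨ a = y ∨ a = x * y := by
    intro a ha
    rw [hA, ← SetLike.mem_coe, coe_mul_of_right_le_normalizer_left _ _ (zpowers_le.2 (mem_normalizer_fintype
      fun g hg => by
        obtain ⟨k, rfl⟩ := mem_zpowers_iff.1 hg
        rw [show y * x ^ k * y⁻¹ = x ^ k by rw [← (hxy.zpow_left k).eq, mul_inv_cancel_right]]
        exact zpow_mem (mem_zpowers x) k))] at ha
    obtain ⟨b, hb, c, hc, rfl⟩ := ha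
    obtain ⟨k, rfl⟩ := mem_zpowers_iff.1 hb
    obtain ⟨l, rfl⟩ := mem_zpowers_iff.1 hc
    show x ^ k * y ^ l = 1 ∨ x ^ k * y ^ l = x ∨ x ^ k * y ^ l = y ∨ x ^ k * y ^ l = x * y
    rcases zpow_eq_one_or_self hx2 k with h | h <;> rcases zpow_eq_one_or_self hy2 l with h' | h' <;>
      simp [h, h']
  haveI : IsMulCommutative A := isMulCommutative_iff.2 fun a b => by
    refine Subtype.ext ?_
    have hxa : ∀ a ∈ A, Commute x a := fun a ha => by
      rcases hmem a ha with h | h | h | h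
      exacts [h ▸ Commute.one_right x, h.symm ▸ Commute.refl x, h.symm ▸ hxy,
        h.symm ▸ (Commute.refl x).mul_right hxy]
    have hya : ∀ a ∈ A, Commute y a := fun a ha => by
      rcases hmem a ha with h | h | h | h
      exacts [h ▸ Commute.one_right y, h.symm ▸ hxy.symm, h.symm ▸ Commute.refl y,
        h.symm ▸ hxy.symm.mul_right (Commute.refl y)]
    show (a : G) * b = b * a
    rcases hmem a a.2 with h | h | h | h <;> rw [h]
    · simp
    · exact hxa b b.2
    · exact hya b b.2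
    · exact (hxa b b.2).mul_left (hya b b.2)
  have hsq : ∀ a ∈ A, a * a = 1 := fun a ha => by
    rcases hmem a ha with h | h | h | h <;> rw [h]
    · exact one_mul 1
    · exact hxx
    · exact hyy
    · rw [hxy.eq, mul_assoc, ← mul_assoc x, hxy.eq, mul_assoc y, hxx, mul_one, hyy]
  have hnc : ¬ IsCyclic A := fun hc => by
    obtain ⟨g, hg⟩ := hc.exists_generator
    obtain ⟨i, hi⟩ := mem_zpowers_iff.1 (hg ⟨x, hxA⟩)
    obtain ⟨j, hj⟩ := mem_zpowers_iff.1 (hg ⟨y, hyA⟩)
    have hg2 : orderOf g ∣ 2 := orderOf_dvd_of_pow_eq_one (Subtype.ext (by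
      show ((g : G)) ^ 2 = 1
      rw [pow_two]; exact hsq g g.2))
    have h1 : orderOf (g : G) = 2 ∨ (g : G) = 1 := by
      rw [orderOf_coe]
      rcases (Nat.dvd_prime Nat.prime_two).1 hg2 with h | h
      · exact Or.inr (congrArg Subtype.val (orderOf_eq_one_iff.1 h))
      · exact Or.inl h
    have hi' : (g : G) ^ i = x := congrArg Subtype.val hi
    have hj' : (g : G) ^ j = y := congrArg Subtype.val hj
    rcases h1 with h1 | h1
    · rcases zpow_eq_one_or_self h1 i with h | h <;> rw [h] at hi'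
      · rw [← hi', orderOf_one] at hx2; omega
      · rcases zpow_eq_one_or_self h1 j with h' | h' <;> rw [h'] at hj'
        · rw [← hj', orderOf_one] at hy2; omega
        · exact hne (hi'.symm.trans hj')
    · rw [h1, one_zpow] at hi'
      rw [← hi', orderOf_one] at hx2; omega
  have hA2 : ∀ a ∈ A, a ≠ 1 → ∀ c : G, Commute c a → c • e = e := by
    have hye : y • e = e := S.fix_of_commute hx.1 hx.2 hxy.symm
    intro a ha ha1 c hc
    rcases hmem a ha with h | h | h | h <;> rw [h] at hc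
    · exact absurd h ha1
    · exact S.fix_of_commute hx.1 hx.2 hc
    · exact S.fix_of_commute hy hye hc
    · exact S.fix_of_commute (S.mul_mem hx.1 hy hne hxy) (by rw [mul_smul, hye, hx.2]) hc
  have hAX : A ≤ normalizer (X : Set G) := hA ▸ sup_le (zpowers_le.2 hxX) (zpowers_le.2 hyX)
  obtain ⟨-, hcop⟩ := Bender.four_coprime hx2 hy2 hxy
  rw [← Grp.generated_by_centralizers A X hnc hAX (hA ▸ hcop X hX)]
  refine iSup₂_le fun a ha c hc => mem_stabilizer_iff.2 (hA2 a ha.1 ha.2 c ?_)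
  exact mem_centralizer_singleton_iff.1 (Subgroup.mem_inf.1 hc).2

variable {w : G} {a : Ω} {W : Subgroup G}

omit hp in
theorem smul_ne_of_fix {u : G} {d g : Ω} (hu : u ∈ zAt Z d) (hg : g ≠ d) : u • g ≠ g :=
  fun e => hg (S.fix_unique hu.1 e hu.2)

/-- An invariant Sylow subgroup containing enough inverted elements of a subgroup fixing the point fixes it. -/
theorem le_stabilizer_of_count (hp2 : p ≠ 2) {w : G} (hw : w ∈ Z) {a e : Ω} (ha : w • a ≠ a) (he : w • e = e)
    {P V : Subgroup G} (hP : Grp.IsSylowIn p P (pairStab G a (w • a))) (hwP : w ∈ normalizer (P : Set G))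
    (hVP : V ≤ P) (hVe : V ≤ stabilizer G e) (hV : memPart Z p a ≤ Nat.card ↥(Bender.invertedBy w V)) :
    P ≤ stabilizer G e := by
  have hw2 := S.invol w hw
  have heq : Bender.invertedBy w V = Bender.invertedBy w P :=
    Set.eq_of_subset_of_ncard_le (fun y hy => ⟨hVP hy.1, hy.2⟩) (by
      rw [← Nat.card_coe_set_eq, ← Nat.card_coe_set_eq, S.card_inverted_pair hp2 hw ha hP hwP]
      exact hV) (Set.toFinite _)
  obtain ⟨R, hR⟩ : ∃ R, R = P ⊓ stabilizer G e := ⟨_, rfl⟩
  have hwR : w ∈ normalizer (R : Set G) := mem_normalizer_fintype fun y hy => by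
    rw [hR] at hy ⊢
    refine ⟨Bender.conj_mem_of_normalizer hwP hy.1, mem_stabilizer_iff.2 ?_⟩
    conv_lhs => rw [← he]
    rw [conj_smul_smul, mem_stabilizer_iff.1 hy.2, he]
  have hodd := QOdd.odd_of_isPGroup hp2 hP.2.1
  have hRP : R ≤ P := hR ▸ inf_le_left
  have h1 := Bender.card_inverted_mul hw2 hodd hwP
  have h2 := Bender.card_inverted_mul hw2 (hodd.of_dvd_nat (Subgroup.card_dvd_of_le hRP)) hwR
  have e1 : Bender.invertedBy w R = Bender.invertedBy w P := Set.Subset.antisymm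
    (fun y hy => ⟨hRP hy.1, hy.2⟩) fun y hy => ⟨hR ▸ ⟨hy.1, hVe (heq.ge hy).1⟩, hy.2⟩
  have e2 : R ⊓ centralizer ({w} : Set G) = P ⊓ centralizer ({w} : Set G) := by
    refine le_antisymm (inf_le_inf_right _ hRP) fun y hy => ⟨hR ▸ ⟨hy.1, ?_⟩, hy.2⟩
    exact mem_stabilizer_iff.2 (S.fix_of_commute hw he (mem_centralizer_singleton_iff.1 hy.2))
  rw [e1, e2, h1] at h2
  have : R = P := Subgroup.eq_of_le_of_card_ge hRP h2.le
  exact this ▸ hR ▸ inf_le_right

/-- A full subgroup moves the point of the swapper. -/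
theorem full_moves (hp2 : p ≠ 2) (hM : CentreMoved Ω Z p) (hW : Full Z p w a W) {e : Ω} (he : w • e = e) :
    ¬ W ≤ stabilizer G e := by
  intro hWe
  obtain ⟨P, hP, hwP, hWP⟩ := QOdd.exists_sylow_ge hp2 (S.invol w hW.mem) (S.pair_norm hW.mem a)
    (S.pair_oddConj hW.mem hW.ne) hW.le hW.pgroup hW.norm
  exact hM w hW.mem a e hW.ne he P hP hwP
    (S.le_stabilizer_of_count hp2 hW.mem hW.ne he hP hwP hWP hWe hW.count)

/-- No member normalising a full subgroup has its point among the fixed points. -/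
theorem full_no_centre (hp2 : p ≠ 2) (hM : CentreMoved Ω Z p) (hW : Full Z p w a W) {z : G} (hz : z ∈ Z)
    (hzW : z ∈ normalizer (W : Set G)) {f : Ω} (hf : z • f = f) : ¬ W ≤ stabilizer G f := by
  obtain ⟨e, he⟩ := S.exists_fix hW.mem
  intro hWf
  rcases eq_or_ne e f with rfl | hef
  · exact S.full_moves hp2 hM hW he hWf
  obtain ⟨m, hm, hmc, -, hme⟩ := S.exists_swapper hW.mem hz he hf hef
  have hmW : m ∈ normalizer (W : Set G) := by
    refine (Subgroup.closure_le _).2 ?_ hmc
    rintro g (rfl | rfl)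
    exacts [hW.norm, hzW]
  refine S.full_moves hp2 hM hW he ?_
  rw [← swap_symm (S.invol m hm) hme]
  exact smul_fixed hmW hWf

/-- Members normalising a full subgroup have products of odd order. -/
theorem full_odd_product (hp2 : p ≠ 2) (hM : CentreMoved Ω Z p) (hW : Full Z p w a W) {z t : G} (hz : z ∈ Z)
    (hzW : z ∈ normalizer (W : Set G)) (ht : t ∈ Z) (htW : t ∈ normalizer (W : Set G)) :
    Odd (orderOf (z * t)) := by
  obtain ⟨e, he⟩ := S.exists_fix hz
  refine Nat.not_even_iff_odd.1 fun hev => ?_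
  obtain ⟨r, hr⟩ := hev
  obtain ⟨c, hc⟩ : ∃ c, c = (z * t) ^ r := ⟨_, rfl⟩
  have hz2 := S.invol z hz
  have hc2 : orderOf c = 2 := by
    have h0 := orderOf_pos (z * t)
    rw [hc, orderOf_pow, hr, Nat.gcd_eq_right ⟨2, by ring⟩, ← two_mul]
    exact Nat.mul_div_cancel _ (by omega)
  have h1 : Commute z c := by
    have h2 := mul_zpow_comm hz2 (S.invol t ht) (r : ℤ)
    rw [zpow_natCast, zpow_neg, zpow_natCast, ← hc, inv_of_orderOf_two hc2] at h2
    exact h2
  have h3 : Commute t c := by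
    have hh : Commute (z * t) c := hc ▸ Commute.self_pow (z * t) r
    have := h1.mul_left hh
    rwa [← y_eq hz2] at this
  by_cases hcZ : c ∈ Z
  · rcases eq_or_ne z c with rfl | hzc
    · -- then `z` and `t` commute and `z t` is their product
      have hzt : Commute z t := h3.symm
      rcases eq_or_ne z t with rfl | hne
      · rw [mul_self_of_orderOf_two hz2, one_pow] at hc
        rw [hc, orderOf_one] at hc2; omega
      exact S.full_no_centre hp2 hM hW hz hzW he
        (S.le_stabilizer_of_four (QOdd.odd_of_isPGroup hp2 hW.pgroup) ⟨hz, he⟩ ht hne hzt hzW htW)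
    · refine S.full_no_centre hp2 hM hW hz hzW he
        (S.le_stabilizer_of_four (QOdd.odd_of_isPGroup hp2 hW.pgroup) ⟨hz, he⟩ hcZ hzc h1 hzW ?_)
      exact hc ▸ Subgroup.pow_mem _ (Subgroup.mul_mem _ hzW htW) r
  · refine S.notMem_lgen c hc2 hcZ ?_
    have h4 := Subgroup.pow_mem _ (Subgroup.mul_mem _ (mem_lgen hz h1) (mem_lgen ht h3)) r
    rwa [← hc] at h4

theorem full_oddConj (hp2 : p ≠ 2) (hM : CentreMoved Ω Z p) (hW : Full Z p w a W) :
    OddConj w (normalizer (W : Set G)) := fun x hx =>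
  S.full_odd_product hp2 hM hW hW.mem hW.norm (S.conj_mem x w hW.mem)
    (MulMemClass.mul_mem (MulMemClass.mul_mem hx hW.norm) (inv_mem hx))

/-- Members normalising a full subgroup differ by elements of the odd core of the normaliser. -/
theorem full_mul_mem (hp2 : p ≠ 2) (hM : CentreMoved Ω Z p) (hW : Full Z p w a W) {z t : G} (hz : z ∈ Z)
    (hzW : z ∈ normalizer (W : Set G)) (ht : t ∈ Z) (htW : t ∈ normalizer (W : Set G)) :
    z * t ∈ oddIn (normalizer (W : Set G)) := by
  obtain ⟨N, hN⟩ : ∃ N, N = normalizer (W : Set G) := ⟨_, rfl⟩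
  have key : ∀ {t : G}, t ∈ Z → t ∈ normalizer (W : Set G) → w * t ∈ oddIn (normalizer (W : Set G)) := by
    intro t ht htW
    obtain ⟨k, hk, hkw⟩ := Bender.Cor.exists_conj_of_odd (S.invol w hW.mem) (S.invol t ht)
      (S.full_odd_product hp2 hM hW hW.mem hW.norm ht htW)
    have hkN : k ∈ normalizer (W : Set G) := by
      obtain ⟨i, rfl⟩ := mem_zpowers_iff.1 hk
      exact zpow_mem (MulMemClass.mul_mem hW.norm htW) i
    have h1 := commutator_mem_oddIn (S.invol w hW.mem) (le_normalizer hW.norm) (S.full_oddConj hp2 hM hW) hkN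
    rw [← hkw]
    convert h1 using 1
    rw [inv_of_orderOf_two (S.invol w hW.mem)]
    group
  have h := MulMemClass.mul_mem (inv_mem (key hz hzW)) (key ht htW)
  rwa [mul_inv_rev, inv_of_orderOf_two (S.invol z hz), inv_of_orderOf_two (S.invol w hW.mem), mul_assoc,
    ← mul_assoc w, mul_self_of_orderOf_two (S.invol w hW.mem), one_mul] at h

/-- A member normalising a full subgroup moves every orbit of the odd core on the fixed points. -/
theorem full_orbit (hp2 : p ≠ 2) (hM : CentreMoved Ω Z p) (hW : Full Z p w a W) {z : G} (hz : z ∈ Z)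
    (hzW : z ∈ normalizer (W : Set G)) {h : Ω} (hh : W ≤ stabilizer G h) {o : G}
    (ho : o ∈ oddIn (normalizer (W : Set G))) : z • h ≠ o • h := by
  intro he
  obtain ⟨N, hN⟩ : ∃ N, N = oddIn (normalizer (W : Set G)) := ⟨_, rfl⟩
  have hz2 := S.invol z hz
  have hzz := mul_self_of_orderOf_two hz2
  have hzN : z ∈ normalizer (N : Set G) := hN ▸ oddIn_normalized _ hzW
  have hNodd : Odd (Nat.card N) := hN ▸ odd_oddIn _
  rw [← hN] at ho
  obtain ⟨t, ht⟩ : ∃ t, t = o⁻¹ * z := ⟨_, rfl⟩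
  have hth : t • h = h := by rw [ht, mul_smul, he, inv_smul_smul]
  have htt : t * t ∈ N := by
    have := Subgroup.mul_mem _ (N.inv_mem ho) (Bender.conj_mem_of_normalizer hzN (N.inv_mem ho))
    rw [inv_of_orderOf_two hz2] at this
    rw [ht]
    simpa [mul_assoc] using this
  obtain ⟨i, hi⟩ := hNodd.of_dvd_nat (Subgroup.orderOf_dvd_natCard _ htt)
  obtain ⟨y, hy⟩ : ∃ y, y = t * (t * t) ^ i := ⟨_, rfl⟩
  have hyy : y * y = 1 := by
    have hc : Commute t ((t * t) ^ i) := ((Commute.refl t).mul_right (Commute.refl t)).pow_right i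
    calc y * y = t * t * ((t * t) ^ i * (t * t) ^ i) := by
          rw [hy, mul_assoc, ← mul_assoc ((t * t) ^ i) t, ← hc.eq]; group
      _ = (t * t) ^ (2 * i + 1) := by rw [pow_succ', two_mul, pow_add]
      _ = 1 := by rw [← hi, pow_orderOf_eq_one]
  have hyz : y * z ∈ N := by
    have h1 : (t * t) ^ i ∈ N := N.pow_mem htt i
    have h2 : z * (t * t) ^ i * z⁻¹ ∈ N := Bender.conj_mem_of_normalizer hzN h1
    rw [inv_of_orderOf_two hz2] at h2
    rw [hy, ht] at *
    simpa [mul_assoc] using N.mul_mem (N.inv_mem ho) h2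
  have hy1 : y ≠ 1 := fun e => by
    rw [e, one_mul] at hyz
    have := hNodd.of_dvd_nat (Subgroup.orderOf_dvd_natCard _ hyz)
    rw [hz2] at this
    exact absurd this (by decide)
  have hy2 : orderOf y = 2 := orderOf_two_iff.2 ⟨hyy, hy1⟩
  obtain ⟨k, hk, hkz⟩ := Bender.Cor.exists_conj_of_odd hz2 hy2 (by
    rw [show z * y = (y * z)⁻¹ by rw [mul_inv_rev, inv_of_orderOf_two hz2, inv_of_orderOf_two hy2], orderOf_inv]
    exact hNodd.of_dvd_nat (Subgroup.orderOf_dvd_natCard _ hyz))
  have hyZ : y ∈ Z := hkz ▸ S.conj_mem k z hz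
  have hyW : y ∈ normalizer (W : Set G) := by
    have h1 : y * z ∈ normalizer (W : Set G) := oddIn_le _ (hN ▸ hyz)
    have := MulMemClass.mul_mem h1 hzW
    rwa [mul_assoc, hzz, mul_one] at this
  refine S.full_no_centre hp2 hM hW hyZ hyW ?_ hh
  rw [hy]
  have h2 : (t * t) • h = h := by rw [mul_smul, hth, hth]
  exact mem_stabilizer_iff.1 (MulMemClass.mul_mem (mem_stabilizer_iff.2 hth) (pow_mem (mem_stabilizer_iff.2 h2) i))

/-- If members normalising a full subgroup interchange all pairs of its fixed points, there are only two. -/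
theorem full_pairing (hp2 : p ≠ 2) (hM : CentreMoved Ω Z p) (hW : Full Z p w a W)
    (hall : ∀ h k : Ω, W ≤ stabilizer G h → W ≤ stabilizer G k → h ≠ k →
      ∃ z ∈ Z, z ∈ normalizer (W : Set G) ∧ z • h = k)
    {x : Ω} (hx : W ≤ stabilizer G x) : x = a ∨ x = w • a := by
  by_contra hcon
  push Not at hcon
  have hWa : W ≤ stabilizer G a := hW.le.trans inf_le_left
  have hWb : W ≤ stabilizer G (w • a) := hW.le.trans inf_le_right
  obtain ⟨z, hz, hzW, hza⟩ := hall a x hWa hx hcon.1.symm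
  obtain ⟨z', hz', hz'W, hz'x⟩ := hall (w • a) x hWb hx hcon.2.symm
  refine S.full_orbit hp2 hM hW hz' hz'W hWb (S.full_mul_mem hp2 hM hW hz hzW hW.mem hW.norm) ?_
  rw [hz'x, mul_smul, swap_symm (S.invol w hW.mem) rfl, hza]

end Hyp

end Cfsg.Agent.Invol.Aschbacher
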