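import Cfsg.Agent.Lib.Invol.ZStar
import Cfsg.Agent.Lib.Invol.Bender.Block
import Cfsg.Agent.Lib.Invol.Bender.SylowCore
import Cfsg.Agent.Lib.Grp.Basic

/-!
# The odd core of a subgroup normalised by an isolated involution

If the products of an involution with its conjugates under a subgroup `X` which it normalises all have odd order, then
it centralises `X` modulo the odd core, so `X` has invariant Sylow subgroups; a subgroup covering `X` modulo the odd
core has its normal subgroups of odd order inside that core.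
-/

set_option autoImplicit false
set_option linter.unusedSectionVars false

namespace Cfsg.Agent.Invol.Aschbacher

open Subgroup Cfsg.Agent.Transfer.Loc
open Cfsg.Agent.Invol.Bender (conj_mem_of_normalizer conj_mem_of_normalizer' zpowers_le_normalizer coprime_two_odd
  eq_one_of_sq_of_odd mem_normalizer_O')
open scoped Pointwise

universe u

variable {G : Type u} [Group G] [Finite G]

/-- `O(X)` as a subgroup of the ambient group. -/
abbrev oddIn (X : Subgroup G) : Subgroup G := O' 2 X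

theorem oddIn_le (X : Subgroup G) : oddIn X ≤ X := O'_le 2 X

theorem odd_oddIn (X : Subgroup G) : Odd (Nat.card (oddIn X)) := by
  haveI : Fact (Nat.Prime 2) := ⟨Nat.prime_two⟩
  exact Nat.coprime_two_right.1 (O'_coprime X)

theorem oddIn_normalized (X : Subgroup G) : X ≤ normalizer (oddIn X : Set G) := le_normalizer_core' X

theorem le_oddIn {N X : Subgroup G} (hN : N ≤ X) (hX : X ≤ normalizer (N : Set G)) (hodd : Odd (Nat.card N)) :
    N ≤ oddIn X := by
  haveI : Fact (Nat.Prime 2) := ⟨Nat.prime_two⟩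
  exact le_O' hN hX (Nat.coprime_two_right.2 hodd)

/-- The products of `w` with its conjugates under `X` have odd order. -/
def OddConj (w : G) (X : Subgroup G) : Prop := ∀ x ∈ X, Odd (orderOf (w * (x * w * x⁻¹)))

theorem OddConj.mono {w : G} {X Y : Subgroup G} (h : OddConj w X) (hle : Y ≤ X) : OddConj w Y :=
  fun x hx => h x (hle hx)

variable {w : G} {X : Subgroup G}

/-- An involution whose products with its conjugates under `X` are odd centralises `X` modulo the odd core. -/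
theorem commutator_mem_oddIn (hw : orderOf w = 2) (hwX : w ∈ normalizer (X : Set G)) (hiso : OddConj w X)
    {x : G} (hx : x ∈ X) : w * x * w⁻¹ * x⁻¹ ∈ oddIn X := by
  obtain ⟨H, hH⟩ : ∃ H, H = X ⊔ Subgroup.zpowers w := ⟨_, rfl⟩
  have hXH : X ≤ H := hH ▸ le_sup_left
  have hwH : w ∈ H := hH ▸ mem_sup_right (mem_zpowers w)
  have hrep : ∀ g ∈ H, ∃ y ∈ X, g * w * g⁻¹ = y * w * y⁻¹ := by
    intro g hg
    rw [hH, ← SetLike.mem_coe, Subgroup.coe_mul_of_right_le_normalizer_left X (Subgroup.zpowers w)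
      (zpowers_le_normalizer hwX)] at hg
    obtain ⟨y, hy, e, he, rfl⟩ := hg
    obtain ⟨k, rfl⟩ := mem_zpowers_iff.1 he
    refine ⟨y, hy, ?_⟩
    calc y * w ^ k * w * (y * w ^ k)⁻¹ = y * (w ^ k * w * (w ^ k)⁻¹) * y⁻¹ := by group
      _ = _ := by rw [((Commute.refl w).zpow_left k).eq, mul_inv_cancel_right]
  have hisol : Cfsg.IsIsolatedInvolution (⟨w, hwH⟩ : H) := by
    refine ⟨by rw [← Subgroup.orderOf_coe]; exact hw, fun g hc => Subtype.ext ?_⟩
    obtain ⟨y, hy, e⟩ := hrep g g.2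
    show (g : G) * w * (g : G)⁻¹ = w
    have hc' : Commute w ((g : G) * w * (g : G)⁻¹) := congrArg Subtype.val hc.eq
    rw [e] at hc' ⊢
    have h2 : orderOf (y * w * y⁻¹) = 2 := (orderOf_conj_eq y w).trans hw
    obtain ⟨n, hn⟩ := hiso y hy
    have hsq : (w * (y * w * y⁻¹)) * (w * (y * w * y⁻¹)) = 1 := by
      calc w * (y * w * y⁻¹) * (w * (y * w * y⁻¹)) = w * ((y * w * y⁻¹) * w) * (y * w * y⁻¹) := by group
        _ = w * (w * (y * w * y⁻¹)) * (y * w * y⁻¹) := by rw [hc'.eq]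
        _ = (w * w) * ((y * w * y⁻¹) * (y * w * y⁻¹)) := by group
        _ = 1 := by rw [mul_self_of_orderOf_two hw, mul_self_of_orderOf_two h2, one_mul]
    have h1 : w * (y * w * y⁻¹) = 1 := by
      have h3 := pow_orderOf_eq_one (w * (y * w * y⁻¹))
      rwa [hn, pow_succ, pow_mul, pow_two, hsq, one_pow, one_mul] at h3
    rw [mul_eq_one_iff_eq_inv, inv_of_orderOf_two h2] at h1
    exact h1.symm
  obtain ⟨N, hNn, hNodd, hNw⟩ := ZStar.exists_odd_normal hisol
  obtain ⟨N', hN'⟩ : ∃ N', N' = N.map H.subtype ⊓ X := ⟨_, rfl⟩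
  have hle : N' ≤ oddIn X := by
    refine le_oddIn (hN' ▸ inf_le_right) ?_ ?_
    · intro y hy
      refine mem_normalizer_fintype fun k hk => ?_
      rw [hN'] at hk ⊢
      obtain ⟨⟨k, hk, rfl⟩, hkX⟩ := hk
      exact ⟨⟨⟨y, hXH hy⟩ * k * ⟨y, hXH hy⟩⁻¹, hNn.conj_mem k hk _, rfl⟩,
        X.mul_mem (X.mul_mem hy hkX) (X.inv_mem hy)⟩
    · refine hNodd.of_dvd_nat ((Subgroup.card_dvd_of_le (hN' ▸ inf_le_left)).trans ?_)
      rw [Subgroup.card_map_of_injective H.subtype_injective]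
  refine hle ?_
  rw [hN']
  refine ⟨⟨_, hNw ⟨x, hXH hx⟩, rfl⟩, X.mul_mem (conj_mem_of_normalizer hwX hx) (X.inv_mem hx)⟩

/-- An element which an involution moves inside an odd normal subgroup is a product of an element of that subgroup
and a fixed one. -/
theorem exists_mul_fixed (hw : orderOf w = 2) {N : Subgroup G} (hodd : Odd (Nat.card N)) {x : G}
    (hwx : w * x * w⁻¹ * x⁻¹ ∈ N) : ∃ r ∈ N, ∃ c : G, Commute c w ∧ x = r * c := by
  obtain ⟨r, hr⟩ : ∃ r, r = x * w * x⁻¹ * w⁻¹ := ⟨_, rfl⟩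
  have hrO : r ∈ N := by
    have h1 := N.inv_mem hwx
    rw [hr]
    convert h1 using 1
    group
  obtain ⟨n, hn⟩ := hodd.of_dvd_nat (Subgroup.orderOf_dvd_natCard _ hrO)
  have hww := mul_self_of_orderOf_two hw
  have hwr : w * r * w⁻¹ = r⁻¹ := by
    rw [hr, inv_of_orderOf_two hw]
    calc w * (x * w * x⁻¹ * w) * w = w * x * w * x⁻¹ * (w * w) := by group
      _ = w⁻¹ * x * w⁻¹ * x⁻¹ := by rw [hww, mul_one, inv_of_orderOf_two hw]
      _ = _ := by group
  obtain ⟨k, hk⟩ : ∃ k, k = r ^ (n + 1) := ⟨_, rfl⟩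
  have hk2 : k * k = r := by
    rw [hk, ← pow_add, show n + 1 + (n + 1) = orderOf r + 1 by omega, pow_succ, pow_orderOf_eq_one, one_mul]
  have hkw : w * k * w⁻¹ = k⁻¹ := by rw [hk, ← conj_pow, hwr, inv_pow]
  refine ⟨k, hk ▸ pow_mem hrO _, k⁻¹ * x, ?_, by rw [mul_inv_cancel_left]⟩
  have e1 : k * k = x * w * x⁻¹ * w⁻¹ := hk2.trans hr
  have e2 : w * k⁻¹ * w⁻¹ = k := by
    rw [show w * k⁻¹ * w⁻¹ = (w * k * w⁻¹)⁻¹ by group, hkw, inv_inv]
  show k⁻¹ * x * w = w * (k⁻¹ * x)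
  calc k⁻¹ * x * w = k⁻¹ * (x * w * x⁻¹ * w⁻¹) * (w * x) := by group
    _ = k * (w * x) := by rw [← e1]; group
    _ = (w * k⁻¹ * w⁻¹) * (w * x) := by rw [e2]
    _ = _ := by group

/-- The subgroup is the product of its odd core and the centraliser of the involution. -/
theorem exists_oddIn_mul (hw : orderOf w = 2) (hwX : w ∈ normalizer (X : Set G)) (hiso : OddConj w X)
    {x : G} (hx : x ∈ X) : ∃ r ∈ oddIn X, ∃ c ∈ X, Commute c w ∧ x = r * c := by
  obtain ⟨r, hr, c, hc, rfl⟩ := exists_mul_fixed hw (odd_oddIn X) (commutator_mem_oddIn hw hwX hiso hx)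
  refine ⟨r, hr, c, ?_, hc, rfl⟩
  simpa using X.mul_mem (X.inv_mem (oddIn_le X hr)) hx

/-- A normal subgroup of odd order of a subgroup covering `X` modulo the odd core lies in the odd core. -/
theorem le_oddIn_of_cover {A N : Subgroup G} (hAX : A ≤ X) (hNA : N ≤ A) (hAN : A ≤ normalizer (N : Set G))
    (hodd : Odd (Nat.card N)) (hcover : X ≤ oddIn X ⊔ A) : N ≤ oddIn X := by
  have hNn : N ≤ normalizer (oddIn X : Set G) := (hNA.trans hAX).trans (oddIn_normalized X)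
  refine le_sup_left.trans (le_oddIn (N := N ⊔ oddIn X) (sup_le (hNA.trans hAX) (oddIn_le X)) ?_ ?_)
  · refine (hcover.trans (sup_le (fun r hr => ?_) fun a ha => ?_))
    · exact le_normalizer (mem_sup_right hr)
    · refine mem_normalizer_fintype fun y hy => ?_
      rw [Subgroup.coe_mul_of_left_le_normalizer_right N (oddIn X) hNn]
      rw [Subgroup.coe_mul_of_left_le_normalizer_right N (oddIn X) hNn] at hy
      obtain ⟨m, hm, r, hr, rfl⟩ := hy
      exact ⟨a * m * a⁻¹, conj_mem_of_normalizer (hAN ha) hm, a * r * a⁻¹,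
        conj_mem_of_normalizer (oddIn_normalized X (hAX ha)) hr, by group⟩
  · refine (hodd.mul (odd_oddIn X)).of_dvd_nat ⟨_, (Grp.card_sup_mul_card_inf hNn).symm⟩

variable {p : ℕ} [hp : Fact p.Prime]

/-- A subgroup normalised by such an involution has an invariant Sylow subgroup for each prime. -/
theorem exists_invariant_sylow (hw : orderOf w = 2) (hwX : w ∈ normalizer (X : Set G)) (hiso : OddConj w X) :
    ∃ P, Grp.IsSylowIn p P X ∧ w ∈ normalizer (P : Set G) := by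
  classical
  obtain ⟨N, hN⟩ : ∃ N, N = oddIn X := ⟨_, rfl⟩
  have hNX : N ≤ X := hN ▸ oddIn_le X
  obtain ⟨P₁, hP₁, hwP₁⟩ := Grp.exists_invariant_sylow (Subgroup.zpowers w) N
    (zpowers_le_normalizer (hN ▸ mem_normalizer_O' hwX)) (coprime_two_odd hw (hN ▸ odd_oddIn X)) (Or.inl inferInstance) p
  obtain ⟨Y, hY⟩ : ∃ Y, Y = X ⊓ normalizer (P₁ : Set G) ⊓ centralizer ({w} : Set G) := ⟨_, rfl⟩
  obtain ⟨P₂, hP₂⟩ := Grp.exists_isSylowIn p Y
  have hwP₁' : w ∈ normalizer (P₁ : Set G) := hwP₁ (mem_zpowers w)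
  have hP₂X : P₂ ≤ X := hP₂.1.trans (hY ▸ inf_le_left.trans inf_le_left)
  have hP₂n : P₂ ≤ normalizer (P₁ : Set G) := hP₂.1.trans (hY ▸ inf_le_left.trans inf_le_right)
  have hP₂w : ∀ y ∈ P₂, Commute y w := fun y hy => by
    have h := hP₂.1 hy
    rw [hY] at h
    exact mem_centralizer_singleton_iff.1 h.2
  obtain ⟨P, hP⟩ : ∃ P, P = P₁ ⊔ P₂ := ⟨_, rfl⟩
  have hPX : P ≤ X := hP ▸ sup_le (hP₁.1.trans hNX) hP₂X
  have hPp : IsPGroup p P := hP ▸ hP₁.2.1.to_sup_of_normal_left' hP₂.2.1 hP₂n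
  refine ⟨P, ⟨hPX, hPp, fun hdvd => ?_⟩, ?_⟩
  swap
  · refine mem_normalizer_fintype fun y hy => ?_
    rw [hP, Subgroup.coe_mul_of_right_le_normalizer_left P₁ P₂ hP₂n] at hy ⊢
    obtain ⟨a, ha, b, hb, rfl⟩ := hy
    refine ⟨w * a * w⁻¹, conj_mem_of_normalizer hwP₁' ha, b, hb, ?_⟩
    show w * a * w⁻¹ * b = w * (a * b) * w⁻¹
    rw [show w * (a * b) * w⁻¹ = w * a * (b * w⁻¹) by group, ((hP₂w b hb).inv_right).eq]
    group
  have hwN : w ∈ normalizer (N : Set G) := hN ▸ mem_normalizer_O' hwX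
  have hcover : X = Y ⊔ N := by
    refine le_antisymm (fun x hx => ?_) (sup_le (hY ▸ inf_le_left.trans inf_le_left) hNX)
    have hs : Grp.IsSylowIn p (MulAut.conj x • P₁) N :=
      hP₁.smul (Grp.normalizer_le_smul (hN ▸ oddIn_normalized X) hx)
    obtain ⟨r, hr, hrP⟩ := hs.conj hP₁
    rw [smul_smul, ← map_mul] at hrP
    have hgn : r * x ∈ normalizer (P₁ : Set G) := mem_normalizer_fintype fun a ha => by
      have h1 : r * x * a * (r * x)⁻¹ ∈ MulAut.conj (r * x) • P₁ := ⟨a, ha, rfl⟩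
      rwa [hrP] at h1
    have hgX : r * x ∈ X := X.mul_mem (hNX hr) hx
    have hmove : w * (r * x) * w⁻¹ * (r * x)⁻¹ ∈ N ⊓ normalizer (P₁ : Set G) :=
      ⟨hN ▸ commutator_mem_oddIn hw hwX hiso hgX,
        mul_mem (mul_mem (mul_mem hwP₁' hgn) (Subgroup.inv_mem _ hwP₁')) (Subgroup.inv_mem _ hgn)⟩
    obtain ⟨m, hm, c, hcw, e⟩ :=
      exists_mul_fixed hw ((hN ▸ odd_oddIn X).of_dvd_nat (Subgroup.card_dvd_of_le inf_le_left)) hmove
    have hc : c = m⁻¹ * (r * x) := by rw [e]; group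
    have hcY : c ∈ Y := hY ▸ ⟨⟨hc ▸ X.mul_mem (X.inv_mem (hNX hm.1)) hgX, hc ▸ mul_mem (Subgroup.inv_mem _ hm.2) hgn⟩,
      mem_centralizer_singleton_iff.2 hcw⟩
    rw [show x = r⁻¹ * m * c by rw [mul_assoc, ← e]; group]
    exact mul_mem (mem_sup_right (mul_mem (Subgroup.inv_mem _ hr) hm.1)) (mem_sup_left hcY)
  have hYX : Y ≤ X := hY ▸ inf_le_left.trans inf_le_left
  have hYn : Y ≤ normalizer (N : Set G) := hN ▸ hYX.trans (oddIn_normalized X)
  have hYN : Grp.IsSylowIn p (P₂ ⊓ (Y ⊓ N)) (Y ⊓ N) := Bender.isSylowIn_inf_normal hP₂ inf_le_left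
    fun y hy => mem_normalizer_fintype fun a ha =>
      ⟨Y.mul_mem (Y.mul_mem hy ha.1) (Y.inv_mem hy), conj_mem_of_normalizer (hYn hy) ha.2⟩
  have hint : P₂ ⊓ P₁ = P₂ ⊓ (Y ⊓ N) := by
    refine le_antisymm (le_inf inf_le_left (le_inf (inf_le_left.trans hP₂.1) (inf_le_right.trans hP₁.1))) ?_
    refine le_inf inf_le_left ?_
    have h1 := hP₁.eq_of_le (Y := P₁ ⊔ (P₂ ⊓ (Y ⊓ N))) le_sup_left
      (sup_le hP₁.1 (inf_le_right.trans inf_le_right))
      (hP₁.2.1.to_sup_of_normal_left' hYN.2.1 (inf_le_left.trans hP₂n))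
    exact le_sup_right.trans h1.ge
  have e1 := Grp.card_sup_mul_card_inf hP₂n
  have e2 := Grp.card_sup_mul_card_inf hYn
  rw [← hcover] at e2
  rw [sup_comm, ← hP, hint, hYN.card, hP₂.card, hP₁.card] at e1
  have e3 := congrArg (fun k : ℕ => k.factorization p) e2
  simp only [Nat.factorization_mul Nat.card_pos.ne' Nat.card_pos.ne', Finsupp.add_apply] at e3
  obtain ⟨j, hj⟩ := IsPGroup.iff_card.1 hPp
  rw [hj, ← pow_add, ← pow_add] at e1
  have e4 := Nat.pow_right_injective hp.out.two_le e1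
  have e5 := Subgroup.card_mul_index (P.subgroupOf X)
  rw [Nat.card_congr (subgroupOfEquivOfLe hPX).toEquiv, hj] at e5
  have hdvd' : p ∣ (P.subgroupOf X).index := hdvd
  have e6 : p ^ (j + 1) ∣ Nat.card X := e5 ▸ pow_succ p j ▸ Nat.mul_dvd_mul_left _ hdvd'
  have e7 := (hp.out.pow_dvd_iff_le_factorization Nat.card_pos.ne').1 e6
  omega

end Cfsg.Agent.Invol.Aschbacher
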