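import Cfsg.Agent.Lib.Invol.Aschbacher.KerLocal
import Cfsg.Agent.Lib.Invol.Aschbacher.OddCore
import Cfsg.Agent.Lib.Invol.Bender.Inverted

/-!
# A special element in a kernel makes a pair proper

If a proper subgroup with two centres and two commuting members of `Z` has an element, special for one centre, which
fixes another centre, then the members at these two points generate a proper subgroup.
-/

set_option autoImplicit false
set_option linter.unusedSectionVars false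

namespace Cfsg.Agent.Invol.Aschbacher

open MulAction Subgroup Cfsg.Agent.Transfer.Loc
open Cfsg.Agent.Invol.Bender (conj_smul_smul swap_symm pairStab mem_pair invAt cen ker mem_ker ker_le ker_fix
  conj_mem_of_normalizer conj_mem_of_normalizer' zpowers_le_normalizer mem_normalizer_O' le_normalizer_zj
  le_O'_of_self_centralizing le_stabilizer_of_special isSylowIn_inf_normal solvable_of_odd exists_larger)
open scoped Pointwise

universe u v

variable {G : Type u} [Group G] [Finite G] {Ω : Type v} [MulAction G Ω] {Z : Set G}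

/-- The subgroup generated by the members at two points. -/
def pairGen (Z : Set G) (c a : Ω) : Subgroup G := Subgroup.closure (zAt Z c ∪ zAt Z a)

/-- Every proper subgroup with members at two points and two commuting members has the split group of its members. -/
def SubFrames (Z : Set G) (Ω : Type v) [MulAction G Ω] : Prop :=
  ∀ M : Subgroup G, M ≠ ⊤ → (∃ x ∈ M, ∃ y ∈ M, ∃ a b : Ω, x ∈ zAt Z a ∧ y ∈ zAt Z b ∧ a ≠ b) →
    (∃ x ∈ M, ∃ y ∈ M, x ∈ Z ∧ y ∈ Z ∧ x ≠ y ∧ Commute x y) → ∃ M₀, Frame Z Ω M M₀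

omit [MulAction G Ω] in
/-- Conjugation carries a `π`-core into the core of the conjugate. -/
theorem conj_O'_le {r : ℕ} [Fact r.Prime] {X Y : Subgroup G} {g : G} (h : MulAut.conj g • X = Y) :
    MulAut.conj g • O' r X ≤ O' r Y := by
  subst h
  refine le_O' (Subgroup.pointwise_smul_le_pointwise_smul_iff.2 (O'_le r X)) ?_ ?_
  · rintro _ ⟨x, hx, rfl⟩
    refine mem_normalizer_fintype fun y hy => ?_
    obtain ⟨y, hy, rfl⟩ := hy
    exact ⟨x * y * x⁻¹, conj_mem_of_normalizer (le_normalizer_core' X hx) hy, by simp⟩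
  · rw [← Nat.card_congr (Subgroup.equivSMul (MulAut.conj g) _).toEquiv]
    exact O'_coprime X

omit [MulAction G Ω] in
theorem conj_O'_eq {r : ℕ} [Fact r.Prime] {X Y : Subgroup G} {g : G} (h : MulAut.conj g • X = Y) :
    MulAut.conj g • O' r X = O' r Y := by
  refine le_antisymm (conj_O'_le h) ?_
  have h1 : MulAut.conj g⁻¹ • Y = X := by rw [← h, smul_smul, ← map_mul, inv_mul_cancel, map_one, one_smul]
  have h2 := Subgroup.pointwise_smul_le_pointwise_smul_iff (a := MulAut.conj g).2 (conj_O'_le (r := r) h1)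
  rwa [smul_smul, ← map_mul, mul_inv_cancel, map_one, one_smul] at h2

theorem conj_pairStab (g : G) (a b : Ω) : MulAut.conj g • pairStab G a b = pairStab G (g • a) (g • b) := by
  ext x
  rw [Grp.mem_smul_conj, mem_pair, mem_pair, mul_smul, mul_smul, inv_smul_eq_iff, mul_smul, mul_smul,
    inv_smul_eq_iff]

theorem pairCore_comm (a b : Ω) : pairCore G a b = pairCore G b a := by
  show O' 2 (pairStab G a b) = O' 2 (pairStab G b a)
  rw [show pairStab G a b = pairStab G b a from inf_comm _ _]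

/-- The `p'`-core of a product of a normal subgroup and a `p`-group lies in the normal subgroup. -/
theorem O'_sup_le {p : ℕ} [hp : Fact p.Prime] {R P : Subgroup G} (hPR : P ≤ normalizer (R : Set G))
    (hP : IsPGroup p P) : O' p (R ⊔ P) ≤ O' p R := by
  obtain ⟨Y, hY⟩ : ∃ Y, Y = R ⊔ P := ⟨_, rfl⟩
  rw [← hY]
  have hRY : R ≤ Y := hY ▸ le_sup_left
  haveI : (R.subgroupOf Y).Normal := Subgroup.normal_subgroupOf_iff_le_normalizer hRY |>.2
    (hY ▸ sup_le le_normalizer hPR)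
  have hidx : ∃ j, (R.subgroupOf Y).index = p ^ j := by
    obtain ⟨a, ha⟩ := IsPGroup.iff_card.1 hP
    have h1 : Nat.card Y ∣ Nat.card P * Nat.card R := by
      rw [hY, sup_comm]
      exact Grp.card_sup_dvd_mul hPR
    rw [← Subgroup.card_mul_index (R.subgroupOf Y), Nat.card_congr (subgroupOfEquivOfLe hRY).toEquiv, mul_comm,
      ha] at h1
    obtain ⟨j, -, hj⟩ := (Nat.dvd_prime_pow hp.out).1 ((Nat.mul_dvd_mul_iff_right Nat.card_pos).1 h1)
    exact ⟨j, hj⟩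
  obtain ⟨j, hj⟩ := hidx
  have hle : O' p Y ≤ R := by
    intro x hx
    have h1 : (⟨x, O'_le p Y hx⟩ : Y) ^ (R.subgroupOf Y).index ∈ R.subgroupOf Y := Subgroup.pow_index_mem _ _
    rw [hj, Subgroup.mem_subgroupOf] at h1
    have h2 : x ^ p ^ j ∈ R := h1
    have hcop : (orderOf x).Coprime (p ^ j) :=
      ((O'_coprime Y).coprime_dvd_left ((O' p Y).orderOf_dvd_natCard hx)).pow_right j
    obtain ⟨m, hm⟩ := exists_pow_eq_self_of_coprime hcop.symm
    rw [← hm]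
    exact pow_mem h2 m
  exact le_O' hle (hRY.trans (le_normalizer_core' Y)) (O'_coprime Y)

namespace Hyp

variable (S : Hyp G Ω Z)
include S

theorem normalizer_ne_top [FaithfulSMul G Ω] {W : Subgroup G} (hW : W ≠ ⊥) {d : Ω} (hd : W ≤ stabilizer G d) :
    normalizer (W : Set G) ≠ ⊤ := by
  intro htop
  refine hW ((Subgroup.eq_bot_iff_forall W).2 fun x hx => eq_of_smul_eq_smul (α := Ω) fun y => ?_)
  obtain ⟨g, rfl⟩ := S.exists_smul_eq d y
  have h1 : g⁻¹ * x * g ∈ W := conj_mem_of_normalizer' (htop ▸ Subgroup.mem_top g) hx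
  have h2 := mem_stabilizer_iff.1 (hd h1)
  rw [mul_smul, mul_smul, inv_smul_eq_iff] at h2
  rw [one_smul, h2]

/-- A swapper's products with its conjugates in the pair stabiliser have odd order. -/
theorem oddConj_swap {a b : Ω} (hab : a ≠ b) {w : G} (hw : w ∈ zSwap Z a b) {X : Subgroup G}
    (hX : X ≤ pairStab G a b) : OddConj w X := fun x hx => by
  refine S.odd_swap_mul hab hw ⟨S.conj_mem x w hw.1, ?_⟩
  obtain ⟨hxa, hxb⟩ := mem_pair.1 (hX hx)
  conv_lhs => rw [← hxa]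
  rw [conj_smul_smul, hw.2, hxb]

end Hyp

/-- A proper subgroup with members at two points and two commuting members, with an element special for one of the
points which fixes the other. -/
structure CfgAt (Z : Set G) (p : ℕ) (M : Subgroup G) (γ b : Ω) (i u : G) : Prop where
  proper : M ≠ ⊤
  four : ∃ x ∈ M, ∃ y ∈ M, x ∈ Z ∧ y ∈ Z ∧ x ≠ y ∧ Commute x y
  u_mem : u ∈ M
  i_mem : i ∈ M
  special : Special Z i u γ
  pgroup : IsPGroup p (Subgroup.zpowers i)
  b_mem : ∃ z ∈ M, z ∈ zAt Z b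
  ne : b ≠ γ
  fix : i • b = b

variable {p : ℕ} [hp : Fact p.Prime] {M : Subgroup G} {γ b : Ω} {i u : G}

theorem CfgAt.frame (h : CfgAt Z p M γ b i u) (hSub : SubFrames Z Ω) :
    ∃ M₀, Frame Z Ω M M₀ ∧ γ ∈ cen Ω M₀ ∧ b ∈ cen Ω M₀ ∧ u ∈ M₀ := by
  obtain ⟨z, hzM, hz⟩ := h.b_mem
  obtain ⟨M₀, F⟩ := hSub M h.proper ⟨u, h.u_mem, z, hzM, γ, b, h.special.mem, hz, h.ne.symm⟩ h.four
  exact ⟨M₀, F, ⟨u, F.mem u h.special.mem.1 h.u_mem, F.sub.mem_invAt h.special.mem⟩,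
    ⟨z, F.mem z hz.1 hzM, F.sub.mem_invAt hz⟩, F.mem u h.special.mem.1 h.u_mem⟩

/-- The members at the two points of such a configuration generate a proper subgroup. -/
theorem CfgAt.pairGen_ne_top (S : Hyp G Ω Z) [FaithfulSMul G Ω] (hp2 : p ≠ 2) (hSub : SubFrames Z Ω)
    (h₀ : CfgAt Z p M γ b i u) : pairGen Z γ b ≠ ⊤ := by
  classical
  haveI : Fact (Nat.Prime 2) := ⟨Nat.prime_two⟩
  let 𝒮 : Set (Subgroup G) := {N | ∃ i u, CfgAt Z p N γ b i u}
  obtain ⟨M₁, ⟨i₁, u₁, h⟩, hmax⟩ := Set.exists_max_image 𝒮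
    (fun N => p ^ (Nat.card ↥(N ⊓ pairStab G γ b)).factorization p) (Set.toFinite _) ⟨M, i, u, h₀⟩
  clear h₀
  obtain ⟨M₀, F, hγ, hb, -⟩ := h.frame hSub
  have hiK : i₁ ∈ ker Ω M₀ := F.real_mem_ker h.special.mem h.u_mem h.i_mem h.special.odd h.special.inverted
    (h.special.fix S) hb h.ne h.fix
  -- an invariant Sylow subgroup of the pair stabiliser in the subgroup
  obtain ⟨w, hwM₀, hw⟩ := F.sub.exists_swap_mem hγ hb h.ne.symm
  have hw2 : orderOf w = 2 := S.invol w hw.1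
  have hwb : w • b = γ := swap_symm hw2 hw.2
  have hwM : w ∈ M₁ := F.le hwM₀
  have hwD : w ∈ normalizer (pairStab G γ b : Set G) := mem_normalizer_fintype fun y hy => by
    obtain ⟨h1, h2⟩ := mem_pair.1 hy
    refine mem_pair.2 ⟨?_, ?_⟩
    · conv_lhs => rw [← hwb]
      rw [conj_smul_smul, h2, hwb]
    · conv_lhs => rw [← hw.2]
      rw [conj_smul_smul, h1, hw.2]
  have hwMD : w ∈ normalizer ((M₁ ⊓ pairStab G γ b : Subgroup G) : Set G) := mem_normalizer_fintype fun y hy =>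
    ⟨mul_mem (mul_mem hwM hy.1) (Subgroup.inv_mem _ hwM), conj_mem_of_normalizer hwD hy.2⟩
  obtain ⟨P, hP, hwP⟩ := exists_invariant_sylow (p := p) hw2 hwMD (S.oddConj_swap h.ne.symm hw inf_le_right)
  have hPD : P ≤ pairStab G γ b := hP.1.trans inf_le_right
  have hPodd : Odd (Nat.card P) := by
    obtain ⟨a, ha⟩ := IsPGroup.iff_card.1 hP.2.1
    rw [ha]; exact (hp.out.odd_of_ne_two hp2).pow
  obtain ⟨e, heM, f, hfM, he, hf, hef, hc, heZJ, hfZJ, heV, hfV⟩ :=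
    F.exists_four_zj hp2 h.special hiK hγ h.pgroup hγ hb h.ne hP
  have hKD : ker Ω M₀ ≤ M₁ ⊓ pairStab G γ b := fun x hx =>
    ⟨F.le (ker_le hx), mem_pair.2 ⟨ker_fix hx hγ, ker_fix hx hb⟩⟩
  have hV : Grp.IsSylowIn p (P ⊓ ker Ω M₀) (ker Ω M₀) :=
    isSylowIn_inf_normal hP hKD (inf_le_left.trans F.ker_normalized)
  obtain ⟨i', hi', hs'⟩ := exists_special S (P ⊓ ker Ω M₀)
    (hPodd.of_dvd_nat (Subgroup.card_dvd_of_le inf_le_left)) (F.sub.zonly e heM he.1) (F.sub.mem_zAt hfM hf) hc hef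
    heV hfV (F.not_centralise h.special hiK hγ h.pgroup hV hfM hf.1)
  obtain ⟨hi'P, hi'K⟩ := Subgroup.mem_inf.1 hi'
  have hP1 : P ≠ ⊥ := fun e' => hs'.ne_one (mem_bot.1 (e' ▸ hi'P))
  have hF := isZJFunctor_centerThompsonA.{u} (p := p)
  obtain ⟨M', hM'⟩ : ∃ M', M' = normalizer (Cfsg.centerThompsonAOf P : Set G) := ⟨_, rfl⟩
  have hM'top : M' ≠ ⊤ := hM' ▸ S.normalizer_ne_top (hF.ne_bot hP.2.1 hP1)
    ((hF.le P).trans (hPD.trans inf_le_left))
  have hNP : normalizer (P : Set G) ≤ M' := hM' ▸ hF.normalizer_le P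
  have hPM' : P ≤ M' := le_normalizer.trans hNP
  rw [← hM'] at heZJ hfZJ
  have hwM' : w ∈ M' := hNP hwP
  have hfz : f ∈ zAt Z γ := F.sub.mem_zAt hfM hf
  have hwf : w * f * w⁻¹ ∈ zAt Z b := by
    have := S.zAt_conj (g := w) hfz
    rwa [hw.2] at this
  have h' : CfgAt Z p M' γ b i' f := ⟨hM'top,
    ⟨e, heZJ, f, hfZJ, F.sub.zonly e heM he.1, hfz.1, hef, hc⟩, hfZJ, hPM' hi'P, hs',
    hP.2.1.to_le (zpowers_le.2 hi'P),
    ⟨_, mul_mem (mul_mem hwM' hfZJ) (Subgroup.inv_mem _ hwM'), hwf⟩, h.ne, ker_fix hi'K hb⟩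
  -- maximality makes `P` a Sylow subgroup of the pair stabiliser
  have hPsyl : Grp.IsSylowIn p P (pairStab G γ b) := by
    by_contra hnot
    obtain ⟨W, hlt, hWD, hWp, hWn⟩ := exists_larger hP.2.1 hPD hnot
    have hW' : W ≤ M' ⊓ pairStab G γ b := le_inf (hWn.trans hNP) hWD
    obtain ⟨T, hT⟩ := (hWp.of_equiv (subgroupOfEquivOfLe hW').symm).exists_le_sylow
    have hTin : Grp.IsSylowIn p _ (M' ⊓ pairStab G γ b) := Grp.isSylowIn_iff.2 ⟨T, rfl⟩
    have h1 := hmax M' ⟨i', f, h'⟩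
    rw [← hP.card, ← hTin.card] at h1
    refine hlt.ne (Subgroup.eq_of_le_of_card_ge hlt.le (le_trans ?_ h1))
    exact Subgroup.card_le_of_le fun x hx => ⟨⟨x, hW' hx⟩, hT (mem_subgroupOf.2 hx), rfl⟩
  obtain ⟨M'₀, F', hγ', hb', -⟩ := h'.frame hSub
  have hPsyl' : Grp.IsSylowIn p P (M' ⊓ pairStab G γ b) := ⟨le_inf hPM' hPD, hP.2.1, fun hd => hPsyl.2.2
    (hd.trans ⟨_, (Subgroup.relIndex_mul_relIndex P _ _ (le_inf hPM' hPD) inf_le_right).symm⟩)⟩
  have hfixD : fixAll Ω M' M'₀ ≤ M' ⊓ pairStab G γ b := fun x hx =>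
    ⟨(mem_fixAll.1 hx).1, mem_pair.2 ⟨(mem_fixAll.1 hx).2 γ hγ', (mem_fixAll.1 hx).2 b hb'⟩⟩
  obtain ⟨V₁, hV₁def⟩ : ∃ V₁, V₁ = P ⊓ fixAll Ω M' M'₀ := ⟨_, rfl⟩
  have hV₁ : Grp.IsSylowIn p V₁ (fixAll Ω M' M'₀) :=
    hV₁def ▸ isSylowIn_inf_normal hPsyl' hfixD (inf_le_left.trans F'.fixAll_normalized)
  obtain ⟨V₀, hV₀def⟩ : ∃ V₀, V₀ = P ⊓ ker Ω M'₀ := ⟨_, rfl⟩
  have hV₀ : Grp.IsSylowIn p V₀ (ker Ω M'₀) :=
    hV₀def ▸ isSylowIn_inf_normal hPsyl' (F'.ker_le_fixAll.trans hfixD) (inf_le_left.trans F'.ker_normalized)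
  have hi'K' : i' ∈ ker Ω M'₀ := F'.real_mem_ker hfz hfZJ (hPM' hi'P) hs'.odd hs'.inverted (hs'.fix S) hb' h.ne
    (ker_fix hi'K hb)
  have hV₀₁ : V₀ ≤ V₁ := by
    rw [hV₀def, hV₁def]
    exact inf_le_inf_left _ F'.ker_le_fixAll
  have hV₁P : V₁ ≤ P := hV₁def ▸ inf_le_left
  have hwV₀ : w ∈ normalizer (V₀ : Set G) := mem_normalizer_fintype fun y hy => by
    rw [hV₀def] at hy ⊢
    exact ⟨conj_mem_of_normalizer hwP hy.1, F'.ker_conj hwM' hy.2⟩
  obtain ⟨δ, hwδ⟩ := S.exists_fix hw.1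
  have hwδ' : w ∈ zAt Z δ := ⟨hw.1, hwδ⟩
  have hδγ : δ ≠ γ := fun e' => h.ne (by rw [← hw.2, ← e', hwδ])
  have hδb : δ ≠ b := fun e' => h.ne.symm (by rw [← hwb, ← e', hwδ])
  have hwM'₀ : w ∈ M'₀ := F'.mem w hw.1 hwM'
  have hδ' : δ ∈ cen Ω M'₀ := ⟨w, hwM'₀, hw2, hwδ⟩
  -- a special element for the point of the swapper
  obtain ⟨e', he'M, he'V, he'2, he'w, he'c⟩ := F'.exists_partner hV₀ hwM'₀ hw2 hwV₀
  obtain ⟨j, hjV, hj⟩ := exists_special S V₀
    (hPodd.of_dvd_nat (Subgroup.card_dvd_of_le (hV₀₁.trans hV₁P))) (F'.sub.zonly e' he'M he'2) hwδ' he'c he'w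
    he'V hwV₀ (F'.not_centralise hs' hi'K' hγ' h'.pgroup hV₀ hwM'₀ hw2)
  have hjP : j ∈ P := hV₁P (hV₀₁ hjV)
  obtain ⟨R, hR⟩ : ∃ R, R = pairCore G γ b := ⟨_, rfl⟩
  have hRD : R ≤ pairStab G γ b := hR ▸ pairCore_le γ b
  have hRodd : Odd (Nat.card R) := hR ▸ odd_pairCore γ b
  have hDR : pairStab G γ b ≤ normalizer (R : Set G) := hR ▸ le_normalizer_core' _
  obtain ⟨X, hX⟩ : ∃ X, X = O' p R := ⟨_, rfl⟩
  have hXR : X ≤ R := hX ▸ O'_le p _
  have hXcop : (Nat.card X).Coprime p := hX ▸ O'_coprime _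
  have hDX : pairStab G γ b ≤ normalizer (X : Set G) := hX ▸ le_normalizer_core hDR
  have hwX : w ∈ normalizer (X : Set G) := hX ▸ mem_normalizer_O' (hR ▸ mem_normalizer_O' hwD)
  have hjcop : (orderOf j).Coprime (Nat.card X) := by
    obtain ⟨m, hm⟩ := hP.2.1 ⟨j, hjP⟩
    exact ((hXcop.symm).pow_left m).coprime_dvd_left (orderOf_dvd_of_pow_eq_one (congrArg Subtype.val hm))
  have hXδ : X ≤ stabilizer G δ := le_stabilizer_of_special hw2 (fun c hc => S.fix_of_commute hw.1 hwδ hc)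
    (fun c hc => hj.commute_fix S hc) hj.odd hj.inverted _ X rfl
    (hRodd.of_dvd_nat (Subgroup.card_dvd_of_le hXR)) hjcop hwX (hDX (hPD hjP))
  obtain ⟨R', hR'⟩ : ∃ R', R' = pairCore G γ δ := ⟨_, rfl⟩
  have hXR' : X ≤ R' := fun x hx => by
    have h1 : x ∈ pairCore G γ b ⊓ stabilizer G δ := ⟨hR ▸ hXR hx, hXδ hx⟩
    rw [S.triangle_inf hwδ' hw.2 h.ne.symm] at h1
    rw [hR', pairCore_comm]
    exact h1.1
  -- carry the pair to the pair of `γ` and the point of the swapper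
  obtain ⟨g, hg, hgγ, hgb⟩ := F'.sub.two_trans_cen hγ' hb' hγ' hδ' h.ne.symm hδγ.symm
  obtain ⟨n, hnM, hnV, hn⟩ := F'.exists_frattini hV₁ (F'.le hg)
  have hnγ : n • γ = γ := by rw [hn _ hγ', hgγ]
  have hnb : n • b = δ := by rw [hn _ hb', hgb]
  have hDn : MulAut.conj n • pairStab G γ b = pairStab G γ δ := by rw [conj_pairStab, hnγ, hnb]
  have hRn : MulAut.conj n • R = R' := by rw [hR, hR']; exact conj_O'_eq hDn
  have hXn : MulAut.conj n • X = O' p R' := by rw [hX]; exact conj_O'_eq hRn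
  obtain ⟨P', hP'⟩ : ∃ P', P' = MulAut.conj n • P := ⟨_, rfl⟩
  have hP'D : P' ≤ pairStab G γ δ := hP' ▸ hDn ▸ Subgroup.pointwise_smul_le_pointwise_smul_iff.2 hPD
  have hP'R : P' ≤ normalizer (R' : Set G) := hP'D.trans (hR' ▸ le_normalizer_core' _)
  obtain ⟨Y, hY⟩ : ∃ Y, Y = R' ⊔ P' := ⟨_, rfl⟩
  have hYD : Y ≤ pairStab G γ δ := hY ▸ sup_le (hR' ▸ pairCore_le γ δ) hP'D
  have hSyl : Grp.IsSylowIn p P' Y := by
    have h1 : Grp.IsSylowIn p P' (pairStab G γ δ) := by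
      rw [← hDn, hP']
      refine ⟨Subgroup.pointwise_smul_le_pointwise_smul_iff.2 hPD, hP.2.1.map _, ?_⟩
      rw [Grp.relIndex_smul]; exact hPsyl.2.2
    have hP'Y : P' ≤ Y := hY ▸ le_sup_right
    exact ⟨hP'Y, h1.2.1, fun hd => h1.2.2 (hd.trans
      ⟨_, (Subgroup.relIndex_mul_relIndex P' Y _ hP'Y hYD).symm⟩)⟩
  have hYodd : Odd (Nat.card Y) := by
    have h1 : Odd (Nat.card P') := by
      rw [hP', ← Nat.card_congr (Subgroup.equivSMul (MulAut.conj n) P).toEquiv]; exact hPodd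
    refine ((h1.mul (hR' ▸ odd_pairCore γ δ : Odd (Nat.card R')))).of_dvd_nat ?_
    rw [hY, sup_comm]
    exact Grp.card_sup_dvd_mul hP'R
  haveI : Group.IsSolvable Y := solvable_of_odd hYodd
  have hV₁n : MulAut.conj n • V₁ = V₁ := Grp.normalizer_le_smul (le_refl (normalizer (V₁ : Set G))) hnV
  have hX' : X ≤ O' p Y := by
    refine le_O'_of_self_centralizing hSyl (V := V₁) ?_ ?_ ?_ ?_ hXcop ((hV₁P.trans hPD).trans hDX)
    · rw [← hV₁n, hP']; exact Subgroup.pointwise_smul_le_pointwise_smul_iff.2 hV₁P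
    · rw [hP']
      rintro _ ⟨x, hx, rfl⟩
      have hxV : x ∈ normalizer (V₁ : Set G) := mem_normalizer_fintype fun y hy => by
        rw [hV₁def] at hy ⊢
        exact ⟨mul_mem (mul_mem hx hy.1) (Subgroup.inv_mem _ hx),
          conj_mem_of_normalizer (F'.fixAll_normalized (hPM' hx)) hy.2⟩
      exact mul_mem (mul_mem hnV hxV) (Subgroup.inv_mem _ hnV)
    · rw [hP']
      rintro _ ⟨x, hx, rfl⟩ hcx
      have hxK : x ∈ fixAll Ω M' M'₀ :=
        F'.mem_fixAll_of_centralise hs' hγ' hV₁ (hV₀₁ (hV₀def ▸ ⟨hi'P, hi'K'⟩)) (hPM' hx) fun v hv => by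
          have h1 := (hcx _ (conj_mem_of_normalizer hnV hv)).conj n⁻¹
          simpa [mul_assoc] using h1
      exact conj_mem_of_normalizer hnV (hV₁def ▸ ⟨hx, hxK⟩)
    · exact hY ▸ hXR'.trans le_sup_left
  have hXeq : O' p R' = X := by
    refine (Subgroup.eq_of_le_of_card_ge (hX'.trans (hY ▸ O'_sup_le hP'R (hP' ▸ hP.2.1.map _))) ?_).symm
    rw [← hXn, ← Nat.card_congr (Subgroup.equivSMul (MulAut.conj n) X).toEquiv]
  have hnX : n ∈ normalizer (X : Set G) := by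
    rw [hXeq] at hXn
    exact mem_normalizer_fintype fun y hy => hXn.le ⟨y, hy, rfl⟩
  have hwconj : ∀ t ∈ zAt Z γ, w * t * w⁻¹ ∈ zAt Z b := fun t ht => by
    have := S.zAt_conj (g := w) ht
    rwa [hw.2] at this
  by_cases hXb : X = ⊥
  · -- the centre of the Thompson subgroup is normalised by the odd core
    have hPR : P ≤ normalizer (R : Set G) := hPD.trans hDR
    have hsyl : Grp.IsSylowIn p P (R ⊔ P) := ⟨le_sup_right, hP.2.1, fun hd => hPsyl.2.2 (hd.trans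
      ⟨_, (Subgroup.relIndex_mul_relIndex P _ _ le_sup_right (sup_le hRD hPD)).symm⟩)⟩
    have hodd : Odd (Nat.card ↥(R ⊔ P)) := (hPodd.mul hRodd).of_dvd_nat (by
      rw [sup_comm]; exact Grp.card_sup_dvd_mul hPR)
    have hO : O' p (R ⊔ P) = ⊥ := le_bot_iff.1 ((O'_sup_le hPR hP.2.1).trans (hX ▸ hXb).le)
    have hRM' : R ≤ M' := le_sup_left.trans (hM' ▸ le_normalizer_zj hp2 hodd hO hsyl)
    have hall : ∀ t ∈ zAt Z γ, t ∈ M' := fun t ht => by
      obtain ⟨x, hx, rfl⟩ := S.exists_conj_zAt h.ne.symm hfz ht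
      exact mul_mem (mul_mem (hRM' (hR ▸ hx)) hfZJ) (Subgroup.inv_mem _ (hRM' (hR ▸ hx)))
    refine fun htop => hM'top (top_unique (htop.ge.trans ((Subgroup.closure_le _).2 ?_)))
    rintro t (ht | ht)
    · exact hall t ht
    · have h1 : w * t * w⁻¹ ∈ M' := hall _ (by
        have := S.zAt_conj (g := w) ht
        rwa [hwb] at this)
      have h2 := mul_mem (mul_mem (Subgroup.inv_mem _ hwM') h1) hwM'
      simpa [mul_assoc] using h2
  · refine fun htop => S.normalizer_ne_top hXb (hXR.trans (hRD.trans inf_le_left)) ?_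
    refine top_unique (htop.ge.trans ((Subgroup.closure_le _).2 ?_))
    have hδall : ∀ t ∈ zAt Z δ, t ∈ normalizer (X : Set G) := fun t ht => by
      obtain ⟨x, hx, rfl⟩ := S.exists_conj_zAt hδγ hwδ' ht
      have hxR : x ∈ R' := by rw [hR', pairCore_comm]; exact hx
      have hxX : x ∈ normalizer (X : Set G) := hXeq ▸ le_normalizer_core' R' hxR
      exact mul_mem (mul_mem hxX hwX) (Subgroup.inv_mem _ hxX)
    have hball : ∀ t ∈ zAt Z b, t ∈ normalizer (X : Set G) := fun t ht => by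
      have h1 : n * t * n⁻¹ ∈ normalizer (X : Set G) := hδall _ (by
        have := S.zAt_conj (g := n) ht
        rwa [hnb] at this)
      have h2 := mul_mem (mul_mem (Subgroup.inv_mem _ hnX) h1) hnX
      simpa [mul_assoc] using h2
    rintro t (ht | ht)
    · have h1 := hball _ (hwconj t ht)
      have h2 := mul_mem (mul_mem (Subgroup.inv_mem _ hwX) h1) hwX
      simpa [mul_assoc] using h2
    · exact hball t ht

omit hp in
/-- A special element of any order gives the same conclusion. -/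
theorem pairGen_ne_top_of_special (S : Hyp G Ω Z) [FaithfulSMul G Ω] (hSub : SubFrames Z Ω) {M : Subgroup G}
    (hM : M ≠ ⊤) (h4 : ∃ x ∈ M, ∃ y ∈ M, x ∈ Z ∧ y ∈ Z ∧ x ≠ y ∧ Commute x y) {i u : G} {γ b : Ω} (huM : u ∈ M)
    (hiM : i ∈ M) (hs : Special Z i u γ) (hb : ∃ z ∈ M, z ∈ zAt Z b) (hne : b ≠ γ) (hib : i • b = b) :
    pairGen Z γ b ≠ ⊤ := by
  obtain ⟨p, hp, hpd⟩ := Nat.exists_prime_and_dvd (fun h => hs.ne_one (orderOf_eq_one_iff.1 h))
  haveI : Fact p.Prime := ⟨hp⟩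
  have hp2 : p ≠ 2 := fun e => Nat.not_even_iff_odd.2 hs.odd (even_iff_two_dvd.2 (e ▸ hpd))
  obtain ⟨k, hk⟩ := hpd
  have hk0 : k ≠ 0 := fun e => by
    have h0 := orderOf_pos i
    rw [e, mul_zero] at hk; omega
  have hord : orderOf (i ^ k) = p := by
    rw [orderOf_pow_of_dvd hk0 ⟨p, by rw [hk, mul_comm]⟩, hk, Nat.mul_div_cancel _ (Nat.pos_of_ne_zero hk0)]
  have hik : i ^ k ≠ 1 := fun e => hp.ne_one (by rw [← hord, e, orderOf_one])
  exact (CfgAt.mk hM h4 huM (pow_mem hiM k) (hs.pow hik)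
    (IsPGroup.of_card (n := 1) (by rw [Nat.card_zpowers, hord, pow_one])) hb hne
    (mem_stabilizer_iff.1 (pow_mem (mem_stabilizer_iff.2 hib) k))).pairGen_ne_top S hp2 hSub

end Cfsg.Agent.Invol.Aschbacher
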