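import Cfsg.Agent.Lib.Invol.Aschbacher.Block
import Cfsg.Agent.Lib.Invol.Aschbacher.Full
import Cfsg.Agent.Lib.Invol.Aschbacher.NoKernel
import Cfsg.Agent.Lib.Invol.Bender.RealFix

/-!
# Real elements fix one point when all pairs are improper

If the members of `Z` at any two points generate the group, an element of odd order inverted by a member at `d` and
fixing `d` has no further fixed point.
-/

set_option autoImplicit false
set_option linter.unusedSectionVars false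

namespace Cfsg.Agent.Invol.Aschbacher

open MulAction Subgroup Cfsg.Agent.Transfer.Loc
open Cfsg.Agent.Invol.Bender (conj_smul_smul swap_symm pairStab mem_pair cen ker ker_fix IsReal
  conj_mem_of_normalizer conj_mem_of_normalizer' zpowers_le_normalizer mem_normalizer_O' le_normalizer_zj
  solvable_of_odd exists_larger exists_commute_move)
open scoped Pointwise

universe u v

variable {G : Type u} [Group G] [Finite G] {Ω : Type v} [MulAction G Ω] {Z : Set G}

/-- An element of odd order inverted by a member of `Z` and fixing its point fixes no other point. -/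
def RealFree (Z : Set G) (Ω : Type v) [MulAction G Ω] : Prop :=
  ∀ (u j : G) (d g : Ω), u ∈ zAt Z d → IsReal u j → Odd (orderOf j) → j • d = d → g ≠ d → j • g ≠ g

/-- The members at any two points generate the group. -/
def Improper (Z : Set G) (Ω : Type v) [MulAction G Ω] : Prop :=
  ∀ a b : Ω, a ≠ b → pairGen Z a b = ⊤

/-- Every point has two commuting members. -/
def FourAt (Z : Set G) (Ω : Type v) [MulAction G Ω] : Prop :=
  ∀ d : Ω, ∃ x ∈ zAt Z d, ∃ y ∈ zAt Z d, x ≠ y ∧ Commute x y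

/-- A Sylow subgroup of a pair stabiliser normalised by a swapper, fixing its point and containing a real element. -/
structure RTri (Z : Set G) (p : ℕ) (u : G) (d g : Ω) (Y : Subgroup G) : Prop where
  mem : u ∈ zAt Z d
  ne : g ≠ d
  normalises : u ∈ normalizer (Y : Set G)
  sylow : Grp.IsSylowIn p Y (pairStab G g (u • g))
  fix : Y ≤ stabilizer G d
  exists_real : ∃ j ∈ Y, IsReal u j

/-- A group generated by its elements inverted by a member, with all inverted elements of a pair Sylow subgroup. -/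
structure VCore (Z : Set G) (p : ℕ) (u : G) (d : Ω) (V : Subgroup G) : Prop where
  mem : u ∈ zAt Z d
  normalises : u ∈ normalizer (V : Set G)
  pgroup : IsPGroup p V
  fix : V ≤ stabilizer G d
  gen : V ≤ Subgroup.closure (Bender.invertedBy u V)
  count : memPart Z p d ≤ Nat.card ↥(Bender.invertedBy u V)
  exists_real : ∃ j ∈ V, IsReal u j

namespace Hyp

variable (S : Hyp G Ω Z)
include S

/-- The pair stabilisers of a triangle have the same order. -/
theorem card_pairStab_triangle {u : G} {d g b : Ω} (hu : u ∈ zAt Z d) (hg : u • g = b) (hgb : g ≠ b) :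
    Nat.card (pairStab G g b) = Nat.card (pairStab G d g) := by
  have hdg : d ≠ g := fun e => hgb (by rw [← hg, ← e, hu.2, e])
  have e : pairStab G g b ⊓ centralizer ({u} : Set G) = pairStab G d g ⊓ centralizer ({u} : Set G) := by
    refine le_antisymm ?_ ?_ <;> rintro x ⟨hx, hxu⟩ <;> refine ⟨?_, hxu⟩
    · exact mem_pair.2 ⟨S.fix_of_commute hu.1 hu.2 (Subgroup.mem_centralizer_singleton_iff.1 hxu),
        (mem_pair.1 hx).1⟩
    · refine mem_pair.2 ⟨(mem_pair.1 hx).2, ?_⟩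
      rw [← hg, ← mul_smul, (Subgroup.mem_centralizer_singleton_iff.1 hxu : x * u = u * x), mul_smul,
        (mem_pair.1 hx).2]
  have h1 := card_centralizer_mul (R := pairStab G g b) (T := zSwap Z g b) (s := u) ⟨hu.1, hg⟩ (fun r hr t ht => by
      obtain ⟨hrg, hrb⟩ := mem_pair.1 hr
      refine ⟨S.conj_mem r t ht.1, ?_⟩
      conv_lhs => rw [← hrg]
      rw [conj_smul_smul, ht.2, hrb]) fun t ht => by
        obtain ⟨k, hk, hkt⟩ := S.exists_conj_zSwap hgb ⟨hu.1, hg⟩ ht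
        exact ⟨k, pairCore_le _ _ hk, hkt⟩
  have h2 := card_centralizer_mul (R := pairStab G d g) (T := zAt Z d) (s := u) hu (fun r hr t ht => by
      have := S.zAt_conj (g := r) ht
      rwa [(mem_pair.1 hr).1] at this) fun t ht => by
        obtain ⟨k, hk, hkt⟩ := S.exists_conj_zAt hdg hu ht
        exact ⟨k, pairCore_le _ _ hk, hkt⟩
  rw [← h1, ← h2, e, S.card_zSwap hgb, S.card_zAt g d]

/-- Two members with different points are conjugate by an element of a subgroup containing them. -/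
theorem exists_conj_point {u w : G} {d e : Ω} (hu : u ∈ zAt Z d) (hw : w ∈ zAt Z e) (hde : d ≠ e)
    {M : Subgroup G} (huM : u ∈ M) (hwM : w ∈ M) : ∃ c ∈ M, c * u * c⁻¹ = w ∧ c • d = e := by
  obtain ⟨k, hk, hkw⟩ := Bender.Cor.exists_conj_of_odd (S.invol u hu.1) (S.invol w hw.1)
    (S.odd_product hu.1 hw.1 hu.2 hw.2 hde)
  refine ⟨k, ?_, hkw, S.fix_unique hw.1 ?_ hw.2⟩
  · obtain ⟨i, rfl⟩ := Subgroup.mem_zpowers_iff.1 hk
    exact zpow_mem (M.mul_mem huM hwM) i
  · rw [← hkw, conj_smul_smul, hu.2]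

variable [FaithfulSMul G Ω]

/-- No proper subgroup with commuting members contains a real element fixing a second point of a member. -/
theorem false_of_real_overgroup (hSub : SubFrames Z Ω) (hI : Improper Z Ω) {M : Subgroup G} (hM : M ≠ ⊤)
    (h4 : ∃ x ∈ M, ∃ y ∈ M, x ∈ Z ∧ y ∈ Z ∧ x ≠ y ∧ Commute x y) {j u : G} {d e : Ω} (huM : u ∈ M)
    (hu : u ∈ zAt Z d) (hjM : j ∈ M) (hodd : Odd (orderOf j)) (hj : IsReal u j) (hjd : j • d = d)
    (he : ∃ z ∈ M, z ∈ zAt Z e) (hed : e ≠ d) (hje : j • e = e) : False := by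
  haveI : Fact (Nat.Prime 3) := ⟨Nat.prime_three⟩
  obtain ⟨z, hzM, hz⟩ := he
  obtain ⟨M₀, F⟩ := hSub M hM ⟨u, huM, z, hzM, d, e, hu, hz, hed.symm⟩ h4
  have hu₀ := F.mem u hu.1 huM
  have hec : e ∈ cen Ω M₀ := ⟨z, F.mem z hz.1 hzM, F.sub.mem_invAt hz⟩
  have hjK : j ∈ ker Ω M₀ := F.real_mem_ker hu huM hjM hodd hj.1 hjd hec hed hje
  have hu2 := S.invol u hu.1
  have hoddK := F.sub.odd_ker
  have huK := Bender.le_normalizer_ker (M := M₀) (Ω := Ω) hu₀
  obtain ⟨V, hV, huV⟩ := Grp.exists_invariant_sylow (Subgroup.zpowers u) (ker Ω M₀)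
    (zpowers_le_normalizer huK) (Bender.coprime_two_odd hu2 hoddK) (Or.inl inferInstance) 3
  obtain ⟨e', he'M, -, he'2, hne, hc⟩ := F.exists_partner hV hu₀ hu2 (huV (mem_zpowers u))
  obtain ⟨i, hi, hs⟩ := exists_special S (ker Ω M₀) hoddK (F.sub.zonly e' he'M he'2) hu hc hne
    (Bender.le_normalizer_ker he'M) huK ⟨j, hjK, fun hcj => hj.2 (Bender.eq_one_of_sq_of_odd hoddK hjK (by
      have h1 : u * j * u⁻¹ = j := by rw [hcj.eq, mul_inv_cancel_right]
      rw [hj.1] at h1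
      nth_rewrite 2 [← h1]
      exact mul_inv_cancel j))⟩
  exact pairGen_ne_top_of_special S hSub hM h4 huM (F.le (Bender.ker_le hi)) hs ⟨z, hzM, hz⟩ hed
    (ker_fix hi hec) (hI d e hed.symm)

variable (hSub : SubFrames Z Ω) (hI : Improper Z Ω)
include hSub hI

/-- A member moved by the normaliser of a group containing a real element is central there modulo the odd core. -/
theorem oddConj_of_move {u j : G} {d : Ω} (hu : u ∈ zAt Z d) {W : Subgroup G} (hodd : Odd (Nat.card W))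
    (hWd : W ≤ stabilizer G d) (huW : u ∈ normalizer (W : Set G)) (hjW : j ∈ W) (hj : IsReal u j) {n : G}
    (hn : n ∈ normalizer (W : Set G)) (hnd : n • d ≠ d) : OddConj u (normalizer (W : Set G)) := by
  refine oddConj_of_no_four S hu.1 huW fun x hx y hy hxZ hyZ hxy => ?_
  by_contra hne
  refine S.false_of_real_overgroup hSub hI (S.normalizer_ne_top (fun e => hj.2 (mem_bot.1 (e ▸ hjW))) hWd)
    ⟨x, hx, y, hy, hxZ, hyZ, hne, hxy⟩ huW hu (le_normalizer hjW)
    (hodd.of_dvd_nat (Subgroup.orderOf_dvd_natCard _ hjW)) hj (mem_stabilizer_iff.1 (hWd hjW))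
    (e := n • d) ⟨n * u * n⁻¹, MulMemClass.mul_mem (MulMemClass.mul_mem hn huW) (inv_mem hn), S.zAt_conj hu⟩ hnd
    (mem_stabilizer_iff.1 (smul_fixed hn hWd hjW))

variable {p : ℕ} [hp : Fact p.Prime]

/-- A real element of prime order fixing a second point gives a triangle. -/
theorem exists_rtri (hp2 : p ≠ 2) {j u : G} {d g : Ω} (hu : u ∈ zAt Z d) (hj : IsReal u j) (hjp : orderOf j = p)
    (hjd : j • d = d) (hg : g ≠ d) (hjg : j • g = g) : ∃ (g' : Ω) (Y : Subgroup G), RTri Z p u d g' Y := by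
  classical
  let P : Subgroup G → Prop := fun Y => IsPGroup p Y ∧ u ∈ normalizer (Y : Set G) ∧ Y ≤ stabilizer G d ∧
    (∃ x : Ω, x ≠ d ∧ Y ≤ stabilizer G x) ∧ ∃ j ∈ Y, IsReal u j
  have hP0 : P (zpowers j) := by
    refine ⟨IsPGroup.of_card (n := 1) (by rw [Nat.card_zpowers, hjp, pow_one]),
      mem_normalizer_fintype fun x hx => ?_, zpowers_le.2 (mem_stabilizer_iff.2 hjd),
      ⟨g, hg, zpowers_le.2 (mem_stabilizer_iff.2 hjg)⟩, j, mem_zpowers j, hj⟩
    obtain ⟨k, rfl⟩ := mem_zpowers_iff.1 hx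
    rw [← conj_zpow, hj.1]
    exact zpow_mem (inv_mem (mem_zpowers j)) k
  obtain ⟨Y, hY, hmax⟩ : ∃ Y, P Y ∧ ∀ W, P W → Nat.card W ≤ Nat.card Y := by
    obtain ⟨Y, hY, hm⟩ := Set.exists_max_image {Y : Subgroup G | P Y} (fun Y => Nat.card Y) (Set.toFinite _)
      ⟨_, hP0⟩
    exact ⟨Y, hY, hm⟩
  obtain ⟨hYp, huY, hYd, ⟨g₁, hg₁, hYg₁⟩, j', hjY, hj'⟩ := hY
  have hodd := QOdd.odd_of_isPGroup hp2 hYp
  have hstep : ∀ x : Ω, x ≠ d → Y ≤ stabilizer G x →
      RTri Z p u d x Y ∨ ∃ n : G, n ∈ normalizer (Y : Set G) ∧ n • x = x ∧ n • (u • x) = u • x ∧ n • d ≠ d := by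
    intro x hx hYx
    by_cases hS : Grp.IsSylowIn p Y (pairStab G x (u • x))
    · exact Or.inl ⟨hu, hx, huY, hS, hYd, j', hjY, hj'⟩
    refine Or.inr ?_
    have hle : Y ≤ pairStab G x (u • x) := le_inf hYx (smul_fixed huY hYx)
    obtain ⟨R, hR, huR, hYR⟩ := QOdd.exists_sylow_ge hp2 (S.invol u hu.1) (S.pair_norm hu.1 x)
      (S.pair_oddConj hu.1 (S.smul_ne_of_fix hu hx)) hle hYp huY
    obtain ⟨W', hW', hW'R, -, hW'n⟩ := exists_larger hYp hYR fun h => hS ((h.eq_of_le hYR le_rfl hR.2.1) ▸ hR)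
    obtain ⟨W, hW⟩ : ∃ W, W = R ⊓ normalizer (Y : Set G) := ⟨_, rfl⟩
    have hlt : Y < W := lt_of_lt_of_le hW' (hW ▸ le_inf hW'R hW'n)
    have huW : u ∈ normalizer (W : Set G) := mem_normalizer_fintype fun z hz => by
      rw [hW] at hz ⊢
      exact ⟨conj_mem_of_normalizer huR hz.1,
        MulMemClass.mul_mem (MulMemClass.mul_mem huY hz.2) (Subgroup.inv_mem _ huY)⟩
    have hWR : W ≤ R := hW ▸ inf_le_left
    by_contra hcon
    push Not at hcon
    have hWd : W ≤ stabilizer G d := fun n hn => mem_stabilizer_iff.2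
      (hcon n (hW ▸ hn : n ∈ R ⊓ normalizer (Y : Set G)).2 (mem_pair.1 (hR.1 (hWR hn))).1
        (mem_pair.1 (hR.1 (hWR hn))).2)
    have := hmax W ⟨hR.2.1.to_le hWR, huW, hWd, ⟨x, hx, hWR.trans (hR.1.trans inf_le_left)⟩, j', hlt.le hjY, hj'⟩
    exact hlt.ne (Subgroup.eq_of_le_of_card_ge hlt.le this)
  rcases hstep g₁ hg₁ hYg₁ with h | ⟨n, hn, -, -, hnd⟩
  · exact ⟨_, _, h⟩
  obtain ⟨L, hLN, -, ⟨l, hl, hld⟩, hflip, hmid, -⟩ :=
    exists_block S hu huY (S.oddConj_of_move hSub hI hu hodd hYd huY hjY hj' hn hnd) ⟨n, hn, hnd⟩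
  rcases hstep (l • d) hld (smul_fixed (hLN hl) hYd) with h | ⟨m, hm, hm1, hm2, hmd⟩
  · exact ⟨_, _, h⟩
  · exact absurd (hmid l hl m hm hm1 (hflip l hl ▸ hm2)) hmd

/-- Two triangles with the same `p'`-core are contradictory. -/
theorem false_of_pair (hfour : FourAt Z Ω) (hp2 : p ≠ 2) {u w j : G} {d g ε : Ω} {Y : Subgroup G}
    (hT : RTri Z p u d g Y) (hjY : j ∈ Y) (hj : IsReal u j) (hw : w ∈ zAt Z ε) (hwd : w • d = g)
    (hjε : j • ε = ε) (hXd : O' p (pairCore G g (u • g)) ≤ stabilizer G d)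
    (hcard : Nat.card ↥(O' p (pairCore G d g)) ≤ Nat.card ↥(O' p (pairCore G g (u • g)))) : False := by
  have hu2 := S.invol u hT.mem.1
  have hub := S.smul_ne_of_fix hT.mem hT.ne
  have hεd : ε ≠ d := fun e => hT.ne (by rw [← hwd, ← e, hw.2])
  have hdg : d ≠ g := hT.ne.symm
  obtain ⟨R, hR⟩ : ∃ R, R = pairCore G g (u • g) := ⟨_, rfl⟩
  obtain ⟨R', hR'⟩ : ∃ R', R' = pairCore G d g := ⟨_, rfl⟩
  rw [← hR] at hXd hcard
  rw [← hR'] at hcard
  have hRD : R ≤ pairStab G g (u • g) := hR ▸ pairCore_le _ _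
  have hR'D : R' ≤ pairStab G d g := hR' ▸ pairCore_le _ _
  have hDR : pairStab G g (u • g) ≤ normalizer (R : Set G) := hR ▸ le_normalizer_core' _
  have hRodd : Odd (Nat.card R) := hR ▸ odd_pairCore _ _
  have hR'odd : Odd (Nat.card R') := hR' ▸ odd_pairCore _ _
  have htri : R ⊓ stabilizer G d = R' ⊓ stabilizer G (u • g) := hR ▸ hR' ▸ S.triangle_inf hT.mem rfl hub.symm
  have huD : u ∈ normalizer (pairStab G g (u • g) : Set G) := S.pair_norm hT.mem.1 g
  have huR : u ∈ normalizer (R : Set G) := hR ▸ mem_normalizer_O' huD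
  obtain ⟨T, hTdef⟩ : ∃ T, T = Y ⊓ R := ⟨_, rfl⟩
  have hTY : T ≤ Y := hTdef ▸ inf_le_left
  have hTR' : T ≤ R' := fun y hy => by
    rw [hTdef] at hy
    exact (htri.le ⟨hy.2, hT.fix hy.1⟩).1
  have hT1 : Grp.IsSylowIn p T R := hTdef ▸ Bender.isSylowIn_inf_normal hT.sylow hRD hDR
  have hT2 : Grp.IsSylowIn p T R' := by
    refine ⟨hTR', hT.sylow.2.1.to_le hTY, ?_⟩
    have h1 := Subgroup.card_mul_index (T.subgroupOf R')
    have h2 := Subgroup.card_mul_index (T.subgroupOf R)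
    have h3 : Nat.card R = Nat.card R' := by
      rw [hR, hR']; exact S.card_triangle hT.mem rfl hub.symm
    rw [Nat.card_congr (subgroupOfEquivOfLe hTR').toEquiv] at h1
    rw [Nat.card_congr (subgroupOfEquivOfLe hT1.1).toEquiv, h3, ← h1] at h2
    show ¬ p ∣ (T.subgroupOf R').index
    rw [← Nat.eq_of_mul_eq_mul_left Nat.card_pos h2]
    exact hT1.2.2
  have hjR : j ∈ R := by
    have h1 := QOdd.inverted_subset (O := oddIn (pairStab G g (u • g))) (w := u) hT.sylow.1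
      (QOdd.odd_of_isPGroup hp2 hT.sylow.2.1)
      (fun x hx => commutator_mem_oddIn hu2 huD (S.pair_oddConj hT.mem.1 hub) hx) ⟨hjY, hj.1⟩
    exact hR ▸ h1
  have hjT : j ∈ T := hTdef ▸ ⟨hjY, hjR⟩
  have hwR' : w ∈ normalizer (R' : Set G) := hR' ▸ mem_normalizer_O' (hwd ▸ S.pair_norm hw.1 d)
  have hfinal : ∀ W : Subgroup G, W ≠ ⊥ → W ≤ stabilizer G d → u ∈ normalizer (W : Set G) →
      w ∈ normalizer (W : Set G) → j ∈ normalizer (W : Set G) → R' ≤ normalizer (W : Set G) → False := by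
    intro W hW hWd huW hwW hjW hR'W
    have hall : ∀ t ∈ zAt Z d, t ∈ normalizer (W : Set G) := fun t ht => by
      obtain ⟨k, hk, rfl⟩ := S.exists_conj_zAt hdg hT.mem ht
      exact MulMemClass.mul_mem (MulMemClass.mul_mem (hR'W (hR' ▸ hk)) huW) (Subgroup.inv_mem _ (hR'W (hR' ▸ hk)))
    obtain ⟨x, hx, y, hy, hne, hxy⟩ := hfour d
    exact S.false_of_real_overgroup hSub hI (S.normalizer_ne_top hW hWd)
      ⟨x, hall x hx, y, hall y hy, hx.1, hy.1, hne, hxy⟩ huW hT.mem hjW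
      ((QOdd.odd_of_isPGroup hp2 hT.sylow.2.1).of_dvd_nat (Subgroup.orderOf_dvd_natCard _ hjY)) hj
      (mem_stabilizer_iff.1 (hT.fix hjY)) ⟨w, hwW, hw⟩ hεd hjε
  obtain ⟨X, hX⟩ : ∃ X, X = O' p R := ⟨_, rfl⟩
  rw [← hX] at hXd hcard
  have hXR : X ≤ R := hX ▸ O'_le p _
  have hRX : R ≤ normalizer (X : Set G) := hX ▸ le_normalizer_core' _
  haveI := solvable_of_odd hR'odd
  have hX1 : X ≤ O' p R' :=
    le_O'_of_sylow hT2 (fun x hx => (htri.le ⟨hXR hx, hXd hx⟩).1) (hX ▸ O'_coprime _) (hT1.1.trans hRX)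
  have hXeq : O' p R' = X := (Subgroup.eq_of_le_of_card_ge hX1 hcard).symm
  by_cases hXb : X = ⊥
  · have hT0 : T ≠ ⊥ := fun e => hj.2 (mem_bot.1 (e ▸ hjT))
    have hF := isZJFunctor_centerThompsonA.{u} (p := p)
    have hD1 : R' ≤ normalizer (Cfsg.centerThompsonAOf T : Set G) :=
      le_normalizer_zj hp2 hR'odd (hXeq.trans hXb) hT2
    have huT : u ∈ normalizer (T : Set G) := mem_normalizer_fintype fun y hy => by
      rw [hTdef] at hy ⊢
      exact ⟨conj_mem_of_normalizer hT.normalises hy.1, conj_mem_of_normalizer huR hy.2⟩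
    refine hfinal (Cfsg.centerThompsonAOf T) (hF.ne_bot hT2.2.1 hT0) ((hF.le T).trans (hTY.trans hT.fix))
      (hF.normalizer_le T huT) ?_ (hF.normalizer_le T (le_normalizer hjT)) hD1
    obtain ⟨y, hy, hyT⟩ := hT2.conj (hT2.smul (Grp.normalizer_le_smul (le_refl _) hwR'))
    have h1 : y⁻¹ * w ∈ normalizer (T : Set G) := mem_normalizer_fintype fun z hz => by
      have h2 : w * z * w⁻¹ ∈ MulAut.conj y • T := hyT ▸ ⟨z, hz, rfl⟩
      obtain ⟨z', hz', hzz⟩ := h2
      have h3 : y⁻¹ * w * z * (y⁻¹ * w)⁻¹ = z' := by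
        rw [show y⁻¹ * w * z * (y⁻¹ * w)⁻¹ = y⁻¹ * (w * z * w⁻¹) * y by group, ← hzz]
        simp [mul_assoc]
      show y⁻¹ * w * z * (y⁻¹ * w)⁻¹ ∈ T
      exact h3 ▸ hz'
    have h4 := MulMemClass.mul_mem (hD1 hy) (hF.normalizer_le T h1)
    simpa using h4
  · refine hfinal X hXb hXd (hX ▸ mem_normalizer_O' huR) ?_ (hRX hjR) ?_
    · exact hXeq ▸ mem_normalizer_O' hwR'
    · exact hXeq ▸ le_normalizer_core' R'

omit hSub hI in
theorem vcore_conj {u : G} {d : Ω} {V : Subgroup G} (h : VCore Z p u d V) {c : G}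
    (hc : c ∈ normalizer (V : Set G)) : VCore Z p (c * u * c⁻¹) (c • d) V := by
  have himg : Bender.invertedBy (c * u * c⁻¹) V = (fun y => c * y * c⁻¹) '' Bender.invertedBy u V := by
    ext y
    constructor
    · rintro ⟨hy, hyi⟩
      refine ⟨c⁻¹ * y * c, ⟨conj_mem_of_normalizer' hc hy, ?_⟩, by group⟩
      calc u * (c⁻¹ * y * c) * u⁻¹ = c⁻¹ * (c * u * c⁻¹ * y * (c * u * c⁻¹)⁻¹) * c := by group
        _ = _ := by rw [hyi]; group
    · rintro ⟨z, ⟨hz, hzi⟩, rfl⟩
      refine ⟨conj_mem_of_normalizer hc hz, ?_⟩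
      calc c * u * c⁻¹ * (c * z * c⁻¹) * (c * u * c⁻¹)⁻¹ = c * (u * z * u⁻¹) * c⁻¹ := by group
        _ = _ := by rw [hzi]; group
  obtain ⟨j, hjV, hj⟩ := h.exists_real
  refine ⟨S.zAt_conj h.mem, MulMemClass.mul_mem (MulMemClass.mul_mem hc h.normalises) (inv_mem hc), h.pgroup, smul_fixed hc h.fix, ?_, ?_,
    ⟨_, conj_mem_of_normalizer hc hjV, hj.conj c⟩⟩
  · intro y hy
    have h1 := Subgroup.mem_map_of_mem (MulAut.conj c).toMonoidHom (h.gen (conj_mem_of_normalizer' hc hy))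
    rw [MonoidHom.map_closure, show (MulAut.conj c).toMonoidHom (c⁻¹ * y * c) = y by simp [mul_assoc]] at h1
    rw [himg]
    exact h1
  · rw [himg, Nat.card_image_of_injective (fun a b hab => mul_left_cancel (mul_right_cancel hab)),
      S.memPart_eq (c • d) d]
    exact h.count

omit hSub hI in
theorem vcore_tri (hp2 : p ≠ 2) {u : G} {d g : Ω} {V : Subgroup G} (h : VCore Z p u d V) (hg : g ≠ d)
    (hVg : V ≤ stabilizer G g) : ∃ R, RTri Z p u d g R ∧ V ≤ R := by
  have hub := S.smul_ne_of_fix h.mem hg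
  obtain ⟨R, hR, huR, hVR⟩ := QOdd.exists_sylow_ge hp2 (S.invol u h.mem.1) (S.pair_norm h.mem.1 g)
    (S.pair_oddConj h.mem.1 hub) (le_inf hVg (smul_fixed h.normalises hVg)) h.pgroup h.normalises
  obtain ⟨j, hjV, hj⟩ := h.exists_real
  exact ⟨R, ⟨h.mem, hg, huR, hR, S.le_stabilizer_of_count hp2 h.mem.1 hub h.mem.2 hR huR hVR h.fix
    (by rw [S.memPart_eq g d]; exact h.count), j, hVR hjV, hj⟩, hVR⟩

omit hSub hI in
theorem rtri_vcore (hp2 : p ≠ 2) {u : G} {d g : Ω} {Y : Subgroup G} (h : RTri Z p u d g Y) :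
    VCore Z p u d (Subgroup.closure (Bender.invertedBy u Y)) := by
  have hle : Subgroup.closure (Bender.invertedBy u Y) ≤ Y := (Subgroup.closure_le _).2 fun y hy => hy.1
  have hsub : Bender.invertedBy u Y ⊆ Bender.invertedBy u (Subgroup.closure (Bender.invertedBy u Y)) := fun y hy =>
    ⟨Subgroup.subset_closure hy, hy.2⟩
  have hub := S.smul_ne_of_fix h.mem h.ne
  obtain ⟨j, hjY, hj⟩ := h.exists_real
  refine ⟨h.mem, mem_normalizer_fintype fun y hy => ?_, h.sylow.2.1.to_le hle, hle.trans h.fix,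
    Subgroup.closure_mono hsub, ?_, j, Subgroup.subset_closure ⟨hjY, hj.1⟩, hj⟩
  · have hcl : Subgroup.closure (Bender.invertedBy u Y) ≤
        (Subgroup.closure (Bender.invertedBy u Y)).comap (MulAut.conj u).toMonoidHom := by
      refine (Subgroup.closure_le _).2 fun z hz => ?_
      show u * z * u⁻¹ ∈ Subgroup.closure (Bender.invertedBy u Y)
      rw [hz.2]
      exact inv_mem (Subgroup.subset_closure hz)
    exact hcl hy
  · rw [S.memPart_eq d g, ← S.card_inverted_pair hp2 h.mem.1 hub h.sylow h.normalises, Nat.card_coe_set_eq,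
      Nat.card_coe_set_eq]
    exact Set.ncard_le_ncard hsub (Set.toFinite _)

omit hp in
/-- When all pairs are improper a real element fixes only the point of the member inverting it. -/
theorem realFree_of_improper (hfour : FourAt Z Ω) : RealFree Z Ω := by
  intro u x d g hu hx hodd hxd hg hxg
  classical
  haveI := S.finite_points
  obtain ⟨p, hp, hpd⟩ := Nat.exists_prime_and_dvd (fun h => hx.2 (orderOf_eq_one_iff.1 h))
  haveI : Fact p.Prime := ⟨hp⟩
  have hp2 : p ≠ 2 := fun e => Nat.not_even_iff_odd.2 hodd (even_iff_two_dvd.2 (e ▸ hpd))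
  obtain ⟨k, hk⟩ := hpd
  have hk0 : k ≠ 0 := fun e => by
    have h0 := orderOf_pos x
    rw [e, mul_zero] at hk; omega
  have hord : orderOf (x ^ k) = p := by
    rw [orderOf_pow_of_dvd hk0 ⟨p, by rw [hk, mul_comm]⟩, hk, Nat.mul_div_cancel _ (Nat.pos_of_ne_zero hk0)]
  have hxk : x ^ k ≠ 1 := fun e => hp.ne_one (by rw [← hord, e, orderOf_one])
  have hfixpow : ∀ {y : Ω}, x • y = y → (x ^ k) • y = y := fun hy =>
    mem_stabilizer_iff.1 (pow_mem (mem_stabilizer_iff.2 hy) k)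
  obtain ⟨g₀, Y₀, h₀⟩ := S.exists_rtri hSub hI hp2 hu (j := x ^ k) ⟨by rw [← conj_pow, hx.1, inv_pow], hxk⟩ hord
    (hfixpow hxd) hg (hfixpow hxg)
  by_cases hall : ∀ (u : G) (d g : Ω) (Y : Subgroup G), RTri Z p u d g Y →
      O' p (pairCore G g (u • g)) ≤ stabilizer G d
  · -- every core fixes its point
    obtain ⟨⟨u', d', g', Y⟩, hT, hmax⟩ := Set.exists_max_image
      {t : G × Ω × Ω × Subgroup G | RTri Z p t.1 t.2.1 t.2.2.1 t.2.2.2}
      (fun t => Nat.card (O' p (pairCore G t.2.2.1 (t.1 • t.2.2.1)))) (Set.toFinite _) ⟨⟨u, d, g₀, Y₀⟩, h₀⟩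
    replace hT : RTri Z p u' d' g' Y := hT
    have hle : Y ≤ pairStab G d' g' := le_inf hT.fix (hT.sylow.1.trans inf_le_left)
    have hub := S.smul_ne_of_fix hT.mem hT.ne
    have hsyl : Grp.IsSylowIn p Y (pairStab G d' g') := by
      refine ⟨hle, hT.sylow.2.1, ?_⟩
      have h1 := Subgroup.card_mul_index (Y.subgroupOf (pairStab G d' g'))
      have h2 := Subgroup.card_mul_index (Y.subgroupOf (pairStab G g' (u' • g')))
      rw [Nat.card_congr (subgroupOfEquivOfLe hle).toEquiv] at h1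
      rw [Nat.card_congr (subgroupOfEquivOfLe hT.sylow.1).toEquiv, S.card_pairStab_triangle hT.mem rfl hub.symm,
        ← h1] at h2
      show ¬ p ∣ (Y.subgroupOf (pairStab G d' g')).index
      rw [← Nat.eq_of_mul_eq_mul_left Nat.card_pos h2]
      exact hT.sylow.2.2
    obtain ⟨w, hw, hwY⟩ := S.exists_swapper_normalizer hp2 hT.ne.symm hsyl
    obtain ⟨ε, hwε⟩ := S.exists_fix hw.1
    have hεd : ε ≠ d' := fun e => hT.ne (by rw [← hw.2, ← e, hwε])
    obtain ⟨c, hcY, hcu, hcd⟩ := S.exists_conj_point hT.mem ⟨hw.1, hwε⟩ hεd.symm hT.normalises hwY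
    have hYε : Y ≤ stabilizer G ε := hcd ▸ smul_fixed hcY hT.fix
    obtain ⟨j, hjY, hj⟩ := hT.exists_real
    have hT' : RTri Z p w ε d' Y := ⟨⟨hw.1, hwε⟩, hεd.symm, hwY, by rw [hw.2]; exact hsyl, hYε,
      _, conj_mem_of_normalizer hcY hjY, hcu ▸ hj.conj c⟩
    have h1 := hmax ⟨w, ε, d', Y⟩ hT'
    dsimp only at h1
    rw [hw.2] at h1
    exact S.false_of_pair hSub hI hfour hp2 hT hjY hj ⟨hw.1, hwε⟩ hw.2 (mem_stabilizer_iff.1 (hYε hjY))
      (hall _ _ _ _ hT) h1
  · -- a mover gives a block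
    push Not at hall
    obtain ⟨u', d', g', Y, hT, hX⟩ := hall
    have hV := S.rtri_vcore hp2 hT
    obtain ⟨V, hVdef⟩ : ∃ V, V = Subgroup.closure (Bender.invertedBy u' (Y : Subgroup G)) := ⟨_, rfl⟩
    rw [← hVdef] at hV
    have hub := S.smul_ne_of_fix hT.mem hT.ne
    have hmove : ∀ {v : G} {e a b : Ω}, VCore Z p v e V → v • a = b → V ≤ pairStab G a b →
        ¬ O' p (pairCore G a b) ≤ stabilizer G e →
        ∃ c ∈ normalizer (V : Set G), c • a = a ∧ c • b = b ∧ c • e ≠ e := by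
      intro v e a b hv hvab hVD hX
      have hcop : (Nat.card V).Coprime (Nat.card ↥(O' p (pairCore G a b))) := by
        obtain ⟨m, hm⟩ := IsPGroup.iff_card.1 hv.pgroup
        rw [hm]; exact ((O'_coprime _).symm).pow_left m
      obtain ⟨c, hc, hcV, hce⟩ := exists_commute_move (S.invol v hv.mem.1)
        (fun c hc => S.fix_of_commute hv.mem.1 hv.mem.2 hc) hv.fix (QOdd.odd_of_isPGroup hp2 hv.pgroup) hv.gen _ _
        rfl ((odd_pairCore a b).of_dvd_nat (Subgroup.card_dvd_of_le (O'_le p _))) hcop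
        (mem_normalizer_O' (mem_normalizer_O' (hvab ▸ S.pair_norm hv.mem.1 a)))
        (hVD.trans (le_normalizer_core (le_normalizer_core' _))) hX
      have hcD := pairCore_le a b (O'_le p _ hc)
      refine ⟨c, mem_normalizer_fintype fun y hy => ?_, (mem_pair.1 hcD).1, (mem_pair.1 hcD).2, hce⟩
      rw [(hcV y hy).eq, mul_inv_cancel_right]
      exact hy
    have hVY : V ≤ Y := hVdef ▸ (Subgroup.closure_le _).2 fun y hy => hy.1
    obtain ⟨n, hn, -, -, hnd⟩ := hmove hV rfl (hVY.trans hT.sylow.1) hX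
    obtain ⟨j, hjV, hj⟩ := hV.exists_real
    obtain ⟨L, hLN, -, ⟨l, hl, hld⟩, -, -, hblock⟩ :=
      exists_block S hV.mem hV.normalises (S.oddConj_of_move hSub hI hV.mem (QOdd.odd_of_isPGroup hp2 hV.pgroup)
        hV.fix hV.normalises hjV hj hn hnd) ⟨n, hn, hnd⟩
    have hVL : ∀ a ∈ L, V ≤ stabilizer G (a • d') := fun a ha => smul_fixed (hLN ha) hV.fix
    obtain ⟨⟨a, b⟩, ⟨ha, hb, hab⟩, hmax⟩ := Set.exists_max_image
      {t : G × G | t.1 ∈ L ∧ t.2 ∈ L ∧ t.1 • d' ≠ t.2 • d'}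
      (fun t => Nat.card (O' p (pairCore G (t.1 • d') (t.2 • d')))) (Set.toFinite _)
      ⟨⟨l, 1⟩, hl, one_mem L, by rwa [one_smul]⟩
    dsimp only at ha hb hab hmax
    obtain ⟨h, hh, hswap, hfix⟩ := hblock a ha b hb hab
    have hV' := S.vcore_conj hV (hLN hh)
    have hah : a • d' ≠ h • d' := fun e => hab (by rw [← hswap, e, hV'.mem.2])
    obtain ⟨R, hR, hVR⟩ := S.vcore_tri hp2 hV' hah (hVL a ha)
    obtain ⟨j', hj'V, hj'⟩ := hV'.exists_real
    obtain ⟨h', hh', hswap', -⟩ := hblock h hh a ha hah.symm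
    have hw := (S.vcore_conj hV (hLN hh')).mem
    have hXh : O' p (pairCore G (a • d') ((h * u' * h⁻¹) • a • d')) ≤ stabilizer G (h • d') := by
      rw [hswap]
      by_contra hcon
      obtain ⟨c, hcN, hca, hcb, hch⟩ := hmove hV' hswap (le_inf (hVL a ha) (hVL b hb)) hcon
      exact hch (hfix c hcN hca hcb)
    refine S.false_of_pair hSub hI hfour hp2 hR (hVR hj'V) hj' hw hswap'
      (mem_stabilizer_iff.1 (hVL h' hh' hj'V)) hXh ?_
    rw [hswap]
    exact hmax ⟨h, a⟩ ⟨hh, ha, hah.symm⟩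

end Hyp

end Cfsg.Agent.Invol.Aschbacher
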