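import Cfsg.Agent.Lib.Invol.Aschbacher.Core
import Cfsg.Agent.Lib.Invol.Aschbacher.RealFix

/-!
# Proper pairs force commuting members; real elements fix one point

If the members at some two points generate a proper subgroup, those at each point fall into classes modulo an odd
core, permuted transitively, and invariant Sylow subgroups move the point of the swapper.  So the action is doubly
transitive, every pair is proper and the members at a point commute.  In all cases real elements fix one point and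
the action is doubly transitive.
-/

set_option autoImplicit false
set_option linter.unusedSectionVars false

namespace Cfsg.Agent.Invol.Aschbacher

open MulAction Subgroup Cfsg.Agent.Transfer.Loc
open Cfsg.Agent.Invol.Bender (conj_smul_smul pairStab mem_pair ker ker_le ker_fix IsReal conj_mem_of_normalizer)
open scoped Pointwise

universe u v

variable {G : Type u} [Group G] {Ω : Type v} [MulAction G Ω] {Z : Set G}

/-- The group generated by the members at a point. -/
def memGroup (Z : Set G) (e : Ω) : Subgroup G := Subgroup.closure (zAt Z e)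

/-- Its odd core. -/
def memCore [Finite G] (Z : Set G) (e : Ω) : Subgroup G := oddIn (memGroup Z e)

/-- The members at a point congruent to `s` modulo the odd core. -/
def memClass [Finite G] (Z : Set G) (e : Ω) (s : G) : Set G := {t | t ∈ zAt Z e ∧ s⁻¹ * t ∈ memCore Z e}

/-- The members at each point commute modulo the odd core. -/
def CommMod [Finite G] (Z : Set G) (Ω : Type v) [MulAction G Ω] : Prop :=
  ∀ e : Ω, ∀ s ∈ zAt Z e, ∀ t ∈ zAt Z e, s * t * s⁻¹ * t⁻¹ ∈ memCore Z e

variable [Finite G]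

namespace Hyp

variable (S : Hyp G Ω Z)
include S

theorem conj_memGroup (g : G) (e : Ω) : MulAut.conj g • memGroup Z e = memGroup Z (g • e) := by
  show (Subgroup.closure (zAt Z e)).map (MulAut.conj g).toMonoidHom = Subgroup.closure (zAt Z (g • e))
  rw [MonoidHom.map_closure]
  congr 1
  refine Set.Subset.antisymm ?_ fun t ht => ?_
  · rintro _ ⟨t, ht, rfl⟩
    exact S.zAt_conj ht
  · refine ⟨g⁻¹ * t * g, ?_, by simp [mul_assoc]⟩
    have := S.zAt_conj (g := g⁻¹) ht
    rwa [inv_inv, inv_smul_smul] at this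

theorem conj_memCore (g : G) (e : Ω) : MulAut.conj g • memCore Z e = memCore Z (g • e) := by
  haveI : Fact (Nat.Prime 2) := ⟨Nat.prime_two⟩
  exact conj_O'_eq (S.conj_memGroup g e)

theorem conj_mem_core {g x : G} {e : Ω} (hx : x ∈ memCore Z e) : g * x * g⁻¹ ∈ memCore Z (g • e) :=
  S.conj_memCore g e ▸ ⟨x, hx, rfl⟩

theorem memClass_eq {e : Ω} {s t : G} (ht : t ∈ memClass Z e s) : memClass Z e t = memClass Z e s := by
  ext x
  refine ⟨fun hx => ⟨hx.1, ?_⟩, fun hx => ⟨hx.1, ?_⟩⟩
  · have := Subgroup.mul_mem _ ht.2 hx.2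
    simpa [mul_assoc] using this
  · have := Subgroup.mul_mem _ (Subgroup.inv_mem _ ht.2) hx.2
    simpa [mul_assoc] using this

theorem conj_memClass (g : G) (e : Ω) (s : G) :
    (fun x => g * x * g⁻¹) '' memClass Z e s = memClass Z (g • e) (g * s * g⁻¹) := by
  refine Set.Subset.antisymm ?_ fun t ht => ?_
  · rintro _ ⟨t, ht, rfl⟩
    refine ⟨S.zAt_conj ht.1, ?_⟩
    have := S.conj_mem_core (g := g) ht.2
    convert this using 1
    group
  · refine ⟨g⁻¹ * t * g, ⟨?_, ?_⟩, by group⟩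
    · have := S.zAt_conj (g := g⁻¹) ht.1
      rwa [inv_inv, inv_smul_smul] at this
    · have := S.conj_mem_core (g := g⁻¹) ht.2
      rw [inv_smul_smul] at this
      convert this using 1
      group

/-- Every point has as many classes of members. -/
theorem ncard_classes (a b : Ω) :
    (memClass Z a '' zAt Z a).ncard = (memClass Z b '' zAt Z b).ncard := by
  obtain ⟨g, rfl⟩ := S.exists_smul_eq a b
  have e : memClass Z (g • a) '' zAt Z (g • a) =
      Set.image (fun x => g * x * g⁻¹) '' (memClass Z a '' zAt Z a) := by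
    refine Set.Subset.antisymm ?_ ?_
    · rintro _ ⟨t, ht, rfl⟩
      refine ⟨_, ⟨g⁻¹ * t * g, ?_, rfl⟩, ?_⟩
      · have := S.zAt_conj (g := g⁻¹) ht
        rwa [inv_inv, inv_smul_smul] at this
      · rw [S.conj_memClass]; congr 1; group
    · rintro _ ⟨_, ⟨t, ht, rfl⟩, rfl⟩
      exact ⟨g * t * g⁻¹, S.zAt_conj ht, (S.conj_memClass g a t).symm⟩
  rw [e, Set.ncard_image_of_injective _ (Set.image_injective.2 fun x y h =>
    mul_left_cancel (mul_right_cancel (h : g * x * g⁻¹ = g * y * g⁻¹)))]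

/-- The odd core of a pair is transitive on the classes at either point. -/
theorem exists_class_stab {e a : Ω} (hea : e ≠ a) {w : G} (hw : w ∈ zAt Z e) :
    ∃ C ≤ pairCore G e a, (∀ x, x ∈ C ↔ x ∈ pairCore G e a ∧ w⁻¹ * (x * w * x⁻¹) ∈ memCore Z e) ∧
      C.relIndex (pairCore G e a) = (memClass Z e '' zAt Z e).ncard := by
  obtain ⟨R, hR⟩ : ∃ R, R = pairCore G e a := ⟨_, rfl⟩
  rw [← hR]
  have hfix : ∀ x ∈ R, x • e = e := fun x hx => (mem_pair.1 (pairCore_le e a (hR ▸ hx))).1
  have hK : ∀ x ∈ R, ∀ k ∈ memCore Z e, x * k * x⁻¹ ∈ memCore Z e := fun x hx k hk => by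
    have := S.conj_mem_core (g := x) hk
    rwa [hfix x hx] at this
  let C : Subgroup G :=
    { carrier := {x | x ∈ R ∧ w⁻¹ * (x * w * x⁻¹) ∈ memCore Z e}
      one_mem' := ⟨R.one_mem, by simp⟩
      mul_mem' := by
        rintro x y ⟨hx, hx'⟩ ⟨hy, hy'⟩
        refine ⟨R.mul_mem hx hy, ?_⟩
        have h1 := Subgroup.mul_mem _ hx' (hK x hx _ hy')
        convert h1 using 1
        group
      inv_mem' := by
        rintro x ⟨hx, hx'⟩
        refine ⟨R.inv_mem hx, ?_⟩
        have h1 := hK x⁻¹ (R.inv_mem hx) _ (Subgroup.inv_mem _ hx')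
        convert h1 using 1
        group }
  refine ⟨C, fun x hx => hx.1, fun x => Iff.rfl, ?_⟩
  let f : R → ↥(memClass Z e '' zAt Z e) := fun x =>
    ⟨memClass Z e ((x : G) * w * (x : G)⁻¹), _, by
      have := S.zAt_conj (g := (x : G)) hw
      rwa [hfix x x.2] at this, rfl⟩
  have hf : ∀ x y : R, f x = f y ↔ x⁻¹ * y ∈ C.subgroupOf R := by
    intro x y
    have hy : (y : G) * w * (y : G)⁻¹ ∈ zAt Z e := by
      have := S.zAt_conj (g := (y : G)) hw
      rwa [hfix y y.2] at this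
    rw [Subgroup.mem_subgroupOf]
    show f x = f y ↔ ((x⁻¹ * y : R) : G) ∈ R ∧ _
    constructor
    · intro h
      refine ⟨(x⁻¹ * y).2, ?_⟩
      have h0 : (y : G) * w * (y : G)⁻¹ ∈ memClass Z e ((x : G) * w * (x : G)⁻¹) := by
        rw [show memClass Z e ((x : G) * w * (x : G)⁻¹) = memClass Z e ((y : G) * w * (y : G)⁻¹) from
          congrArg Subtype.val h]
        exact ⟨hy, by group; exact Subgroup.one_mem _⟩
      have h1 := hK (x : G)⁻¹ (R.inv_mem x.2) _ h0.2
      convert h1 using 1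
      simp only [Subgroup.coe_mul, Subgroup.coe_inv]
      group
    · rintro ⟨-, h⟩
      refine Subtype.ext (S.memClass_eq ⟨hy, ?_⟩).symm
      have h1 := hK x x.2 _ h
      convert h1 using 1
      simp only [Subgroup.coe_mul, Subgroup.coe_inv]
      group
  rw [← Nat.card_coe_set_eq]
  refine Nat.card_congr (Equiv.ofBijective
    (Quotient.lift f fun x y h => (hf x y).2 (QuotientGroup.leftRel_apply.1 h)) ⟨?_, ?_⟩)
  · intro q r
    induction q using Quotient.ind with
    | _ x =>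
      induction r using Quotient.ind with
      | _ y => exact fun h => Quotient.sound (QuotientGroup.leftRel_apply.2 ((hf x y).1 h))
  · rintro ⟨_, t, ht, rfl⟩
    obtain ⟨k, hk, rfl⟩ := S.exists_conj_zAt hea hw ht
    exact ⟨Quotient.mk _ ⟨k, hR ▸ hk⟩, rfl⟩

/-- An odd prime dividing the number of classes. -/
theorem exists_prime_classes (hfour : FourAt Z Ω) (d : Ω) :
    ∃ p : ℕ, p.Prime ∧ p ≠ 2 ∧ p ∣ (memClass Z d '' zAt Z d).ncard := by
  haveI := S.nontrivial
  obtain ⟨a, had⟩ := exists_ne d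
  obtain ⟨x, hx, y, hy, hne, hxy⟩ := hfour d
  have h1 : 1 < (memClass Z d '' zAt Z d).ncard := by
    refine (Set.one_lt_ncard_iff (Set.toFinite _)).2 ⟨_, _, ⟨x, hx, rfl⟩, ⟨y, hy, rfl⟩, fun h => ?_⟩
    have h2 : y ∈ memClass Z d x := h ▸ ⟨hy, by simp⟩
    have hxy2 : orderOf (x⁻¹ * y) = 2 := by
      rw [inv_of_orderOf_two (S.invol x hx.1)]
      exact S.invol _ (S.mul_mem hx.1 hy.1 hne hxy)
    have h4 := (odd_oddIn (memGroup Z d)).of_dvd_nat (Subgroup.orderOf_dvd_natCard _ h2.2)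
    rw [hxy2] at h4
    exact absurd h4 (by decide)
  obtain ⟨w, hw⟩ := S.zAt_nonempty d
  obtain ⟨C, hC, -, hidx⟩ := S.exists_class_stab had.symm hw
  have hodd : Odd (memClass Z d '' zAt Z d).ncard :=
    (odd_pairCore (G := G) d a).of_dvd_nat (hidx ▸ (Subgroup.index_dvd_card _))
  obtain ⟨p, hp, hpd⟩ := Nat.exists_prime_and_dvd h1.ne'
  exact ⟨p, hp, fun e => Nat.not_even_iff_odd.2 hodd (even_iff_two_dvd.2 (e ▸ hpd)), hpd⟩

/-- Members commuting modulo the core: invariant Sylow subgroups move the point of the swapper. -/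
theorem centreMoved_of_commMod (hc : CommMod Z Ω) {p : ℕ} [hp : Fact p.Prime] (hp2 : p ≠ 2) {d : Ω}
    (hdvd : p ∣ (memClass Z d '' zAt Z d).ncard) : CentreMoved Ω Z p := by
  intro w hw a e ha he P hP hwP hPe
  have hea : e ≠ a := fun h => ha (h ▸ he)
  have hwe : w ∈ zAt Z e := ⟨hw, he⟩
  have hle : P ≤ pairStab G e a := le_inf hPe (hP.1.trans inf_le_left)
  have hsyl : Grp.IsSylowIn p P (pairStab G e a) := by
    refine ⟨hle, hP.2.1, ?_⟩
    have h1 := Subgroup.card_mul_index (P.subgroupOf (pairStab G e a))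
    have h2 := Subgroup.card_mul_index (P.subgroupOf (pairStab G a (w • a)))
    rw [Nat.card_congr (subgroupOfEquivOfLe hle).toEquiv] at h1
    rw [Nat.card_congr (subgroupOfEquivOfLe hP.1).toEquiv, S.card_pairStab_triangle hwe rfl (Ne.symm ha), ← h1] at h2
    show ¬ p ∣ (P.subgroupOf (pairStab G e a)).index
    rw [← Nat.eq_of_mul_eq_mul_left Nat.card_pos h2]
    exact hP.2.2
  obtain ⟨C, hCR, hCmem, hidx⟩ := S.exists_class_stab hea hwe
  obtain ⟨T, hT⟩ : ∃ T, T = P ⊓ pairCore G e a := ⟨_, rfl⟩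
  have hTsyl : Grp.IsSylowIn p T (pairCore G e a) :=
    hT ▸ Bender.isSylowIn_inf_normal hsyl (pairCore_le e a) (le_normalizer_core' _)
  have hTC : T ≤ C := fun y hy => by
    refine (hCmem y).2 ⟨hTsyl.1 hy, ?_⟩
    have hyP : y ∈ P := (hT ▸ inf_le_left : T ≤ P) hy
    obtain ⟨t, ht⟩ : ∃ t, t = y * w * y⁻¹ := ⟨_, rfl⟩
    rw [← ht]
    have htZ : t ∈ zAt Z e := by
      have := S.zAt_conj (g := y) hwe
      rw [mem_stabilizer_iff.1 (hPe hyP)] at this
      exact ht ▸ this
    have hw2 := S.invol w hw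
    have hprod : w⁻¹ * t ∈ P := by
      have h1 := P.mul_mem (conj_mem_of_normalizer hwP hyP) (P.inv_mem hyP)
      rw [ht]
      convert h1 using 1
      rw [inv_of_orderOf_two hw2]; group
    refine mem_of_sq_mem ((QOdd.odd_of_isPGroup hp2 hP.2.1).of_dvd_nat
      (Subgroup.orderOf_dvd_natCard _ hprod)) ?_
    have h2 := hc e w hwe t htZ
    convert h2 using 1
    rw [inv_of_orderOf_two hw2, inv_of_orderOf_two (S.invol t htZ.1)]
    group
  refine hTsyl.2.2 ?_
  rw [← Subgroup.relIndex_mul_relIndex T C _ hTC hCR, hidx, S.ncard_classes e d]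
  exact Dvd.dvd.mul_left hdvd _

/-- Commutators of members of a split subgroup are in the odd core of the members at the point. -/
theorem comm_mem_core {M M₀ : Subgroup G} (F : Frame Z Ω M M₀) {d : Ω} (hall : ∀ z ∈ zAt Z d, z ∈ M) {s t : G}
    (hs : s ∈ zAt Z d) (ht : t ∈ zAt Z d) :
    s * t * s⁻¹ * t⁻¹ ∈ memCore Z d ∧ s * t * s⁻¹ * t⁻¹ ∈ ker Ω M₀ := by
  haveI : Fact (Nat.Prime 2) := ⟨Nat.prime_two⟩
  have hJM : memGroup Z d ≤ M₀ := (Subgroup.closure_le _).2 fun z hz => F.mem z hz.1 (hall z hz)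
  have hk := F.sub.comm_mem_ker (F.mem s hs.1 (hall s hs)) (F.sub.mem_invAt hs) (F.mem t ht.1 (hall t ht))
    (F.sub.mem_invAt ht)
  refine ⟨?_, hk⟩
  have hin : ker Ω M₀ ⊓ memGroup Z d ≤ memCore Z d := le_oddIn inf_le_right
    (fun x hx => mem_normalizer_fintype fun y hy =>
      ⟨Bender.ker_conj_mem (hJM hx) hy.1, (memGroup Z d).mul_mem ((memGroup Z d).mul_mem hx hy.2)
        ((memGroup Z d).inv_mem hx)⟩)
    (F.sub.odd_ker.of_dvd_nat (Subgroup.card_dvd_of_le inf_le_left))
  refine hin ⟨hk, ?_⟩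
  exact Subgroup.mul_mem _ (Subgroup.mul_mem _ (Subgroup.mul_mem _ (Subgroup.subset_closure hs)
    (Subgroup.subset_closure ht)) (Subgroup.inv_mem _ (Subgroup.subset_closure hs)))
    (Subgroup.inv_mem _ (Subgroup.subset_closure ht))

omit S in
theorem mem_pairGen_left {a b : Ω} {z : G} (hz : z ∈ zAt Z a) : z ∈ pairGen Z a b :=
  Subgroup.subset_closure (Or.inl hz)

variable [FaithfulSMul G Ω]

/-- Either all pairs are improper or the members at every point commute. -/
theorem improper_or_commute (hSub : SubFrames Z Ω) (hfour : FourAt Z Ω) :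
    Improper Z Ω ∨ ∀ d : Ω, ∀ s ∈ zAt Z d, ∀ t ∈ zAt Z d, Commute s t := by
  by_cases hI : Improper Z Ω
  · exact Or.inl hI
  refine Or.inr ?_
  simp only [Improper, not_forall] at hI
  obtain ⟨a, b, hab, hM⟩ := hI
  have hframe : ∀ c x : Ω, c ≠ x → pairGen Z c x ≠ ⊤ → ∃ M₀, Frame Z Ω (pairGen Z c x) M₀ := fun c x hcx h => by
    obtain ⟨s, hs, t, ht, hne, hst⟩ := hfour c
    obtain ⟨r, hr⟩ := S.zAt_nonempty x
    exact hSub _ h ⟨s, mem_pairGen_left hs, r, Subgroup.subset_closure (Or.inr hr), c, x, hs, hr, hcx⟩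
      ⟨s, mem_pairGen_left hs, t, mem_pairGen_left ht, hs.1, ht.1, hne, hst⟩
  have hc : CommMod Z Ω := by
    obtain ⟨M₀, F⟩ := hframe a b hab hM
    intro e s hs t ht
    obtain ⟨g, rfl⟩ := S.exists_smul_eq a e
    have hs' := S.zAt_conj (g := g⁻¹) hs
    have ht' := S.zAt_conj (g := g⁻¹) ht
    rw [inv_smul_smul, inv_inv] at hs' ht'
    have h1 := S.conj_mem_core (g := g) (S.comm_mem_core F (fun z hz => mem_pairGen_left hz) hs' ht').1
    convert h1 using 1
    group
  obtain ⟨p, hp, hp2, hpd⟩ := S.exists_prime_classes hfour a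
  haveI : Fact p.Prime := ⟨hp⟩
  intro c s hs t ht
  have h1 : ∀ x : Ω, (s * t * s⁻¹ * t⁻¹) • x = x := by
    intro x
    rcases eq_or_ne x c with rfl | hxc
    · refine mem_stabilizer_iff.1 ?_
      have hs' := mem_stabilizer_iff.2 hs.2
      have ht' := mem_stabilizer_iff.2 ht.2
      exact Subgroup.mul_mem _ (Subgroup.mul_mem _ (Subgroup.mul_mem _ hs' ht') (Subgroup.inv_mem _ hs'))
        (Subgroup.inv_mem _ ht')
    have hpr : pairGen Z c x ≠ ⊤ := by
      intro htop
      obtain ⟨g, hga, hgb⟩ := S.two_trans hp2 (S.centreMoved_of_commMod hc hp2 hpd) hab hxc.symm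
      refine hM (top_unique fun y _ => ?_)
      have hle : pairGen Z c x ≤ MulAut.conj g • pairGen Z a b := by
        refine (Subgroup.closure_le _).2 ?_
        intro z hz
        refine ⟨g⁻¹ * z * g, Subgroup.subset_closure ?_, by simp [mul_assoc]⟩
        rcases hz with hz | hz
        · refine Or.inl ?_
          have := S.zAt_conj (g := g⁻¹) hz
          rwa [inv_inv, ← hga, inv_smul_smul] at this
        · refine Or.inr ?_
          have := S.zAt_conj (g := g⁻¹) hz
          rwa [inv_inv, ← hgb, inv_smul_smul] at this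
      obtain ⟨y', hy', he⟩ := hle (htop ▸ Subgroup.mem_top (g * y * g⁻¹))
      rwa [show y' = y from mul_left_cancel (mul_right_cancel he)] at hy'
    obtain ⟨M₀, F⟩ := hframe c x hxc.symm hpr
    obtain ⟨r, hr⟩ := S.zAt_nonempty x
    exact ker_fix (S.comm_mem_core F (fun z hz => mem_pairGen_left hz) hs ht).2
      ⟨r, F.mem r hr.1 (Subgroup.subset_closure (Or.inr hr)), F.sub.mem_invAt hr⟩
  have h2 : s * t * s⁻¹ * t⁻¹ = 1 := eq_of_smul_eq_smul (α := Ω) fun x => by rw [h1, one_smul]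
  show s * t = t * s
  calc s * t = s * t * s⁻¹ * t⁻¹ * (t * s) := by group
    _ = t * s := by rw [h2, one_mul]

/-- An element of odd order inverted by a member and fixing its point fixes no other point. -/
theorem realFree (hSub : SubFrames Z Ω) (hfour : FourAt Z Ω) : RealFree Z Ω := by
  rcases S.improper_or_commute hSub hfour with hI | hc
  · exact S.realFree_of_improper hSub hI hfour
  intro u j d g hu hj hodd hjd _ _
  have ht : j * u * j⁻¹ ∈ zAt Z d := by
    have := S.zAt_conj (g := j) hu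
    rwa [hjd] at this
  have hu2 := S.invol u hu.1
  have h1 : Commute u (j * u * j⁻¹) := hc d u hu _ ht
  obtain ⟨k, hk⟩ : ∃ k, k = u * (j * u * j⁻¹) := ⟨_, rfl⟩
  have h2 : k * k = 1 := by
    rw [hk]
    calc u * (j * u * j⁻¹) * (u * (j * u * j⁻¹)) = u * ((j * u * j⁻¹) * u) * (j * u * j⁻¹) := by group
      _ = u * (u * (j * u * j⁻¹)) * (j * u * j⁻¹) := by rw [h1.eq]
      _ = (u * u) * (j * (u * u) * j⁻¹) := by group
      _ = 1 := by rw [mul_self_of_orderOf_two hu2]; group
  have h3 : k = (j * j)⁻¹ := by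
    rw [hk]
    calc u * (j * u * j⁻¹) = (u * j * u⁻¹) * (u * u) * j⁻¹ := by group
      _ = _ := by rw [hj.1, mul_self_of_orderOf_two hu2]; group
  have h4 : j * j = 1 := by
    refine Bender.eq_one_of_sq_of_odd (X := Subgroup.zpowers j) (by rw [Nat.card_zpowers]; exact hodd)
      (Subgroup.mul_mem _ (mem_zpowers j) (mem_zpowers j)) ?_
    rw [h3, ← mul_inv_rev, inv_eq_one] at h2
    exact h2
  exact absurd (Bender.eq_one_of_sq_of_odd (X := Subgroup.zpowers j) (by rw [Nat.card_zpowers]; exact hodd)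
    (mem_zpowers j) h4) hj.2

omit [FaithfulSMul G Ω] in
/-- Invariant Sylow subgroups move the point of the swapper when their prime divides the number of members at a
point. -/
theorem centreMoved (hF : RealFree Z Ω) {p : ℕ} [hp : Fact p.Prime] (hp2 : p ≠ 2) {d : Ω}
    (hdvd : p ∣ Nat.card ↥(zAt Z d)) : CentreMoved Ω Z p := by
  intro w hw a e ha he P hP hwP hPe
  have h1 : 1 < Nat.card ↥(Bender.invertedBy w P) := by
    rw [S.card_inverted_pair hp2 hw ha hP hwP, S.memPart_eq a d, memPart]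
    refine Nat.one_lt_pow (Nat.pos_iff_ne_zero.1 (hp.out.factorization_pos_of_dvd ?_ hdvd)) hp.out.one_lt
    obtain ⟨t, ht⟩ := S.zAt_nonempty d
    haveI : Nonempty ↥(zAt Z d) := ⟨⟨t, ht⟩⟩
    exact Nat.card_pos.ne'
  haveI : Nontrivial ↥(Bender.invertedBy w P) := Finite.one_lt_card_iff_nontrivial.1 h1
  obtain ⟨⟨j, hjP, hj⟩, hne⟩ := exists_ne (⟨1, P.one_mem, by simp⟩ : ↥(Bender.invertedBy w P))
  exact hF w j e a ⟨hw, he⟩ ⟨hj, fun h => hne (Subtype.ext h)⟩
    ((QOdd.odd_of_isPGroup hp2 hP.2.1).of_dvd_nat (Subgroup.orderOf_dvd_natCard _ hjP))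
    (mem_stabilizer_iff.1 (hPe hjP)) (fun h => ha (h ▸ he)) (mem_pair.1 (hP.1 hjP)).1

/-- An odd prime dividing the number of members at a point. -/
theorem exists_prime (hfour : FourAt Z Ω) (d : Ω) : ∃ p : ℕ, p.Prime ∧ p ≠ 2 ∧ p ∣ Nat.card ↥(zAt Z d) := by
  haveI := S.nontrivial
  obtain ⟨a, had⟩ := exists_ne d
  obtain ⟨x, hx, y, hy, hne, -⟩ := hfour d
  haveI : Nontrivial ↥(zAt Z d) := ⟨⟨x, hx⟩, ⟨y, hy⟩, fun h => hne (congrArg Subtype.val h)⟩
  have h1 : 1 < Nat.card ↥(zAt Z d) := Finite.one_lt_card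
  have hodd : Odd (Nat.card ↥(zAt Z d)) := by
    have h2 := card_centralizer_mul (R := pairCore G d a) (T := zAt Z d) (s := x) hx (fun r hr t ht => by
      have := S.zAt_conj (g := r) ht
      rwa [(mem_pair.1 (pairCore_le d a hr)).1] at this) fun t ht => S.exists_conj_zAt had.symm hx ht
    exact (odd_pairCore (G := G) d a).of_dvd_nat (Dvd.intro_left _ h2)
  obtain ⟨p, hp, hpd⟩ := Nat.exists_prime_and_dvd h1.ne'
  exact ⟨p, hp, fun e => Nat.not_even_iff_odd.2 hodd (even_iff_two_dvd.2 (e ▸ hpd)), hpd⟩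

/-- The action of a counterexample is doubly transitive. -/
theorem doubly_transitive (hSub : SubFrames Z Ω) (hfour : FourAt Z Ω) {h k h' k' : Ω} (hhk : h ≠ k)
    (hhk' : h' ≠ k') : ∃ g : G, g • h = h' ∧ g • k = k' := by
  obtain ⟨p, hp, hp2, hpd⟩ := S.exists_prime hfour h
  haveI : Fact p.Prime := ⟨hp⟩
  exact S.two_trans hp2 (S.centreMoved (S.realFree hSub hfour) hp2 hpd) hhk hhk'

end Hyp

end Cfsg.Agent.Invol.Aschbacher
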