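import Cfsg.Agent.Lib.Invol.Aschbacher.Pair
import Cfsg.Agent.Lib.Invol.Bender.Parity

/-!
# Transfer of involutions in the setting of Aschbacher's criterion

A transfer evaluated at an involution is a product over its fixed cosets.  So, if the group is generated by the
members and some point has two commuting members, a homomorphism of a point stabiliser into an abelian group kills
every involution; inside the stabiliser an involution outside the kernel of a homomorphism of a Sylow 2-subgroup is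
fused to other classes of that subgroup.
-/

set_option autoImplicit false
set_option linter.unusedSectionVars false

namespace Cfsg.Agent.Invol.Aschbacher

open MulAction Subgroup MonoidHom
open Cfsg.Agent.Invol.Bender (card_modEq_two_fixed)

universe u v w

variable {G : Type u} [Group G] [Finite G] {H : Subgroup G} {A : Type w} [CommGroup A]

/-- The transfer at an involution whose conjugates in the subgroup have one value. -/
theorem transfer_invol (φ : H →* A) {u : G} (hu : orderOf u = 2) (a₀ : A)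
    (hval : ∀ (g : G) (hg : g⁻¹ * u * g ∈ H), φ ⟨_, hg⟩ = a₀) :
    MonoidHom.transfer φ u = a₀ ^ Nat.card {x : G ⧸ H // u • x = x} := by
  classical
  have huu := mul_self_of_orderOf_two hu
  have hzp : ∀ c ∈ zpowers u, c = 1 ∨ c = u := fun c hc => by
    obtain ⟨k, rfl⟩ := mem_zpowers_iff.1 hc
    exact zpow_eq_one_or_self hu k
  obtain ⟨Qi, hQi⟩ : ∃ Qi, Qi = Fintype.ofFinite (Quotient (orbitRel (zpowers u) (G ⧸ H))) := ⟨_, rfl⟩
  rw [transfer_eq_prod_quotient_orbitRel_zpowers_quot]
  rw [Finset.prod_congr rfl (g := fun q : Quotient (orbitRel (zpowers u) (G ⧸ H)) =>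
    if u • q.out = q.out then a₀ else 1) fun q _ => ?_]
  · rw [Finset.prod_ite, Finset.prod_const, Finset.prod_const_one, mul_one]
    congr 1
    rw [← Fintype.card_subtype, ← Nat.card_eq_fintype_card]
    refine Nat.card_congr (Equiv.ofBijective (fun q => (⟨q.1.out, q.2⟩ : {x : G ⧸ H // u • x = x})) ⟨?_, ?_⟩)
    · intro p q h
      have h1 : p.1.out = q.1.out := congrArg Subtype.val h
      exact Subtype.ext ((Quotient.out_eq p.1).symm.trans (h1 ▸ Quotient.out_eq q.1))
    · rintro ⟨x, hx⟩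
      have h1 : (Quotient.mk (orbitRel (zpowers u) (G ⧸ H)) x).out = x := by
        obtain ⟨⟨c, hc⟩, e⟩ := orbitRel_apply.1 (Quotient.exact
          (Quotient.out_eq (Quotient.mk (orbitRel (zpowers u) (G ⧸ H)) x)))
        rw [← e]
        show c • x = x
        rcases hzp c hc with rfl | rfl
        exacts [one_smul _ _, hx]
      exact ⟨⟨Quotient.mk _ x, by rw [h1]; exact hx⟩, Subtype.ext h1⟩
  · obtain ⟨x, hx⟩ : ∃ x, x = q.out := ⟨_, rfl⟩
    have h2 : Function.IsPeriodicPt (u • ·) 2 x := by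
      show (u • ·)^[2] x = x
      simp only [Function.iterate_succ, Function.iterate_zero, Function.comp_apply, id_eq, ← mul_smul, huu,
        one_smul]
    have hper := h2.minimalPeriod_dvd
    rcases (Nat.dvd_prime Nat.prime_two).1 hper with h | h
    · have hfix : u • x = x := Function.minimalPeriod_eq_one_iff_isFixedPt.1 h
      rw [if_pos (hx ▸ hfix)]
      have hmem : x.out⁻¹ * u * x.out ∈ H := by
        rw [← QuotientGroup.out_eq' x, MulAction.Quotient.smul_mk, smul_eq_mul, eq_comm, QuotientGroup.eq] at hfix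
        rwa [mul_assoc]
      refine Eq.trans ?_ (hval x.out hmem)
      congr 1
      apply Subtype.ext
      simp only [← hx, h, pow_one]
    · rw [if_neg]
      · refine Eq.trans ?_ φ.map_one
        congr 1
        apply Subtype.ext
        simp only [Subgroup.coe_one, ← hx, h, pow_two, huu, mul_one, inv_mul_cancel]
      · intro hfix
        rw [← hx] at hfix
        rw [Function.minimalPeriod_eq_one_iff_isFixedPt.2 hfix] at h
        omega

/-- An involution fixes an odd number of cosets of a subgroup of odd index. -/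
theorem odd_card_fixed_cosets {u : G} (hu : orderOf u = 2) (hH : Odd H.index) :
    Odd (Nat.card {x : G ⧸ H // u • x = x}) := by
  have h := card_modEq_two_fixed (f := fun x : G ⧸ H => u • x) fun x => by
    show u • u • x = x
    rw [← mul_smul, mul_self_of_orderOf_two hu, one_smul]
  rw [← Subgroup.index_eq_card, Nat.ModEq, Nat.odd_iff.1 hH] at h
  exact Nat.odd_iff.2 h.symm

/-- If the conjugates of an involution in a subgroup of odd index have one value, the transfer has that value. -/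
theorem transfer_invol_eq (φ : H →* A) {u : G} (hu : orderOf u = 2) (huH : u ∈ H) (hH : Odd H.index)
    (hval : ∀ (g : G) (hg : g⁻¹ * u * g ∈ H), φ ⟨_, hg⟩ = φ ⟨u, huH⟩) :
    MonoidHom.transfer φ u = φ ⟨u, huH⟩ := by
  rw [transfer_invol φ hu _ hval]
  obtain ⟨k, hk⟩ := odd_card_fixed_cosets (H := H) hu hH
  have h1 : φ ⟨u, huH⟩ ^ 2 = 1 := by
    rw [← map_pow, show (⟨u, huH⟩ : H) ^ 2 = 1 from Subtype.ext
      ((SubmonoidClass.coe_pow _ _).trans (by rw [pow_two, mul_self_of_orderOf_two hu]; rfl)), map_one]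
  rw [hk, pow_succ, pow_mul, h1, one_pow, one_mul]

namespace Hyp

variable {Ω : Type v} [MulAction G Ω] {Z : Set G} (S : Hyp G Ω Z)
include S

/-- A homomorphism of a point stabiliser into an abelian group kills its involutions. -/
theorem hom_stabilizer_invol (hgen : Subgroup.closure Z = ⊤) {a : Ω}
    (hfour : ∃ x ∈ zAt Z a, ∃ y ∈ zAt Z a, x ≠ y ∧ Commute x y) (φ : stabilizer G a →* A) {u : G}
    (hu : orderOf u = 2) (hua : u ∈ stabilizer G a) : φ ⟨u, hua⟩ = 1 := by
  haveI := S.finite_points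
  haveI := S.transitive
  haveI := S.nontrivial
  have hidx : Odd (stabilizer G a).index := by
    rw [index_stabilizer_of_transitive]
    exact S.odd_card
  have hconj : ∀ (g : G) (h : stabilizer G a) (hg : g ∈ stabilizer G a),
      φ ⟨g * h * g⁻¹, MulMemClass.mul_mem (MulMemClass.mul_mem hg h.2) (inv_mem hg)⟩ = φ h := fun g h hg => by
    rw [show (⟨g * h * g⁻¹, _⟩ : stabilizer G a) = ⟨g, hg⟩ * h * ⟨g, hg⟩⁻¹ from Subtype.ext rfl, map_mul,
      map_mul, map_inv, mul_right_comm, mul_inv_cancel, one_mul]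
  -- the members at the point all have value one
  have hzero : ∀ z (hz : z ∈ zAt Z a), φ ⟨z, mem_stabilizer_iff.2 hz.2⟩ = 1 := by
    have hsame : ∀ z (hz : z ∈ zAt Z a) t (ht : t ∈ zAt Z a),
        φ ⟨t, mem_stabilizer_iff.2 ht.2⟩ = φ ⟨z, mem_stabilizer_iff.2 hz.2⟩ := fun z hz t ht => by
      obtain ⟨b, hba⟩ := exists_ne a
      obtain ⟨k, hk, rfl⟩ := S.exists_conj_zAt hba.symm hz ht
      exact hconj k ⟨z, mem_stabilizer_iff.2 hz.2⟩ (pairCore_le a b hk).1
    obtain ⟨x, hx, y, hy, hne, hxy⟩ := hfour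
    intro z hz
    have hxyZ : x * y ∈ zAt Z a := ⟨S.mul_mem hx.1 hy.1 hne hxy, by rw [mul_smul, hy.2, hx.2]⟩
    have h1 := hsame z hz (x * y) hxyZ
    rw [show (⟨x * y, mem_stabilizer_iff.2 hxyZ.2⟩ : stabilizer G a) =
      ⟨x, mem_stabilizer_iff.2 hx.2⟩ * ⟨y, mem_stabilizer_iff.2 hy.2⟩ from Subtype.ext rfl, map_mul,
      hsame z hz x hx, hsame z hz y hy, mul_eq_right] at h1
    exact h1
  -- the transfer is trivial
  have hV : MonoidHom.transfer φ = 1 := by
    refine MonoidHom.eq_of_eqOn_dense hgen fun z hz => ?_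
    rw [transfer_invol φ (S.invol z hz) 1 fun g hg => hzero _ ⟨by simpa using S.conj_mem g⁻¹ z hz,
      mem_stabilizer_iff.1 hg⟩, one_pow]
    rfl
  by_cases huZ : u ∈ Z
  · exact hzero u ⟨huZ, mem_stabilizer_iff.1 hua⟩
  have h1 := transfer_invol_eq φ hu hua hidx fun g hg => ?_
  · rw [hV, MonoidHom.one_apply] at h1
    exact h1.symm
  have hga : u • g • a = g • a := by
    have h2 := mem_stabilizer_iff.1 hg
    rwa [mul_smul, mul_smul, inv_smul_eq_iff] at h2
  obtain ⟨l, hl, hla⟩ := S.exists_smul_lgen hu (mem_stabilizer_iff.1 hua) hga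
  have hh : l⁻¹ * g ∈ stabilizer G a := by
    rw [mem_stabilizer_iff, mul_smul, inv_smul_eq_iff, hla]
  have h3 := hconj (l⁻¹ * g)⁻¹ ⟨u, hua⟩ (inv_mem hh)
  refine Eq.trans (congrArg φ (Subtype.ext ?_)) h3
  show g⁻¹ * u * g = (l⁻¹ * g)⁻¹ * u * (l⁻¹ * g)⁻¹⁻¹
  calc g⁻¹ * u * g = g⁻¹ * (u * l) * (l⁻¹ * g) := by group
    _ = g⁻¹ * (l * u) * (l⁻¹ * g) := by rw [(commute_of_mem_lgen hl).eq]
    _ = _ := by group

/-- An involution of a Sylow 2-subgroup of a point stabiliser outside the kernel of a homomorphism of that subgroup has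
a conjugate there with another value. -/
theorem exists_fused_value (hgen : Subgroup.closure Z = ⊤) {a : Ω}
    (hfour : ∃ x ∈ zAt Z a, ∃ y ∈ zAt Z a, x ≠ y ∧ Commute x y) {T : Subgroup G} (hTa : T ≤ stabilizer G a)
    (hT : Grp.IsSylowIn 2 T (stabilizer G a)) (ψ : T →* A) {u : G} (hu : orderOf u = 2) (huT : u ∈ T)
    (hne : ψ ⟨u, huT⟩ ≠ 1) :
    ∃ g ∈ stabilizer G a, ∃ h : g⁻¹ * u * g ∈ T, ψ ⟨_, h⟩ ≠ ψ ⟨u, huT⟩ := by
  by_contra hcon
  push Not at hcon
  obtain ⟨T', hT'⟩ : ∃ T', T' = T.subgroupOf (stabilizer G a) := ⟨_, rfl⟩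
  obtain ⟨ψ', hψ'⟩ : ∃ ψ' : T' →* A, ψ' = ψ.comp
      ((subgroupOfEquivOfLe hTa).toMonoidHom.comp (MulEquiv.subgroupCongr hT').toMonoidHom) := ⟨_, rfl⟩
  have hodd : Odd T'.index := Nat.odd_iff.2 (Nat.two_dvd_ne_zero.1 (hT' ▸ hT.2.2))
  have hval : ∀ (x : stabilizer G a) (hx : x ∈ T'), ψ' ⟨x, hx⟩ = ψ ⟨x, mem_subgroupOf.1 (hT' ▸ hx)⟩ :=
    fun x hx => by rw [hψ']; rfl
  have hu' : orderOf (⟨u, hTa huT⟩ : stabilizer G a) = 2 := by rw [← Subgroup.orderOf_coe]; exact hu
  have huT' : (⟨u, hTa huT⟩ : stabilizer G a) ∈ T' := hT' ▸ mem_subgroupOf.2 huT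
  have h1 := transfer_invol_eq ψ' hu' huT' hodd fun g hg => by
    rw [hval, hval]
    exact hcon g g.2 (mem_subgroupOf.1 (hT' ▸ hg))
  rw [S.hom_stabilizer_invol hgen hfour (MonoidHom.transfer ψ') hu (hTa huT), hval] at h1
  exact hne h1.symm

end Hyp

end Cfsg.Agent.Invol.Aschbacher
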