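import Cfsg.Agent.Lib.Invol.Aschbacher.Count
import Cfsg.Agent.Lib.Invol.Aschbacher.OddLinear
import Cfsg.Agent.Lib.Invol.Aschbacher.Transfer
import Cfsg.Agent.Lib.Invol.Aschbacher.ProperPair

/-!
# No involution centralises a square root of the members

Let `r` be one more than the number of members at a fixed point commuting with `u` and `r ^ 2` one more than the
number of all.  For `r = 2` the sign on the three members is a homomorphism seeing `u`; `u` cannot fix `r ^ 2 + 1`
points as the moved ones are not an integer, nor `r ^ 3 + 1` as a prime dividing `r + 1` gives a Sylow subgroup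
fixing two points; if it fixes `r + 1` points the members are regular on the other points, so the stabiliser acts on
them as a semilinear group and the transfer lemma centralises the cyclic part, which is then too small.
-/

set_option autoImplicit false
set_option linter.unusedSectionVars false

namespace Cfsg.Agent.Invol.Aschbacher

open MulAction Subgroup
open Cfsg.Agent.Invol.Bender (pairStab mem_pair conj_smul_smul)
open scoped Pointwise

universe u

variable {G : Type u} [Group G] [Finite G] {Ω : Type u} [MulAction G Ω] {Z : Set G}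

/-- The conjugation action of a subgroup normalising another. -/
theorem exists_conjHom {H E : Subgroup G} (h : ∀ x ∈ H, ∀ e ∈ E, x * e * x⁻¹ ∈ E) :
    ∃ φ : H →* MulAut E, ∀ (x : H) (e : E), ((φ x e : E) : G) = x * e * (x : G)⁻¹ := by
  have hle : H ≤ normalizer (E : Set G) := fun x hx => Subgroup.mem_normalizer_fintype (h x hx)
  exact ⟨E.normalizerMonoidHom.comp (inclusion hle), fun x e => rfl⟩

/-- Arithmetic for the fixed point count `r ^ 2 + 1`. -/
theorem square_not_integral {r M : ℕ} (hr : 4 ≤ r) (h : M * (r + 1) = (r ^ 2 + 1) * r ^ 2 * (r - 1)) : False := by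
  have h1 : ((M : ℤ) * (r + 1)) = ((r : ℤ) ^ 2 + 1) * (r : ℤ) ^ 2 * ((r : ℤ) - 1) := by
    have := congrArg (fun n : ℕ => (n : ℤ)) h
    push_cast [Nat.cast_sub (show 1 ≤ r by omega)] at this
    exact this
  have h2 : ((r : ℤ) + 1) ∣ 4 :=
    ⟨(r : ℤ) ^ 4 - 2 * (r : ℤ) ^ 3 + 3 * (r : ℤ) ^ 2 - 4 * (r : ℤ) + 4 - M, by linear_combination h1⟩
  have := Int.le_of_dvd (by norm_num) h2
  omega

/-- Arithmetic for the fixed point count `r ^ 3 + 1`. -/
theorem cube_not_two_mod {r M p : ℕ} (hp : p.Prime) (hp2 : p ≠ 2) (hr : 4 ≤ r) (hpr : p ∣ r + 1)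
    (h : M * (r + 1) = (r ^ 3 + 1) * r ^ 3 * (r - 1)) (hN : r ^ 3 + 1 + M ≡ 2 [MOD p]) : False := by
  haveI := Fact.mk hp
  have h1 : ((M : ℤ) * (r + 1)) = ((r : ℤ) ^ 3 + 1) * (r : ℤ) ^ 3 * ((r : ℤ) - 1) := by
    have := congrArg (fun n : ℕ => (n : ℤ)) h
    push_cast [Nat.cast_sub (show 1 ≤ r by omega)] at this
    exact this
  have h2 : (M : ℤ) = ((r : ℤ) ^ 2 - r + 1) * (r : ℤ) ^ 3 * ((r : ℤ) - 1) :=
    mul_right_cancel₀ (show ((r : ℤ) + 1) ≠ 0 by omega) (by rw [h1]; ring)
  have h3 : (r : ZMod p) = -1 := by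
    rw [eq_neg_iff_add_eq_zero, ← Nat.cast_one (R := ZMod p), ← Nat.cast_add, ZMod.natCast_eq_zero_iff]
    exact hpr
  have h4 := congrArg (fun n : ℤ => (n : ZMod p)) h2
  push_cast at h4
  rw [h3] at h4
  have h5 := (ZMod.natCast_eq_natCast_iff _ _ _).2 hN
  push_cast at h5
  rw [h4, h3] at h5
  have h6 : ((4 : ℕ) : ZMod p) = 0 := by push_cast; linear_combination h5
  rw [ZMod.natCast_eq_zero_iff] at h6
  have h7 : p ∣ 2 ^ 2 := h6
  exact hp2 ((Nat.prime_dvd_prime_iff_eq hp Nat.prime_two).1 (hp.dvd_of_dvd_pow h7))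

namespace Hyp

variable (S : Hyp G Ω Z)
include S

/-- With three members at a point every involution fixing it centralises them. -/
theorem false_of_three (hgen : Subgroup.closure Z = ⊤) (hfour : FourAt Z Ω) {u : G} (hu : orderOf u = 2)
    {a : Ω} (ha : u • a = a) (hm : (zAt Z a).ncard = 3) (hc : (cAt Z u a).ncard = 1) : False := by
  classical
  have hmem : ∀ h ∈ stabilizer G a, ∀ e ∈ zAt Z a, h * e * h⁻¹ ∈ zAt Z a := fun h hh e he => by
    have := S.zAt_conj (g := h) he
    rwa [mem_stabilizer_iff.1 hh] at this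
  let act : MulAction (stabilizer G a) (zAt Z a) :=
    { smul := fun h e => ⟨(h : G) * e * (h : G)⁻¹, hmem h h.2 e e.2⟩
      one_smul := fun e => Subtype.ext (by show (1 : G) * e * (1 : G)⁻¹ = e; group)
      mul_smul := fun h k e => Subtype.ext (by
        show (h : G) * k * e * ((h : G) * k)⁻¹ = (h : G) * ((k : G) * e * (k : G)⁻¹) * (h : G)⁻¹; group) }
  letI := act
  haveI := Fintype.ofFinite (zAt Z a)
  let φ : stabilizer G a →* ℤˣ := (Equiv.Perm.sign).comp (MulAction.toPermHom (stabilizer G a) (zAt Z a))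
  have h1 := S.hom_stabilizer_invol hgen (hfour a) φ hu (mem_stabilizer_iff.2 ha)
  obtain ⟨e, he⟩ := Set.ncard_eq_one.1 hc
  have hswap : ∃ x y : zAt Z a, x ≠ y ∧
      MulAction.toPermHom (stabilizer G a) (zAt Z a) ⟨u, mem_stabilizer_iff.2 ha⟩ = Equiv.swap x y := by
    obtain ⟨f, hf⟩ : ∃ f : zAt Z a, (f : G) ≠ e := by
      by_contra h
      push Not at h
      have h3 : zAt Z a ⊆ {e} := fun x hx => h ⟨x, hx⟩
      have := Set.ncard_le_ncard h3
      rw [hm, Set.ncard_singleton] at this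
      omega
    refine ⟨f, ⟨u * (f : G) * u⁻¹, hmem u (mem_stabilizer_iff.2 ha) f f.2⟩, fun h => hf ?_, ?_⟩
    · have h3 : u * (f : G) * u⁻¹ = f := (congrArg Subtype.val h).symm
      have hmem' : (f : G) ∈ cAt Z u a := ⟨f.2, (mul_inv_eq_iff_eq_mul.1 h3).symm⟩
      rw [he] at hmem'
      exact hmem'
    · refine Equiv.ext fun x => Subtype.ext ?_
      show u * (x : G) * u⁻¹ = _
      have huu := mul_self_of_orderOf_two hu
      have hui := inv_of_orderOf_two hu
      rcases eq_or_ne x f with rfl | hxf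
      · rw [Equiv.swap_apply_left]
      rcases eq_or_ne x ⟨u * (f : G) * u⁻¹, hmem u (mem_stabilizer_iff.2 ha) f f.2⟩ with rfl | hxg
      · rw [Equiv.swap_apply_right]
        show u * (u * (f : G) * u⁻¹) * u⁻¹ = f
        rw [hui]
        calc u * (u * (f : G) * u) * u = (u * u) * f * (u * u) := by group
          _ = f := by rw [huu, one_mul, mul_one]
      rw [Equiv.swap_apply_of_ne_of_ne hxf hxg]
      have hec : e ∈ cAt Z u a := by rw [he]; exact rfl
      have hue : u * e * u⁻¹ = e := by rw [← hec.2.eq, mul_inv_cancel_right]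
      have hfg : (f : G) ≠ u * (f : G) * u⁻¹ := fun h => hf (by
        have hmem' : (f : G) ∈ cAt Z u a := ⟨f.2, (mul_inv_eq_iff_eq_mul.1 h.symm).symm⟩
        rw [he] at hmem'
        exact hmem')
      have hxe : (x : G) = e := by
        by_contra hxe
        have h4 : ({e, (f : G), u * (f : G) * u⁻¹, (x : G)} : Set G) ⊆ zAt Z a := by
          rintro y (rfl | rfl | rfl | rfl)
          exacts [hec.1, f.2, hmem u (mem_stabilizer_iff.2 ha) f f.2, x.2]
        have h5 := Set.ncard_le_ncard h4 (Set.toFinite _)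
        have hge : u * (f : G) * u⁻¹ ≠ e := fun h => hf (mul_left_cancel (mul_right_cancel (h.trans hue.symm)))
        rw [hm, Set.ncard_insert_of_notMem (by simp [Ne.symm hf, Ne.symm hge, Ne.symm hxe]) (Set.toFinite _),
          Set.ncard_insert_of_notMem (by simp [hfg, Ne.symm (fun h => hxf (Subtype.ext h) : (x : G) ≠ f)])
            (Set.toFinite _),
          Set.ncard_pair (fun h => hxg (Subtype.ext h.symm))] at h5
        omega
      rw [hxe, hue]
  obtain ⟨x, y, hxy, h2⟩ := hswap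
  have h3 : φ ⟨u, mem_stabilizer_iff.2 ha⟩ = -1 := by
    show Equiv.Perm.sign (MulAction.toPermHom (stabilizer G a) (zAt Z a) ⟨u, mem_stabilizer_iff.2 ha⟩) = -1
    rw [h2, Equiv.Perm.sign_swap hxy]
  rw [h3] at h1
  exact absurd h1 (by decide)

/-- The members cannot be regular on the other points while an involution centralises a square root of them. -/
theorem false_of_regular (hgen : Subgroup.closure Z = ⊤) (hA : CommAt Z Ω) (hfour : FourAt Z Ω) {u : G}
    (hu : orderOf u = 2) {a : Ω} (ha : u • a = a) {r : ℕ} (hr : 4 ≤ r) (hm : (zAt Z a).ncard + 1 = r ^ 2)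
    (hc : (cAt Z u a).ncard + 1 = r) (hN : Nat.card Ω = r ^ 2 + 1) : False := by
  classical
  haveI := S.finite_points
  haveI := S.nontrivial
  obtain ⟨E, hE, -, hEc, hEn⟩ := S.exists_elementary hA a
  letI : CommGroup E := { (inferInstance : Group E) with mul_comm := fun x y => Subtype.ext (hEc x x.2 y y.2).eq }
  have hEone : ∀ x : E, x * x = 1 := fun x => Subtype.ext (by
    rcases (hE x).1 x.2 with h | h
    · rw [Subgroup.coe_mul, h, mul_one]; rfl
    · rw [Subgroup.coe_mul, mul_self_of_orderOf_two (S.invol _ h.1)]; rfl)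
  have hone : (1 : G) ∉ zAt Z a := fun h => by
    have := S.invol 1 h.1
    rw [orderOf_one] at this
    omega
  have hEcard : Nat.card E = r ^ 2 := by
    rw [← hm, ← Set.ncard_insert_of_notMem hone (Set.toFinite _), ← Nat.card_coe_set_eq]
    exact Nat.card_congr (Equiv.subtypeEquivRight fun g => hE g)
  haveI : Nontrivial E := Finite.one_lt_card_iff_nontrivial.1 (by rw [hEcard]; nlinarith)
  obtain ⟨b, hba⟩ := exists_ne a
  -- the elementary group is transitive on the other points
  have hEa : ∀ e ∈ E, e • a = a := fun e he => by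
    rcases (hE e).1 he with h | h
    · rw [h, one_smul]
    · exact h.2
  have hEfree : ∀ e ∈ E, e • b = b → e = 1 := fun e he heb =>
    ((hE e).1 he).resolve_right fun h => hba (S.fix_unique h.1 heb h.2)
  have htr : ∀ x : Ω, x ≠ a → ∃ e ∈ E, e • b = x := by
    have hinj : Function.Injective (fun e : E => (⟨(e : G) • b, fun h => hba (smul_left_cancel (e : G)
        (h.trans (hEa e e.2).symm))⟩ : {x : Ω // x ≠ a})) := fun e f h => by
      have h' : (e : G) • b = (f : G) • b := congrArg Subtype.val h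
      exact Subtype.ext (inv_mul_eq_one.1 (hEfree _ (MulMemClass.mul_mem (InvMemClass.inv_mem e.2) f.2)
        (by rw [mul_smul, ← h', inv_smul_smul])))
    have hcard : Nat.card {x : Ω // x ≠ a} = r ^ 2 := by
      have h1 := Set.ncard_add_ncard_compl {a}
      rw [Set.ncard_singleton, hN] at h1
      rw [show {x : Ω // x ≠ a} = ↥({a}ᶜ : Set Ω) from rfl, Nat.card_coe_set_eq]
      omega
    intro x hx
    obtain ⟨e, he⟩ := ((Nat.bijective_iff_injective_and_card _).2 ⟨hinj, by rw [hEcard, hcard]⟩).surjective ⟨x, hx⟩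
    exact ⟨e, e.2, congrArg Subtype.val he⟩
  -- the action of the stabiliser
  obtain ⟨φ, hφ⟩ := exists_conjHom (H := stabilizer G a) (E := E) fun x hx e he =>
    conj_mem_of_norm (hEn hx) he
  obtain ⟨R, hR⟩ : ∃ R, R = (pairCore G a b).subgroupOf (stabilizer G a) := ⟨_, rfl⟩
  have hRle : pairCore G a b ≤ stabilizer G a := (pairCore_le a b).trans inf_le_left
  have hodd : Odd (Nat.card (R.map φ)) := by
    refine (odd_pairCore (G := G) a b).of_dvd_nat ((Subgroup.card_map_dvd _ _).trans (dvd_of_eq ?_))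
    rw [hR, Nat.card_congr (subgroupOfEquivOfLe hRle).toEquiv]
  have hne1 : ∀ x : E, x ≠ 1 → (x : G) ∈ zAt Z a := fun x hx =>
    ((hE x).1 x.2).resolve_left fun h => hx (Subtype.ext h)
  have htrans : ∀ x y : E, x ≠ 1 → y ≠ 1 → ∃ g ∈ R.map φ, g x = y := fun x y hx hy => by
    obtain ⟨k, hk, hke⟩ := S.exists_conj_zAt hba.symm (hne1 x hx) (hne1 y hy)
    exact ⟨φ ⟨k, hRle hk⟩, ⟨⟨k, hRle hk⟩, hR ▸ mem_subgroupOf.2 hk, rfl⟩, Subtype.ext ((hφ _ _).trans hke)⟩
  obtain ⟨K, hKR, hKc, hKn, hKfree, hKsc⟩ := exists_cyclic_kernel hEone hodd htrans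
  -- the stabiliser normalises the odd part
  have hnorm : ∀ h : stabilizer G a, ∀ g ∈ R.map φ, φ h * g * (φ h)⁻¹ ∈ R.map φ := by
    rintro h _ ⟨k, hk, rfl⟩
    have hhb : (h : G) • b ≠ a := fun e => hba (smul_left_cancel (h : G) (e.trans (mem_stabilizer_iff.1 h.2).symm))
    obtain ⟨e, he, heb⟩ := htr _ hhb
    obtain ⟨d, hd⟩ : ∃ d : stabilizer G a, d = ⟨e, mem_stabilizer_iff.2 (hEa e he)⟩⁻¹ * h := ⟨_, rfl⟩
    have hdD : (d : G) ∈ pairStab G a b := by
      rw [hd, Subgroup.coe_mul, InvMemClass.coe_inv]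
      exact mem_pair.2 ⟨by rw [mul_smul, mem_stabilizer_iff.1 h.2, inv_smul_eq_iff, hEa e he],
        by rw [mul_smul, ← heb, inv_smul_smul]⟩
    have he1 : φ ⟨e, mem_stabilizer_iff.2 (hEa e he)⟩ = 1 := MulEquiv.ext fun x => Subtype.ext (by
      rw [hφ]
      show e * (x : G) * e⁻¹ = x
      rw [(hEc e he x x.2).eq, mul_inv_cancel_right])
    have hφh : φ h = φ d := by rw [hd, map_mul, map_inv, he1, inv_one, one_mul]
    refine ⟨d * k * d⁻¹, ?_, by rw [map_mul, map_mul, map_inv, hφh]⟩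
    have hk' : (k : G) ∈ pairCore G a b := mem_subgroupOf.1 (hR ▸ hk)
    exact hR ▸ mem_subgroupOf.2 (conj_mem_of_norm (Transfer.Loc.le_normalizer_core' _ hdD) hk')
  -- the transfer lemma centralises the cyclic part
  haveI : Finite (MulAut E) := Finite.of_injective (fun f : MulAut E => (f : E → E)) DFunLike.coe_injective
  have hKnorm : ∀ h : stabilizer G a, ∀ g ∈ K, φ h * g * (φ h)⁻¹ ∈ K := fun h g hg =>
    hKn (φ h) (hnorm h) g hg
  have hle : φ.range ≤ normalizer (K : Set (MulAut E)) := by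
    rintro _ ⟨h, rfl⟩
    exact Subgroup.mem_normalizer_fintype (hKnorm h)
  haveI := hKc
  letI : CommGroup (MulAut K) := { (inferInstance : Group (MulAut K)) with
    mul_comm := fun f g => by
      have e := IsCyclic.mulAutMulEquiv K
      exact e.injective (by rw [map_mul, map_mul, mul_comm]) }
  let ψ : stabilizer G a →* MulAut K := (K.normalizerMonoidHom.comp (inclusion hle)).comp φ.rangeRestrict
  have hu1 := S.hom_stabilizer_invol hgen (hfour a) ψ hu (mem_stabilizer_iff.2 ha)
  obtain ⟨U, hU⟩ : ∃ U, U = φ ⟨u, mem_stabilizer_iff.2 ha⟩ := ⟨_, rfl⟩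
  have hcomm : ∀ k ∈ K, Commute U k := fun k hk => by
    have h1 := congrArg (fun f : MulAut K => ((f ⟨k, hk⟩ : K) : MulAut E)) hu1
    exact hU ▸ mul_inv_eq_iff_eq_mul.1 h1
  -- so the cyclic part is semiregular on the members commuting with `u`
  obtain ⟨e₀, he₀, heu⟩ := S.exists_partner_invol hu ha
  have hK1 : Nat.card K ≤ r - 1 := by
    obtain ⟨x₀, hx₀def⟩ : ∃ x₀ : E, x₀ = ⟨e₀, (hE e₀).2 (Or.inr he₀)⟩ := ⟨_, rfl⟩
    have hx₀ : (x₀ : G) = e₀ := by rw [hx₀def]
    have hx₀1 : x₀ ≠ 1 := fun e => hone (by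
      have h1 : (x₀ : G) = 1 := congrArg Subtype.val e
      rw [hx₀] at h1
      rwa [h1] at he₀)
    have hUx : U x₀ = x₀ := Subtype.ext (by
      rw [hU, hφ]
      show u * (x₀ : G) * u⁻¹ = x₀
      rw [hx₀, ← heu.eq, mul_inv_cancel_right])
    rw [show r - 1 = (cAt Z u a).ncard by omega, ← Nat.card_coe_set_eq (cAt Z u a)]
    refine Nat.card_le_card_of_injective (fun k => ⟨(((k : MulAut E) x₀ : E) : G), hne1 _ (fun h => hx₀1
      ((k : MulAut E).injective (h.trans (map_one _).symm))), ?_⟩) fun k l h => Subtype.ext ?_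
    · have h1 : U ((k : MulAut E) x₀) = (k : MulAut E) x₀ := by
        have h2 := DFunLike.congr_fun (hcomm k k.2).eq x₀
        simp only [MulAut.mul_apply] at h2
        rw [h2, hUx]
      have h3 := congrArg Subtype.val h1
      rw [hU, hφ] at h3
      exact (mul_inv_eq_iff_eq_mul.1 h3).symm
    · have h1 : (k : MulAut E) x₀ = (l : MulAut E) x₀ := Subtype.ext (congrArg Subtype.val h :)
      by_contra hne
      refine hx₀1 (hKfree _ (MulMemClass.mul_mem (InvMemClass.inv_mem l.2) k.2)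
        (fun e => hne (inv_mul_eq_one.1 e).symm) x₀ ?_)
      rw [MulAut.mul_apply, h1]
      exact (l : MulAut E).symm_apply_apply x₀
  have hRcard : r ^ 2 - 1 ≤ Nat.card (R.map φ) := by
    obtain ⟨x, hx⟩ := exists_ne (1 : E)
    have h1 : Nat.card {y : E // y ≠ 1} = r ^ 2 - 1 := by
      have h2 := Set.ncard_add_ncard_compl ({1} : Set E)
      rw [Set.ncard_singleton, hEcard] at h2
      rw [show {y : E // y ≠ 1} = ↥({1}ᶜ : Set E) from rfl, Nat.card_coe_set_eq]
      omega
    rw [← h1]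
    refine Nat.card_le_card_of_surjective (fun g : R.map φ => (⟨(g : MulAut E) x,
      fun e => hx ((g : MulAut E).injective (e.trans (map_one _).symm))⟩ : {y : E // y ≠ 1})) fun y => ?_
    obtain ⟨g, hg, hgy⟩ := htrans x y hx y.2
    exact ⟨⟨g, hg⟩, Subtype.ext hgy⟩
  have h2 := card_le_sq (fun g hg k hk => hKn g (fun s hs => MulMemClass.mul_mem (MulMemClass.mul_mem hg hs)
    (InvMemClass.inv_mem hg)) k hk) hKsc
  have h3 : Nat.card K ^ 2 ≤ (r - 1) ^ 2 := Nat.pow_le_pow_left hK1 2
  have h4 : (r - 1) ^ 2 < r ^ 2 - 1 := by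
    obtain ⟨s, rfl⟩ : ∃ s, r = s + 1 := ⟨r - 1, by omega⟩
    simp only [Nat.add_sub_cancel]
    have : (s + 1) ^ 2 = s ^ 2 + 2 * s + 1 := by ring
    omega
  omega

variable [FaithfulSMul G Ω]

/-- In a counterexample every involution outside `Z` centralises the members at its fixed points. -/
theorem cent_of_counterexample (hB : ClosedBelow Ω Z) (hgen : Subgroup.closure Z = ⊤) (hA : CommAt Z Ω)
    (hfour : FourAt Z Ω) {u : G} (hu : orderOf u = 2) (huZ : u ∉ Z) {a : Ω} (ha : u • a = a) :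
    ∀ z ∈ zAt Z a, Commute z u := by
  classical
  haveI := S.finite_points
  rcases S.cAt_eq_or_sq hB hA hu huZ ha with h | h
  · have h1 : cAt Z u a = zAt Z a := Set.eq_of_subset_of_ncard_le (fun _ hz => hz.1) h.ge (Set.toFinite _)
    intro z hz
    rw [← h1] at hz
    exact hz.2
  exfalso
  obtain ⟨r, hr⟩ : ∃ r, r = (cAt Z u a).ncard + 1 := ⟨_, rfl⟩
  rw [← hr] at h
  obtain ⟨n, k, -, hk, hk1, -, -⟩ := S.card_pow_two hA hu ha
  rcases eq_or_lt_of_le hk1 with rfl | hk2
  · have h1 : (zAt Z a).ncard = 3 := by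
      rw [hr, hk] at h
      omega
    exact S.false_of_three hgen hfour hu ha h1 (by omega)
  have hr4 : 4 ≤ r := by
    rw [hr, hk]
    exact le_trans (by norm_num) (Nat.pow_le_pow_right two_pos hk2)
  have hc2 : 2 ≤ (cAt Z u a).ncard := by omega
  obtain ⟨j, hj1, hj3, hj⟩ := S.others_eq_pow hB hu huZ (S.twoRank_of_two_le hA hc2) ha
  rw [← hr] at hj
  have hcount := S.card_moved_mul hB hA hu huZ ha hc2
  obtain ⟨M, hM⟩ : ∃ M, M = {x : Ω | u • x ≠ x}.ncard := ⟨_, rfl⟩
  have hn : {x : Ω | u • x = x}.ncard = r ^ j + 1 := by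
    rw [← hj, ← Set.ncard_insert_of_notMem (a := a) (fun h => h.2 rfl) (Set.toFinite _)]
    congr 1
    ext x
    exact ⟨fun hx => (eq_or_ne x a).imp id fun hne => ⟨hx, hne⟩, fun hx => hx.elim (fun e => e ▸ ha) fun hx => hx.1⟩
  have hm : (zAt Z a).ncard = (r + 1) * (r - 1) := by
    rw [show (r + 1) * (r - 1) = r ^ 2 - 1 ^ 2 from (Nat.sq_sub_sq r 1).symm, one_pow]
    omega
  have hkey : M * (r + 1) = (r ^ j + 1) * r ^ j * (r - 1) := by
    rw [← hM, hm, hn, hj, show (cAt Z u a).ncard = r - 1 by omega] at hcount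
    refine Nat.eq_of_mul_eq_mul_right (show 0 < r - 1 by omega) ?_
    rw [mul_assoc, hcount]
    ring
  have hN : Nat.card Ω = r ^ j + 1 + M := by
    rw [hM, ← hn, show ({x : Ω | u • x ≠ x}) = ({x : Ω | u • x = x})ᶜ from rfl, Set.ncard_add_ncard_compl]
  obtain rfl | rfl | rfl : j = 1 ∨ j = 2 ∨ j = 3 := by omega
  · refine S.false_of_regular hgen hA hfour hu ha hr4 h (by omega) ?_
    rw [pow_one] at hkey hN
    have hM' : M = r * (r - 1) := Nat.eq_of_mul_eq_mul_right (show 0 < r + 1 by omega) (by rw [hkey]; ring)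
    rw [hN, hM']
    obtain ⟨s, rfl⟩ : ∃ s, r = s + 1 := ⟨r - 1, by omega⟩
    simp only [Nat.add_sub_cancel]
    ring
  · exact square_not_integral hr4 hkey
  · obtain ⟨p, hp, hpr⟩ := Nat.exists_prime_and_dvd (n := r + 1) (by omega)
    haveI := Fact.mk hp
    have hp2 : p ≠ 2 := by
      rintro rfl
      rw [hr, hk] at hpr
      have h2 : 2 ∣ 2 ^ k := dvd_pow_self 2 (by omega)
      omega
    haveI := S.nontrivial
    obtain ⟨b, hba⟩ := exists_ne a
    have hpm : p ∣ Nat.card ↥(zAt Z a) := by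
      rw [Nat.card_coe_set_eq, hm]
      exact hpr.mul_right _
    have hmoved := S.centreMoved (S.realFree (S.subFrames hB) hfour) hp2 hpm
    obtain ⟨W, hW⟩ := Grp.exists_isSylowIn p (pairStab G a b)
    obtain ⟨w, hw, hwW⟩ := S.exists_swapper_normalizer hp2 hba.symm hW
    have hwa : w • a ≠ a := by rw [hw.2]; exact hba
    have hfull := S.full_sylow hp2 hw.1 hwa (by rw [hw.2]; exact hW) hwW
    have h2 := hW.2.1.card_modEq_card_fixedPoints Ω
    have h3 : Nat.card (fixedPoints W Ω) = 2 := by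
      rw [show fixedPoints W Ω = {a, b} from ?_, Nat.card_coe_set_eq, Set.ncard_pair hba.symm]
      ext x
      constructor
      · intro hx
        have h4 := S.full_fix_two hp2 hmoved hfull (x := x) fun g hg => mem_stabilizer_iff.2 (hx ⟨g, hg⟩)
        rw [hw.2] at h4
        exact h4
      · intro hx g
        obtain ⟨h5, h6⟩ := mem_pair.1 (hW.1 g.2)
        rcases hx with rfl | rfl
        exacts [h5, h6]
    rw [h3, hN] at h2
    exact cube_not_two_mod hp hp2 hr4 hpr hkey h2

end Hyp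

end Cfsg.Agent.Invol.Aschbacher
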