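import Cfsg.Agent.Lib.Invol.Aschbacher.Sub
import Cfsg.Agent.Lib.Invol.Aschbacher.OddCore
import Cfsg.Agent.Lib.Invol.StronglyEmbeddedCount

/-!
# The criterion from local data at a 2-central involution

The hypotheses of the statement give the setting on the cosets of `H` with `Z` the class of `z`: partners come from
2-centrality, the local hypothesis gives the axioms for involutions fixing two points, no involution of the group
generated by `Z` fixes every point, and so no involution fixing one point lies in its own local group unless it is a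
member.  The conclusion of the criterion is that `H ∩ ⟨Z⟩` is strongly embedded.
-/

set_option autoImplicit false
set_option linter.unusedSectionVars false

namespace Cfsg.Agent.Invol.Aschbacher

open MulAction Subgroup
open Cfsg.Agent.Invol.Bender (conj_smul_smul)

universe u

namespace Wrap

variable {G : Type u} [Group G]

/-- The class of `z`. -/
def cls (z : G) : Set G := {x | IsConj z x}

/-- The data: a 2-central involution isolated by `H`, with strongly embedded local groups. -/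
structure Data (G : Type u) [Group G] [Finite G] (z : G) (H : Subgroup G) : Prop where
  invol : orderOf z = 2
  central : ∃ P : Sylow 2 G, z ∈ P ∧ ∀ x ∈ P, Commute z x
  ne_top : H ≠ ⊤
  mem_iff : ∀ g : G, g⁻¹ * z * g ∈ H ↔ g ∈ H
  loc : ∀ u : G, orderOf u = 2 → Commute u z → ¬ Subgroup.centralizer ({u} : Set G) ≤ H →
    Cfsg.IsStronglyEmbedded (H.subgroupOf (lgen (cls z) u))

variable [Finite G] {z : G} {H : Subgroup G}

theorem self_mem : z ∈ cls z := IsConj.refl z

theorem cls_conj {x : G} (hx : x ∈ cls z) (g : G) : g * x * g⁻¹ ∈ cls z :=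
  IsConj.trans hx (isConj_iff.2 ⟨g, rfl⟩)

theorem exists_eq_conj {x : G} (hx : x ∈ cls z) : ∃ g : G, x = g * z * g⁻¹ :=
  (isConj_iff.1 hx).imp fun _ h => h.symm

theorem lgen_conj {u x : G} (g : G) (hx : x ∈ lgen (cls z) u) : g * x * g⁻¹ ∈ lgen (cls z) (g * u * g⁻¹) := by
  have hle : (lgen (cls z) u).map (MulAut.conj g).toMonoidHom ≤ lgen (cls z) (g * u * g⁻¹) := by
    rw [lgen, MonoidHom.map_closure]
    refine Subgroup.closure_mono ?_
    rintro _ ⟨y, ⟨hy, hyu⟩, rfl⟩
    exact ⟨cls_conj hy g, hyu.conj g⟩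
  exact hle ⟨x, hx, rfl⟩

/-- An element with an inverted product: conjugation by a power. -/
theorem exists_pow_conj {s t : G} (hs : orderOf s = 2) (ht : orderOf t = 2) (hodd : Odd (orderOf (s * t))) :
    ∃ k ∈ Subgroup.closure ({s, t} : Set G), k * s * k⁻¹ = t := by
  obtain ⟨n, hn⟩ := hodd
  refine ⟨(s * t) ^ (n : ℤ), Subgroup.zpow_mem _ (Subgroup.mul_mem _
    (Subgroup.subset_closure (Set.mem_insert s {t}))
    (Subgroup.subset_closure (Set.mem_insert_of_mem s rfl))) _, ?_⟩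
  have hone : (s * t) ^ ((2 * n + 1 : ℕ) : ℤ) = 1 := by rw [zpow_natCast, ← hn, pow_orderOf_eq_one]
  rw [← zpow_neg, mul_assoc, mul_zpow_comm hs ht, neg_neg, ← mul_assoc, ← zpow_add]
  have h1 : (s * t) ^ ((n : ℤ) + n) = (s * t)⁻¹ := by
    rw [eq_inv_iff_mul_eq_one, ← zpow_add_one, show (n : ℤ) + n + 1 = ((2 * n + 1 : ℕ) : ℤ) by push_cast; ring,
      hone]
  rw [h1, _root_.mul_inv_rev, mul_assoc, inv_mul_cancel, mul_one, inv_of_orderOf_two ht]

/-- An even product of involutions gives a commuting involution among its powers. -/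
theorem exists_invol_pow {s t : G} (hs : orderOf s = 2) (ht : orderOf t = 2) (he : Even (orderOf (s * t))) :
    ∃ r : ℕ, orderOf (s * t) = r + r ∧ orderOf ((s * t) ^ r) = 2 ∧ Commute s ((s * t) ^ r) ∧
      Commute t ((s * t) ^ r) := by
  obtain ⟨r, hr⟩ := he
  have h0 := orderOf_pos (s * t)
  have hw2 : orderOf ((s * t) ^ r) = 2 := by
    rw [orderOf_pow, hr, Nat.gcd_eq_right ⟨2, by ring⟩, ← two_mul]
    exact Nat.mul_div_cancel _ (by omega)
  have h1 : Commute s ((s * t) ^ r) := by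
    have h2 := mul_zpow_comm hs ht (r : ℤ)
    rw [zpow_natCast, zpow_neg, zpow_natCast, inv_of_orderOf_two hw2] at h2
    exact h2
  refine ⟨r, hr, hw2, h1, ?_⟩
  have := h1.mul_left (Commute.self_pow (s * t) r)
  rwa [← y_eq hs] at this

namespace Data

variable (W : Data G z H)
include W

theorem z_mem : z ∈ H := by
  have h := (W.mem_iff 1).2 (one_mem _)
  rwa [inv_one, one_mul, mul_one] at h

theorem cls_invol {x : G} (hx : x ∈ cls z) : orderOf x = 2 := by
  obtain ⟨g, rfl⟩ := exists_eq_conj hx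
  rw [orderOf_conj_eq, W.invol]

theorem commute_mem {g : G} (hg : Commute g z) : g ∈ H := by
  refine (W.mem_iff g).1 ?_
  rw [mul_assoc, ← hg.eq, inv_mul_cancel_left]
  exact W.z_mem

theorem conj_smul_iff (k g : G) :
    (g * z * g⁻¹) • (QuotientGroup.mk k : G ⧸ H) = QuotientGroup.mk k ↔
      (QuotientGroup.mk k : G ⧸ H) = QuotientGroup.mk g := by
  rw [smul_coset_eq_iff, eq_comm, QuotientGroup.eq, ← inv_mem_iff (x := g⁻¹ * k), _root_.mul_inv_rev, inv_inv,
    ← inv_mem_iff (x := k⁻¹ * g), _root_.mul_inv_rev, inv_inv, ← W.mem_iff (g⁻¹ * k),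
    show (g⁻¹ * k)⁻¹ * z * (g⁻¹ * k) = k⁻¹ * (g * z * g⁻¹) * k by group]

theorem unique_fix {x : G} (hx : x ∈ cls z) : ∃! p : G ⧸ H, x • p = p := by
  obtain ⟨g, rfl⟩ := exists_eq_conj hx
  refine ⟨QuotientGroup.mk g, (W.conj_smul_iff g g).2 rfl, fun p hp => ?_⟩
  obtain ⟨k, rfl⟩ := QuotientGroup.mk_surjective p
  exact (W.conj_smul_iff k g).1 hp

theorem fix_unique {x : G} (hx : x ∈ cls z) {p q : G ⧸ H} (hp : x • p = p) (hq : x • q = q) : p = q :=
  (W.unique_fix hx).unique hp hq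

theorem fix_of_commute {x g : G} (hx : x ∈ cls z) {p : G ⧸ H} (hp : x • p = p) (hg : Commute g x) : g • p = p :=
  W.fix_unique hx (by rw [← mul_smul, ← hg.eq, mul_smul, hp]) hp

/-- An involution fixing a point commutes with a member at that point. -/
theorem partner {u : G} (hu : orderOf u = 2) {p : G ⧸ H} (hp : u • p = p) :
    ∃ t ∈ cls z, t • p = p ∧ Commute t u := by
  haveI : Fact (Nat.Prime 2) := ⟨Nat.prime_two⟩
  obtain ⟨g, rfl⟩ := QuotientGroup.mk_surjective p
  rw [smul_coset_eq_iff] at hp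
  obtain ⟨P, hzP, hPz⟩ := W.central
  have hPH : (P : Subgroup G) ≤ H := fun x hx => W.commute_mem (hPz x hx).symm
  obtain ⟨x, hxdef⟩ : ∃ x : H, x = ⟨g⁻¹ * u * g, hp⟩ := ⟨_, rfl⟩
  have hx2 : orderOf x = 2 := by
    rw [hxdef, Subgroup.orderOf_mk, show g⁻¹ * u * g = g⁻¹ * u * g⁻¹⁻¹ by rw [inv_inv], orderOf_conj_eq, hu]
  obtain ⟨T, hT⟩ := (IsPGroup.of_card (n := 1) (by rw [Nat.card_zpowers, hx2, pow_one]) :
    IsPGroup 2 (Subgroup.zpowers x)).exists_le_sylow
  obtain ⟨h, hh⟩ := MulAction.exists_smul_eq H (P.subtype hPH) T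
  have hxT : x ∈ (T : Subgroup H) := hT (Subgroup.mem_zpowers x)
  rw [← hh, Sylow.coe_subgroup_smul] at hxT
  obtain ⟨y, hy, hyx⟩ := hxT
  have hyP : (y : G) ∈ (P : Subgroup G) := hy
  have hcomm : Commute z (y : G) := hPz _ hyP
  have hux : g⁻¹ * u * g = (h : G) * y * (h : G)⁻¹ := by
    have := congrArg Subtype.val hyx
    rw [hxdef] at this
    exact this.symm
  refine ⟨g * h * z * (g * h)⁻¹, cls_conj self_mem _, ?_, ?_⟩
  · rw [W.conj_smul_iff, QuotientGroup.eq, inv_mul_cancel_left]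
    exact h.2
  · have hu' : u = g * h * y * (g * h)⁻¹ := by
      calc u = g * (g⁻¹ * u * g) * g⁻¹ := by group
        _ = _ := by rw [hux]; group
    rw [hu']
    exact hcomm.conj _

theorem exists_fix_invol {u : G} (hu : orderOf u = 2) : ∃ p : G ⧸ H, u • p = p := by
  haveI : Fact (Nat.Prime 2) := ⟨Nat.prime_two⟩
  obtain ⟨P, hzP, hPz⟩ := W.central
  obtain ⟨T, hT⟩ := (IsPGroup.of_card (n := 1) (by rw [Nat.card_zpowers, hu, pow_one]) :
    IsPGroup 2 (Subgroup.zpowers u)).exists_le_sylow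
  obtain ⟨g, hg⟩ := MulAction.exists_smul_eq G P T
  have huT : u ∈ (T : Subgroup G) := hT (Subgroup.mem_zpowers u)
  rw [← hg, Sylow.coe_subgroup_smul] at huT
  obtain ⟨y, hy, rfl⟩ := huT
  refine ⟨QuotientGroup.mk g, smul_coset_eq_iff.2 ?_⟩
  show g⁻¹ * (g * y * g⁻¹) * g ∈ H
  rw [show g⁻¹ * (g * y * g⁻¹) * g = y by group]
  exact W.commute_mem (hPz y hy).symm

/-- The local hypothesis at an involution commuting with `z`. -/
theorem base {u : G} (hu : orderOf u = 2) (huz : Commute u z)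
    (hC : ¬ Subgroup.centralizer ({u} : Set G) ≤ H) :
    u ∉ lgen (cls z) u ∧ ∀ r ∈ lgen (cls z) u, orderOf r = 2 → r ∈ H →
      ∀ l ∈ lgen (cls z) u, l⁻¹ * r * l ∈ H → l ∈ H := by
  have hse := W.loc u hu huz hC
  have h := (isStronglyEmbedded_iff hse.1 hse.2.1).1 hse
  have key : ∀ r ∈ lgen (cls z) u, orderOf r = 2 → r ∈ H →
      ∀ l ∈ lgen (cls z) u, l⁻¹ * r * l ∈ H → l ∈ H := fun r hr hr2 hrH l hl hlr =>
    mem_subgroupOf.1 (h ⟨r, hr⟩ (mem_subgroupOf.2 hrH) (by rw [Subgroup.orderOf_mk]; exact hr2) ⟨l, hl⟩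
      (mem_subgroupOf.2 hlr))
  refine ⟨fun hmem => hse.1 (subgroupOf_eq_top.2 fun l hl => key u hmem hu (W.commute_mem huz) l hl ?_), key⟩
  rw [mul_assoc, ← (commute_of_mem_lgen hl).eq, inv_mul_cancel_left]
  exact W.commute_mem huz

/-- Members at different points have a product of odd order. -/
theorem odd_product {s t : G} (hs : s ∈ cls z) (ht : t ∈ cls z) {p q : G ⧸ H} (hp : s • p = p) (hq : t • q = q)
    (hpq : p ≠ q) : Odd (orderOf (s * t)) := by
  refine Nat.not_even_iff_odd.1 fun he => hpq ?_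
  obtain ⟨r, -, hw2, hws, hwt⟩ := exists_invol_pow (W.cls_invol hs) (W.cls_invol ht) he
  obtain ⟨w, hw⟩ : ∃ w, w = (s * t) ^ r := ⟨_, rfl⟩
  rw [← hw] at hw2 hws hwt
  obtain ⟨g, rfl⟩ := exists_eq_conj hs
  have hpg : p = QuotientGroup.mk g := W.fix_unique hs hp ((W.conj_smul_iff g g).2 rfl)
  have hwz : Commute (g⁻¹ * w * g) z := by
    have := (hws.symm.conj g⁻¹)
    rwa [inv_inv, show g⁻¹ * (g * z * g⁻¹) * g = z by group] at this
  have hC : Subgroup.centralizer ({g⁻¹ * w * g} : Set G) ≤ H := by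
    by_contra hC
    refine (W.base ?_ hwz hC).1 ?_
    · simpa using (orderOf_conj_eq g⁻¹ w).trans hw2
    · have hmem : w ∈ lgen (cls z) w := by
        have := Subgroup.pow_mem _ (Subgroup.mul_mem _ (mem_lgen hs hws) (mem_lgen ht hwt)) r
        rwa [← hw] at this
      simpa using lgen_conj g⁻¹ hmem
  have htc : g⁻¹ * t * g ∈ H := hC (Subgroup.mem_centralizer_singleton_iff.2 (by
    have := hwt.conj g⁻¹
    rw [inv_inv] at this
    exact this.eq))
  exact hpg.trans (W.fix_unique ht (smul_coset_eq_iff.2 htc) hq)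

/-- Members commuting with `u` at different points are conjugate in its local group. -/
theorem conj_lgen_of_ne {u s t : G} (hs : s ∈ cls z) (ht : t ∈ cls z) (hsu : Commute s u) (htu : Commute t u)
    {p q : G ⧸ H} (hp : s • p = p) (hq : t • q = q) (hpq : p ≠ q) :
    ∃ k ∈ lgen (cls z) u, k * s * k⁻¹ = t ∧ k • p = q := by
  obtain ⟨k, hk, hkst⟩ := exists_pow_conj (W.cls_invol hs) (W.cls_invol ht) (W.odd_product hs ht hp hq hpq)
  refine ⟨k, (Subgroup.closure_le _).2 ?_ hk, hkst, W.fix_unique ht ?_ hq⟩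
  · rintro g (rfl | rfl)
    · exact mem_lgen hs hsu
    · exact mem_lgen ht htu
  · rw [← hkst, conj_smul_smul, hp]

/-- An involution fixing two points is outside its local group, whose involutions fix one of these points. -/
theorem two_fixed {u : G} (hu : orderOf u = 2) {p q : G ⧸ H} (hp : u • p = p) (hq : u • q = q) (hpq : p ≠ q) :
    u ∉ lgen (cls z) u ∧ ∀ r ∈ lgen (cls z) u, orderOf r = 2 → r • p = p → r • q ≠ q := by
  obtain ⟨s, hs, hsp, hsu⟩ := W.partner hu hp
  obtain ⟨t, ht, htq, htu⟩ := W.partner hu hq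
  obtain ⟨k, hk, -, hkp⟩ := W.conj_lgen_of_ne hs ht hsu htu hsp htq hpq
  obtain ⟨g, hsg⟩ := exists_eq_conj hs
  have hpg : p = QuotientGroup.mk g := W.fix_unique hs hsp (hsg ▸ (W.conj_smul_iff g g).2 rfl)
  have hu' : orderOf (g⁻¹ * u * g) = 2 := by simpa using (orderOf_conj_eq g⁻¹ u).trans hu
  have huz : Commute (g⁻¹ * u * g) z := by
    have := hsu.symm.conj g⁻¹
    rwa [inv_inv, hsg, show g⁻¹ * (g * z * g⁻¹) * g = z by group] at this
  have hkL : g⁻¹ * k * g ∈ lgen (cls z) (g⁻¹ * u * g) := by simpa using lgen_conj g⁻¹ hk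
  have hkH : g⁻¹ * k * g ∉ H := fun h => hpq (by
    rw [← hkp, hpg]
    exact (smul_coset_eq_iff.2 h).symm)
  have hC : ¬ Subgroup.centralizer ({g⁻¹ * u * g} : Set G) ≤ H := fun h =>
    hkH (h (lgen_le_centralizer _ _ hkL))
  obtain ⟨h1, h2⟩ := W.base hu' huz hC
  refine ⟨fun h => h1 (by simpa using lgen_conj g⁻¹ h), fun r hr hr2 hrp hrq => hkH ?_⟩
  refine h2 (g⁻¹ * r * g) (by simpa using lgen_conj g⁻¹ hr) (by simpa using (orderOf_conj_eq g⁻¹ r).trans hr2)
    (smul_coset_eq_iff.1 (hpg ▸ hrp)) _ hkL ?_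
  have h3 : r • (QuotientGroup.mk (k * g) : G ⧸ H) = QuotientGroup.mk (k * g) := by
    have e : (QuotientGroup.mk (k * g) : G ⧸ H) = q := by rw [← hkp, hpg]; rfl
    rw [e, hrq]
  rw [smul_coset_eq_iff] at h3
  rwa [show (g⁻¹ * k * g)⁻¹ * (g⁻¹ * r * g) * (g⁻¹ * k * g) = (k * g)⁻¹ * r * (k * g) by group]

theorem exists_ne (p : G ⧸ H) : ∃ q, q ≠ p := by
  by_contra! hall
  refine W.ne_top (eq_top_iff.2 fun g _ => ?_)
  have := (hall (QuotientGroup.mk g)).trans (hall (QuotientGroup.mk (1 : G))).symm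
  rw [eq_comm, QuotientGroup.eq, inv_one, one_mul] at this
  exact this

/-- The group generated by the members has no involution fixing every point. -/
theorem no_kernel {c : G} (hc : orderOf c = 2) (hcK : c ∈ Subgroup.closure (cls z))
    (hfix : ∀ p : G ⧸ H, c • p = p) : False := by
  haveI : Fact (Nat.Prime 2) := ⟨Nat.prime_two⟩
  obtain ⟨N, hN⟩ : ∃ N, N = Subgroup.closure (cls z) ⊓ H.normalCore := ⟨_, rfl⟩
  haveI hKn : (Subgroup.closure (cls z)).Normal := by
    refine ⟨fun n hn g => ?_⟩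
    have hle : (Subgroup.closure (cls z)).map (MulAut.conj g).toMonoidHom ≤ Subgroup.closure (cls z) := by
      rw [MonoidHom.map_closure]
      refine Subgroup.closure_mono ?_
      rintro _ ⟨y, hy, rfl⟩
      exact cls_conj hy g
    exact hle ⟨n, hn, rfl⟩
  haveI hNn : N.Normal := by
    rw [hN]
    exact ⟨fun n hn g => ⟨hKn.conj_mem n hn.1 g, (Subgroup.normalCore_normal H).conj_mem n hn.2 g⟩⟩
  have hNfix : ∀ n ∈ N, ∀ p : G ⧸ H, n • p = p := fun n hn p => by
    obtain ⟨k, rfl⟩ := QuotientGroup.mk_surjective p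
    rw [hN] at hn
    exact smul_coset_eq_iff.2 (by simpa using hn.2 k⁻¹)
  have hcN : c ∈ N := hN ▸ ⟨hcK, fun g => by
    simpa using smul_coset_eq_iff.1 (hfix (QuotientGroup.mk g⁻¹))⟩
  obtain ⟨p₀, hp₀⟩ := W.exists_ne (QuotientGroup.mk (1 : G))
  have hodd : ∀ s ∈ cls z, OddConj s N := by
    intro s hs n hn
    refine Nat.not_even_iff_odd.1 fun he => ?_
    have ht := cls_conj hs n
    obtain ⟨r, -, hw2, hws, hwt⟩ := exists_invol_pow (W.cls_invol hs) (W.cls_invol ht) he
    have hwN : (s * (n * s * n⁻¹)) ^ r ∈ N := Subgroup.pow_mem _ (by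
      rw [show s * (n * s * n⁻¹) = s * n * s⁻¹ * (s * s) * n⁻¹ by group,
        mul_self_of_orderOf_two (W.cls_invol hs), mul_one]
      exact Subgroup.mul_mem _ (hNn.conj_mem n hn s) (Subgroup.inv_mem _ hn)) _
    exact (W.two_fixed hw2 (hNfix _ hwN p₀) (hNfix _ hwN _) hp₀).1
      (Subgroup.pow_mem _ (Subgroup.mul_mem _ (mem_lgen hs hws) (mem_lgen ht hwt)) _)
  obtain ⟨M, hM⟩ : ∃ M, M = oddIn N := ⟨_, rfl⟩
  have hall : ∀ g : G, g ∈ normalizer (N : Set G) := fun g => by
    rw [Subgroup.normalizer_eq_top]; exact mem_top g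
  haveI hMn : M.Normal := by
    rw [hM]
    exact ⟨fun n hn g => Bender.conj_mem_of_normalizer (Bender.mem_normalizer_O' (hall g)) hn⟩
  have hcov : Subgroup.closure (cls z) ≤ lgen (cls z) c ⊔ M := by
    refine (Subgroup.closure_le _).2 fun x hx => ?_
    have hx2 := W.cls_invol hx
    have hm : (c * x) ^ 2 ∈ M := by
      have h1 := commutator_mem_oddIn hx2 (hall x) (hodd x hx) hcN
      rw [← hM] at h1
      have h2 := hMn.conj_mem _ h1 c
      rwa [show c * (x * c * x⁻¹ * c⁻¹) * c⁻¹ = (c * x) ^ 2 by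
        rw [inv_of_orderOf_two hx2, inv_of_orderOf_two hc, pow_two,
          show c * (x * c * x * c) * c = c * x * c * x * (c * c) by group, mul_self_of_orderOf_two hc,
          mul_one]
        group] at h2
    obtain ⟨i, hi⟩ : Odd (orderOf ((c * x) ^ 2)) :=
      (odd_oddIn N).of_dvd_nat (Subgroup.orderOf_dvd_natCard _ (hM ▸ hm))
    obtain ⟨n, hn⟩ : ∃ n, n = (c * x) ^ ((2 * (i * (i + 1)) : ℕ) : ℤ) := ⟨_, rfl⟩
    have hnM : n ∈ M := by
      rw [hn, zpow_natCast, pow_mul]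
      exact Subgroup.pow_mem _ hm _
    have hxn : n⁻¹ * x * n = x * (c * x) ^ ((4 * (i * (i + 1)) : ℕ) : ℤ) := by
      have e : x * n = n⁻¹ * x := by
        rw [hn]
        calc x * (c * x) ^ ((2 * (i * (i + 1)) : ℕ) : ℤ)
            = c * (c * x * (c * x) ^ ((2 * (i * (i + 1)) : ℕ) : ℤ)) := by
              simp only [← mul_assoc]
              rw [mul_self_of_orderOf_two hc, one_mul]
          _ = c * ((c * x) ^ ((2 * (i * (i + 1)) : ℕ) : ℤ) * (c * x)) := by
              rw [((Commute.refl (c * x)).zpow_right _).eq]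
          _ = _ := by
              rw [← mul_assoc c, mul_zpow_comm hc hx2, zpow_neg, mul_assoc, ← mul_assoc c c x,
                mul_self_of_orderOf_two hc, one_mul]
      rw [← e, mul_assoc, hn, ← zpow_add]
      congr 2
      push_cast; ring
    have hcomm : Commute (n⁻¹ * x * n) c := by
      have h2 : (c * (n⁻¹ * x * n)) * (c * (n⁻¹ * x * n)) = 1 := by
        rw [hxn, ← mul_assoc c x, zpow_natCast, ← pow_succ', ← pow_add,
          show 4 * (i * (i + 1)) + 1 + (4 * (i * (i + 1)) + 1) = 2 * ((2 * i + 1) * (2 * i + 1)) by ring,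
          pow_mul, pow_mul, ← hi, pow_orderOf_eq_one, one_pow]
      have h3 : orderOf (n⁻¹ * x * n) = 2 := by simpa using (orderOf_conj_eq n⁻¹ x).trans hx2
      show n⁻¹ * x * n * c = c * (n⁻¹ * x * n)
      rw [eq_inv_of_mul_eq_one_left h2, _root_.mul_inv_rev, inv_of_orderOf_two h3, inv_of_orderOf_two hc]
    have hmem : n⁻¹ * x * n ∈ lgen (cls z) c := mem_lgen (by simpa using cls_conj hx n⁻¹) hcomm
    rw [show x = n * (n⁻¹ * x * n) * n⁻¹ by group]
    exact Subgroup.mul_mem _ (Subgroup.mul_mem _ (mem_sup_right hnM) (mem_sup_left hmem))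
      (Subgroup.inv_mem _ (mem_sup_right hnM))
  have hc' := hcov hcK
  rw [← SetLike.mem_coe, Subgroup.coe_mul_of_left_le_normalizer_right _ _
    (fun g _ => by rw [Subgroup.normalizer_eq_top]; exact mem_top g)] at hc'
  obtain ⟨l, hl, m, hm, hlm⟩ := hc'
  have hcm : Commute c m := by
    have h1 : Commute c (l⁻¹ * c) := (commute_of_mem_lgen hl).symm.inv_right.mul_right (Commute.refl c)
    rwa [← hlm, inv_mul_cancel_left, hlm] at h1
  obtain ⟨j, hj⟩ : Odd (orderOf m) := (odd_oddIn N).of_dvd_nat (Subgroup.orderOf_dvd_natCard _ (hM ▸ hm))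
  refine (W.two_fixed hc (hfix p₀) (hfix _) hp₀).1 ?_
  have hl' : l = c * m⁻¹ := by rw [← hlm, mul_inv_cancel_right]
  have h3 : l ^ orderOf m = c := by
    rw [hl', hcm.inv_right.mul_pow, inv_pow, pow_orderOf_eq_one, inv_one, mul_one, hj, pow_succ, pow_mul,
      pow_two, mul_self_of_orderOf_two hc, one_pow, one_mul]
  rw [← h3] at hl ⊢
  rw [show lgen (cls z) (l ^ orderOf m) = lgen (cls z) c by rw [h3]]
  exact Subgroup.pow_mem _ (h3 ▸ hl) _

/-- The middle involution of an involution outside the class and a member at a point it moves. -/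
theorem middle {u x : G} (hu : orderOf u = 2) (huZ : u ∉ cls z) {b : G ⧸ H} (hub : u • b ≠ b)
    (hx : x ∈ cls z) (hxb : x • b = b) : ∃ v, orderOf v = 2 ∧ v ∈ Subgroup.closure ({u, x} : Set G) ∧
      Commute u v ∧ u * v ∈ cls z ∧ v • b = b ∧ v • (u • b) = u • b := by
  have hx2 := W.cls_invol hx
  have heven : Even (orderOf (u * x)) := by
    refine Nat.not_odd_iff_even.1 fun hodd => huZ ?_
    obtain ⟨k, -, hk⟩ := exists_pow_conj hu hx2 hodd
    have h2 := cls_conj hx k⁻¹
    rwa [← hk, show k⁻¹ * (k * u * k⁻¹) * k⁻¹⁻¹ = u by group] at h2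
  obtain ⟨r, hr, hv2, h1, h3⟩ := exists_invol_pow hu hx2 heven
  have hrodd : Odd r := by
    have hx' : u * x * u⁻¹ ∈ cls z := cls_conj hx u
    have hfix : (u * x * u⁻¹) • (u • b) = u • b := by rw [conj_smul_smul, hxb]
    have h4 := W.odd_product hx' hx hfix hxb hub
    rw [inv_of_orderOf_two hu, show u * x * u * x = (u * x) ^ 2 by rw [pow_two]; group, orderOf_pow, hr,
      ← two_mul, Nat.gcd_eq_right (Dvd.intro r rfl), Nat.mul_div_cancel_left _ two_pos] at h4
    exact h4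
  obtain ⟨i, hi⟩ := hrodd
  obtain ⟨v, hv⟩ : ∃ v, v = (u * x) ^ r := ⟨_, rfl⟩
  rw [← hv] at hv2 h1 h3
  have hw : u * v ∈ cls z := by
    have h5 : ((u * x) ^ (i : ℤ))⁻¹ * x * (u * x) ^ (i : ℤ) = u * v := by
      have e1 : u * (u * x) ^ (i : ℤ) = ((u * x) ^ (i : ℤ))⁻¹ * u := by
        rw [mul_zpow_comm hu hx2, zpow_neg]
      rw [hv, hi, ← zpow_natCast (u * x) (2 * i + 1),
        show ((2 * i + 1 : ℕ) : ℤ) = i + (1 + i) by push_cast; ring, zpow_add, zpow_add, zpow_one, ← mul_assoc, e1]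
      simp only [mul_assoc]
      rw [← mul_assoc u u, mul_self_of_orderOf_two hu, one_mul]
    have h6 := cls_conj hx ((u * x) ^ (i : ℤ))⁻¹
    rwa [inv_inv, h5] at h6
  have hvb : v • b = b := W.fix_of_commute hx hxb h3.symm
  refine ⟨v, hv2, ?_, h1, hw, hvb, ?_⟩
  · rw [hv]
    exact Subgroup.pow_mem _ (Subgroup.mul_mem _ (Subgroup.subset_closure (Set.mem_insert u {x}))
      (Subgroup.subset_closure (Set.mem_insert_of_mem u rfl))) _
  · rw [← mul_smul, ← h1.eq, mul_smul, hvb]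

/-- An involution outside the class is outside its local group. -/
theorem notMem_lgen {u : G} (hu : orderOf u = 2) (huZ : u ∉ cls z) : u ∉ lgen (cls z) u := by
  intro hmem
  obtain ⟨a, ha⟩ := W.exists_fix_invol hu
  have huniq : ∀ p : G ⧸ H, u • p = p → p = a := fun p hp => by
    by_contra hne
    exact (W.two_fixed hu hp ha hne).1 hmem
  obtain ⟨b, hba⟩ := W.exists_ne a
  have hub : u • b ≠ b := fun h => hba (huniq b h)
  obtain ⟨g, rfl⟩ := QuotientGroup.mk_surjective b
  obtain ⟨v, hv2, hvcl, huv, hw, hvb, hvub⟩ :=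
    W.middle hu huZ hub (cls_conj self_mem g) ((W.conj_smul_iff g g).2 rfl)
  have hvZ : v ∉ cls z := fun h => hub ((W.fix_unique h hvub hvb))
  have hvK : v ∈ Subgroup.closure (cls z) := by
    refine (Subgroup.closure_le _).2 ?_ hvcl
    rintro y (rfl | rfl)
    · exact Subgroup.closure_mono (fun _ h => h.1) hmem
    · exact Subgroup.subset_closure (cls_conj self_mem g)
  obtain ⟨d, hd⟩ : ∃ d : G ⧸ H, v • d ≠ d := by
    by_contra! hall
    exact W.no_kernel hv2 hvK hall
  obtain ⟨k, rfl⟩ := QuotientGroup.mk_surjective d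
  obtain ⟨v', -, -, hvv', hw', hd1, hd2⟩ :=
    W.middle hv2 hvZ hd (cls_conj self_mem k) ((W.conj_smul_iff k k).2 rfl)
  -- the members `u v`, `v v'` commute with `v`
  have hwv : Commute (u * v) v := huv.mul_left (Commute.refl v)
  have hwv' : Commute (v * v') v := (Commute.refl v).mul_left hvv'.symm
  obtain ⟨l, hl, hlw⟩ : ∃ l ∈ lgen (cls z) v, l * (v * v') * l⁻¹ = u * v := by
    obtain ⟨p, hp, -⟩ := W.unique_fix hw'
    obtain ⟨q, hq, -⟩ := W.unique_fix hw
    by_cases hpq : p = q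
    · obtain ⟨e, he, hep⟩ : ∃ e : G ⧸ H, v • e = e ∧ e ≠ p := by
        by_cases h : (QuotientGroup.mk g : G ⧸ H) = p
        · exact ⟨u • QuotientGroup.mk g, hvub, fun e => hub (e.trans h.symm)⟩
        · exact ⟨_, hvb, h⟩
      obtain ⟨t, ht, hte, htv⟩ := W.partner hv2 he
      obtain ⟨m, hm, hm1, -⟩ := W.conj_lgen_of_ne hw' ht hwv' htv hp hte hep.symm
      obtain ⟨m', hm', hm1', -⟩ := W.conj_lgen_of_ne ht hw htv hwv hte hq (hpq ▸ hep)
      exact ⟨m' * m, Subgroup.mul_mem _ hm' hm, by rw [← hm1', ← hm1]; group⟩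
    · obtain ⟨m, hm, hm1, -⟩ := W.conj_lgen_of_ne hw' hw hwv' hwv hp hq hpq
      exact ⟨m, hm, hm1⟩
  have hlu : l * v' * l⁻¹ = u := by
    have h1 : l * v * l⁻¹ = v := by rw [(commute_of_mem_lgen hl).eq, mul_inv_cancel_right]
    have hvv := mul_self_of_orderOf_two hv2
    calc l * v' * l⁻¹ = l * v * l⁻¹ * (l * (v * v') * l⁻¹) := by
          rw [show l * v * l⁻¹ * (l * (v * v') * l⁻¹) = l * (v * v * v') * l⁻¹ by group, hvv, one_mul]
      _ = v * (u * v) := by rw [h1, hlw]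
      _ = u := by rw [← mul_assoc, ← huv.eq, mul_assoc, hvv, mul_one]
  have h2 : ∀ y : G ⧸ H, v' • y = y → l • y = a := fun y hy => huniq _ (by
    rw [← hlu, conj_smul_smul, hy])
  exact hd (smul_left_cancel l ((h2 _ hd1).trans (h2 _ hd2).symm)).symm

/-- The setting of the criterion. -/
theorem hyp : Hyp G (G ⧸ H) (cls z) where
  transitive := inferInstance
  nontrivial := by
    obtain ⟨q, hq⟩ := W.exists_ne (QuotientGroup.mk (1 : G))
    exact ⟨q, _, hq⟩
  nonempty := ⟨z, self_mem⟩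
  invol := fun _ hx => W.cls_invol hx
  unique_fix := fun _ hx => W.unique_fix hx
  conj_mem := fun g _ hx => cls_conj hx g
  notMem_lgen := fun _ hu huZ => W.notMem_lgen hu huZ
  lgen_fix := fun _ hu _ r hr hr2 x y hx hy hrx hry => by
    by_contra hne
    exact (W.two_fixed hu hx hy hne).2 r hr hr2 hrx hry

end Data

end Wrap

/-- The criterion in the form of the statement, given the conclusion of the setting. -/
theorem s1913_of
    (hgoal : ∀ (G Ω : Type u) [Group G] [Finite G] [MulAction G Ω] (Z : Set G), Hyp G Ω Z → Goal Z)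
    {G : Type u} [Group G] [Finite G] (P : Sylow 2 G) (z : G) (hz2 : orderOf z = 2)
    (hzP : z ∈ (Subgroup.center ↥(P : Subgroup G)).map (P : Subgroup G).subtype)
    (H : Subgroup G) (hH : H ≠ ⊤) (hi : ∀ g : G, z ∈ H.map (MulAut.conj g).toMonoidHom ↔ g ∈ H)
    (hii : ∀ u : G, orderOf u = 2 → u * z = z * u → ¬ Subgroup.centralizer ({u} : Set G) ≤ H →
      Cfsg.IsStronglyEmbedded (H.subgroupOf (Subgroup.closure {x : G | IsConj z x ∧ x * u = u * x}))) :
    Cfsg.IsStronglyEmbedded (H.subgroupOf (Subgroup.normalClosure ({z} : Set G))) := by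
  obtain ⟨w, hw, hwz⟩ := hzP
  have W : Wrap.Data G z H := by
    refine ⟨hz2, ⟨P, hwz ▸ w.2, fun x hx => ?_⟩, hH, fun g => ?_, hii⟩
    · have := congrArg Subtype.val (Subgroup.mem_center_iff.1 hw ⟨x, hx⟩)
      rw [← hwz]
      exact this.symm
    · rw [← hi g, Subgroup.mem_map]
      refine ⟨fun h => ⟨_, h, by simp [mul_assoc]⟩, ?_⟩
      rintro ⟨y, hy, rfl⟩
      simpa [mul_assoc] using hy
  have hncl : Subgroup.normalClosure ({z} : Set G) = Subgroup.closure (Wrap.cls z) := by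
    rw [Subgroup.normalClosure]
    congr 1
    ext x
    simp [Group.conjugatesOfSet, Wrap.cls, conjugatesOf]
  rw [hncl]
  have hg := hgoal G (G ⧸ H) (Wrap.cls z) W.hyp
  obtain ⟨q, hq⟩ := W.exists_ne (QuotientGroup.mk (1 : G))
  obtain ⟨k, rfl⟩ := QuotientGroup.mk_surjective q
  have hne : H.subgroupOf (Subgroup.closure (Wrap.cls z)) ≠ ⊤ := fun e => hq (by
    have hkz : k * z * k⁻¹ ∈ H :=
      subgroupOf_eq_top.1 e (Subgroup.subset_closure (Wrap.cls_conj Wrap.self_mem k))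
    refine ((W.conj_smul_iff 1 k).1 ?_).symm
    exact smul_coset_eq_iff.2 (by simpa using hkz))
  have hev : Even (Nat.card ↥(H.subgroupOf (Subgroup.closure (Wrap.cls z)))) :=
    even_card_of_mem (t := (⟨z, Subgroup.subset_closure Wrap.self_mem⟩ : Subgroup.closure (Wrap.cls z)))
      (by rw [Subgroup.orderOf_mk]; exact hz2) W.z_mem
  refine (isStronglyEmbedded_iff hne hev).2 fun r hr hr2 g hgr => ?_
  rw [← Subgroup.orderOf_coe] at hr2
  have hrZ := hg r r.2 hr2
  have h1 : (r : G) • (QuotientGroup.mk (1 : G) : G ⧸ H) = QuotientGroup.mk (1 : G) :=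
    smul_coset_eq_iff.2 (by simpa using mem_subgroupOf.1 hr)
  have h2 : (r : G) • (QuotientGroup.mk (g : G) : G ⧸ H) = QuotientGroup.mk (g : G) :=
    smul_coset_eq_iff.2 (mem_subgroupOf.1 hgr)
  have h3 := W.fix_unique hrZ h1 h2
  rw [QuotientGroup.eq, inv_one, one_mul] at h3
  exact mem_subgroupOf.2 h3

end Cfsg.Agent.Invol.Aschbacher
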