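import Cfsg.Agent.Lib.Invol.Bender.Count

/-!
# Aschbacher's criterion: the permutation setting

A transitive action with an invariant set `Z` of involutions, each fixing exactly one point, such that for an
involution `u` outside `Z` the group `lgen Z u` generated by the members of `Z` commuting with `u` does not contain
`u` and has no involution fixing two fixed points of `u`.  The elementary consequences: products at different
points have odd order, a 2-group meeting `Z` has a member of `Z` in its centre, every 2-group fixing a point has a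
partner there, and `lgen Z u` is transitive on the fixed points of `u`.
-/

set_option autoImplicit false
set_option linter.unusedSectionVars false

namespace Cfsg.Agent.Invol.Aschbacher

open MulAction Subgroup
open Cfsg.Agent.Invol.Bender (conj_smul_smul swap_symm)

universe u v

variable {G : Type u} {Ω : Type v} [Group G]

/-- The group generated by the members of `Z` commuting with `u`. -/
def lgen (Z : Set G) (u : G) : Subgroup G := Subgroup.closure {z | z ∈ Z ∧ Commute z u}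

theorem mem_lgen {Z : Set G} {u z : G} (hz : z ∈ Z) (hc : Commute z u) : z ∈ lgen Z u :=
  Subgroup.subset_closure ⟨hz, hc⟩

theorem lgen_le_centralizer (Z : Set G) (u : G) : lgen Z u ≤ Subgroup.centralizer ({u} : Set G) :=
  (Subgroup.closure_le _).2 fun _ hz => Subgroup.mem_centralizer_singleton_iff.2 hz.2.eq

theorem commute_of_mem_lgen {Z : Set G} {u x : G} (hx : x ∈ lgen Z u) : Commute x u :=
  Subgroup.mem_centralizer_singleton_iff.1 (lgen_le_centralizer Z u hx)

variable [MulAction G Ω]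

/-- The members of `Z` fixing `a`. -/
def zAt (Z : Set G) (a : Ω) : Set G := {z | z ∈ Z ∧ z • a = a}

/-- The members of `Z` moving `a` to `b`. -/
def zSwap (Z : Set G) (a b : Ω) : Set G := {z | z ∈ Z ∧ z • a = b}

/-- The setting of Aschbacher's criterion. -/
structure Hyp (G : Type u) (Ω : Type v) [Group G] [MulAction G Ω] (Z : Set G) : Prop where
  transitive : IsPretransitive G Ω
  nontrivial : Nontrivial Ω
  nonempty : Z.Nonempty
  invol : ∀ z ∈ Z, orderOf z = 2
  unique_fix : ∀ z ∈ Z, ∃! x : Ω, z • x = x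
  conj_mem : ∀ g : G, ∀ z ∈ Z, g * z * g⁻¹ ∈ Z
  notMem_lgen : ∀ u : G, orderOf u = 2 → u ∉ Z → u ∉ lgen Z u
  lgen_fix : ∀ u : G, orderOf u = 2 → u ∉ Z → ∀ r ∈ lgen Z u, orderOf r = 2 →
    ∀ x y : Ω, u • x = x → u • y = y → r • x = x → r • y = y → x = y

variable [Finite G] {Z : Set G}

namespace Hyp

variable (S : Hyp G Ω Z)
include S

omit [Finite G] in
theorem exists_fix {z : G} (hz : z ∈ Z) : ∃ x : Ω, z • x = x := (S.unique_fix z hz).exists

omit [Finite G] in
theorem fix_unique {z : G} (hz : z ∈ Z) {x y : Ω} (hx : z • x = x) (hy : z • y = y) : x = y :=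
  (S.unique_fix z hz).unique hx hy

omit [Finite G] in
/-- An element commuting with a member of `Z` fixes its point. -/
theorem fix_of_commute {z g : G} (hz : z ∈ Z) {x : Ω} (hx : z • x = x) (hg : Commute g z) : g • x = x :=
  S.fix_unique hz (by rw [← mul_smul, ← hg.eq, mul_smul, hx]) hx

omit [Finite G] in
theorem exists_smul_eq (x y : Ω) : ∃ g : G, g • x = y := S.transitive.exists_smul_eq x y

omit [Finite G] in
theorem zAt_nonempty (x : Ω) : (zAt Z x).Nonempty := by
  obtain ⟨z, hz⟩ := S.nonempty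
  obtain ⟨y, hy⟩ := S.exists_fix hz
  obtain ⟨g, rfl⟩ := S.exists_smul_eq y x
  exact ⟨g * z * g⁻¹, S.conj_mem g z hz, by rw [conj_smul_smul, hy]⟩

theorem finite_points : Finite Ω := by
  obtain ⟨x, -⟩ := S.nontrivial.exists_pair_ne
  exact Finite.of_surjective (fun g : G => g • x) fun y => S.exists_smul_eq x y

/-- The number of points is odd. -/
theorem odd_card : Odd (Nat.card Ω) := by
  classical
  haveI := S.finite_points
  haveI := Fintype.ofFinite Ω
  obtain ⟨z, hz⟩ := S.nonempty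
  haveI : Fact (Nat.Prime 2) := ⟨Nat.prime_two⟩
  have hP : IsPGroup 2 (Subgroup.zpowers z) :=
    IsPGroup.of_card (n := 1) (by rw [Nat.card_zpowers, S.invol z hz, pow_one])
  have h := hP.card_modEq_card_fixedPoints Ω
  have h1 : Nat.card ↥(MulAction.fixedPoints (Subgroup.zpowers z) Ω) = 1 := by
    obtain ⟨x, hx, hu⟩ := S.unique_fix z hz
    refine Nat.card_eq_one_iff_unique.2 ⟨⟨fun p q => Subtype.ext ?_⟩, ⟨⟨x, ?_⟩⟩⟩
    · have hp : z • p.1 = p.1 := p.2 ⟨z, Subgroup.mem_zpowers z⟩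
      have hq : z • q.1 = q.1 := q.2 ⟨z, Subgroup.mem_zpowers z⟩
      exact (hu _ hp).trans (hu _ hq).symm
    · rintro ⟨g, hg⟩
      exact mem_stabilizer_iff.1 ((Subgroup.zpowers_le.2 (mem_stabilizer_iff.2 hx)) hg)
  rw [h1] at h
  exact Nat.odd_iff.2 h

omit [Finite G] in
/-- The product of two different commuting members is a member. -/
theorem mul_mem {z t : G} (hz : z ∈ Z) (ht : t ∈ Z) (hne : z ≠ t) (hc : Commute z t) : z * t ∈ Z := by
  by_contra h
  have hzz := mul_self_of_orderOf_two (S.invol z hz)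
  have htt := mul_self_of_orderOf_two (S.invol t ht)
  have h2 : orderOf (z * t) = 2 := orderOf_two_iff.2 ⟨by
    calc z * t * (z * t) = z * (t * z) * t := by group
      _ = z * (z * t) * t := by rw [hc.eq]
      _ = z * z * (t * t) := by group
      _ = 1 := by rw [hzz, htt, one_mul], fun e => hne (by
        rw [mul_eq_one_iff_eq_inv, inv_of_orderOf_two (S.invol t ht)] at e; exact e)⟩
  exact S.notMem_lgen _ h2 h (Subgroup.mul_mem _ (mem_lgen hz ((Commute.refl z).mul_right hc))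
    (mem_lgen ht (hc.symm.mul_right (Commute.refl t))))

/-- Members at different points have a product of odd order. -/
theorem odd_product {z t : G} (hz : z ∈ Z) (ht : t ∈ Z) {x y : Ω} (hx : z • x = x) (hy : t • y = y)
    (hxy : x ≠ y) : Odd (orderOf (z * t)) := by
  refine Nat.not_even_iff_odd.1 fun he => hxy ?_
  obtain ⟨r, hr⟩ := he
  obtain ⟨w, hw⟩ : ∃ w, w = (z * t) ^ r := ⟨_, rfl⟩
  have hw2 : orderOf w = 2 := by
    have h0 := orderOf_pos (z * t)
    rw [hw, orderOf_pow, hr, Nat.gcd_eq_right ⟨2, by ring⟩, ← two_mul]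
    exact Nat.mul_div_cancel _ (by omega)
  have h1 : Commute z w := by
    have h2 := mul_zpow_comm (S.invol z hz) (S.invol t ht) (r : ℤ)
    rw [zpow_natCast, zpow_neg, zpow_natCast, ← hw, inv_of_orderOf_two hw2] at h2
    exact h2
  have h3 : Commute t w := by
    have hc : Commute (z * t) w := hw ▸ Commute.self_pow (z * t) r
    have := h1.mul_left hc
    rwa [← y_eq (S.invol z hz)] at this
  by_cases hwZ : w ∈ Z
  · obtain ⟨c, hc⟩ := S.exists_fix hwZ
    exact (S.fix_unique hz hx (S.fix_of_commute hwZ hc h1)).trans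
      (S.fix_unique ht hy (S.fix_of_commute hwZ hc h3)).symm
  · refine (S.notMem_lgen w hw2 hwZ ?_).elim
    have h4 := Subgroup.pow_mem _ (Subgroup.mul_mem _ (mem_lgen hz h1) (mem_lgen ht h3)) r
    rwa [← hw] at h4

/-- Two members at different points are conjugate by a member interchanging their points. -/
theorem exists_swapper {z t : G} (hz : z ∈ Z) (ht : t ∈ Z) {x y : Ω} (hx : z • x = x) (hy : t • y = y)
    (hxy : x ≠ y) : ∃ m ∈ Z, m ∈ Subgroup.closure ({z, t} : Set G) ∧ m * z * m⁻¹ = t ∧ m • x = y := by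
  have hz2 := S.invol z hz
  have ht2 := S.invol t ht
  obtain ⟨n, hn⟩ := S.odd_product hz ht hx hy hxy
  obtain ⟨k, hk⟩ : ∃ k, k = (z * t) ^ (n : ℤ) := ⟨_, rfl⟩
  have hone : (z * t) ^ ((2 * n + 1 : ℕ) : ℤ) = 1 := by rw [zpow_natCast, ← hn, pow_orderOf_eq_one]
  have hka : k * z * k⁻¹ = t := by
    rw [hk, ← zpow_neg, mul_assoc, mul_zpow_comm hz2 ht2, neg_neg, ← mul_assoc, ← zpow_add]
    have h1 : (z * t) ^ ((n : ℤ) + n) = (z * t)⁻¹ := by
      rw [eq_inv_iff_mul_eq_one, ← zpow_add_one, show (n : ℤ) + n + 1 = ((2 * n + 1 : ℕ) : ℤ) by push_cast; ring,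
        hone]
    rw [h1, mul_inv_rev, mul_assoc, inv_mul_cancel, mul_one, inv_of_orderOf_two ht2]
  -- `k z` is a conjugate of `z` as `k` is a square
  have hm : k * z ∈ Z := by
    have h2 : (z * t) ^ ((n : ℤ) * (n + 1)) * z * ((z * t) ^ ((n : ℤ) * (n + 1)))⁻¹ = k * z := by
      rw [← zpow_neg, mul_assoc, mul_zpow_comm hz2 ht2, neg_neg, ← mul_assoc, ← zpow_add, hk,
        show (n : ℤ) * (n + 1) + n * (n + 1) = ((2 * n + 1 : ℕ) : ℤ) * n + n by push_cast; ring,
        zpow_add, zpow_mul, hone, one_zpow, one_mul]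
    exact h2 ▸ S.conj_mem _ z hz
  refine ⟨k * z, hm, ?_, by rw [← hka]; group, ?_⟩
  · have h1 : z ∈ Subgroup.closure ({z, t} : Set G) := Subgroup.subset_closure (Set.mem_insert z {t})
    have h2 : t ∈ Subgroup.closure ({z, t} : Set G) :=
      Subgroup.subset_closure (Set.mem_insert_of_mem z rfl)
    refine Subgroup.mul_mem _ ?_ h1
    rw [hk]
    exact Subgroup.zpow_mem _ (Subgroup.mul_mem _ h1 h2) _
  · refine S.fix_unique ht ?_ hy
    rw [show t = k * z * z * (k * z)⁻¹ by rw [← hka]; group, conj_smul_smul, hx]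

omit [Finite G] in
/-- A 2-group containing a member of `Z` has one in its centre. -/
theorem exists_central {X : Subgroup G} [Finite X] (hX : IsPGroup 2 X) (hne : ∃ z ∈ Z, z ∈ X) :
    ∃ c ∈ Z, c ∈ X ∧ ∀ x ∈ X, Commute c x := by
  haveI : Fact (Nat.Prime 2) := ⟨Nat.prime_two⟩
  obtain ⟨z, hz, hzX⟩ := hne
  obtain ⟨N, hN⟩ : ∃ N : Subgroup X, N = Subgroup.closure {x : X | (x : G) ∈ Z} := ⟨_, rfl⟩
  have hNle : Subgroup.map X.subtype N ≤ Subgroup.closure {g | g ∈ Z ∧ g ∈ X} := by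
    rw [hN, MonoidHom.map_closure]
    refine Subgroup.closure_mono ?_
    rintro _ ⟨⟨g, hg⟩, hgZ, rfl⟩
    exact ⟨hgZ, hg⟩
  haveI hNn : N.Normal := ⟨fun a ha g => by
    have hle : N ≤ N.comap (MulAut.conj g).toMonoidHom := by
      conv_lhs => rw [hN]
      refine (Subgroup.closure_le _).2 fun x hx => ?_
      refine hN ▸ Subgroup.subset_closure ?_
      show ((g * x * g⁻¹ : X) : G) ∈ Z
      rw [Subgroup.coe_mul, Subgroup.coe_mul, Subgroup.coe_inv]
      exact S.conj_mem _ _ hx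
    exact hle ha⟩
  have hzN : (⟨z, hzX⟩ : X) ∈ N := hN ▸ Subgroup.subset_closure hz
  have hnt : Nontrivial N := by
    refine ⟨⟨⟨z, hzX⟩, hzN⟩, 1, fun e => ?_⟩
    have h1 : z = 1 := congrArg (fun q : N => ((q : X) : G)) e
    have h2 := S.invol z hz
    rw [h1, orderOf_one] at h2
    omega
  have hmod : Nat.card N ≡ Nat.card ↥(MulAction.fixedPoints (ConjAct X) N) [MOD 2] :=
    (hX.of_equiv ConjAct.toConjAct).card_modEq_card_fixedPoints N
  obtain ⟨a, ha⟩ := IsPGroup.iff_card.1 (hX.to_subgroup N)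
  have h2 : 2 ∣ Nat.card N := by
    rcases Nat.eq_zero_or_pos a with rfl | ha0
    · exact absurd ha (by rw [pow_zero]; exact Finite.one_lt_card.ne')
    · exact ha ▸ dvd_pow_self 2 ha0.ne'
  have hfix : 1 < Nat.card ↥(MulAction.fixedPoints (ConjAct X) N) := by
    have h3 : 2 ∣ Nat.card ↥(MulAction.fixedPoints (ConjAct X) N) := by
      rw [← Nat.modEq_zero_iff_dvd]; exact hmod.symm.trans (Nat.modEq_zero_iff_dvd.2 h2)
    have h4 : 0 < Nat.card ↥(MulAction.fixedPoints (ConjAct X) N) := by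
      haveI : Nonempty ↥(MulAction.fixedPoints (ConjAct X) N) := ⟨⟨1, fun g => smul_one g⟩⟩
      exact Nat.card_pos
    exact Nat.lt_of_lt_of_le one_lt_two (Nat.le_of_dvd h4 h3)
  haveI := Finite.one_lt_card_iff_nontrivial.1 hfix
  obtain ⟨⟨d, hd⟩, hd1⟩ := exists_ne (⟨1, fun g => smul_one g⟩ : ↥(MulAction.fixedPoints (ConjAct X) N))
  have hd1' : (d : X) ≠ 1 := fun e => hd1 (Subtype.ext (Subtype.ext e))
  -- a power of order two
  obtain ⟨j, hj⟩ := (IsPGroup.iff_orderOf.1 hX) (d : X)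
  have hj0 : j ≠ 0 := fun e => hd1' (orderOf_eq_one_iff.1 (by rw [hj, e, pow_zero]))
  obtain ⟨c, hc⟩ : ∃ c : X, c = (d : X) ^ 2 ^ (j - 1) := ⟨_, rfl⟩
  have hc2 : orderOf c = 2 := by
    rw [hc, orderOf_pow_of_dvd (pow_ne_zero _ two_ne_zero) (hj ▸ pow_dvd_pow 2 (Nat.sub_le j 1)), hj,
      Nat.pow_div (Nat.sub_le j 1) two_pos, show j - (j - 1) = 1 by omega, pow_one]
  have hcN : c ∈ N := hc ▸ Subgroup.pow_mem _ d.2 _
  have hcomm : ∀ x ∈ X, Commute (c : G) x := fun x hx => by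
    have h5 : ConjAct.toConjAct (⟨x, hx⟩ : X) • d = d := hd _
    have h6 : (⟨x, hx⟩ : X) * (d : X) * (⟨x, hx⟩ : X)⁻¹ = d := congrArg Subtype.val h5
    have h7 : Commute (d : X) ⟨x, hx⟩ := (mul_inv_eq_iff_eq_mul.1 h6).symm
    have h8 : Commute c ⟨x, hx⟩ := hc ▸ h7.pow_left _
    exact congrArg Subtype.val h8.eq
  have hcG : orderOf (c : G) = 2 := (orderOf_coe c).trans hc2
  refine ⟨c, ?_, c.2, hcomm⟩
  by_contra hcZ
  refine S.notMem_lgen _ hcG hcZ ?_
  have hle : Subgroup.closure {g | g ∈ Z ∧ g ∈ X} ≤ lgen Z (c : G) :=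
    (Subgroup.closure_le _).2 fun g hg => mem_lgen hg.1 (hcomm g hg.2).symm
  exact hle (hNle ⟨c, hcN, rfl⟩)

/-- A 2-group fixing a point is centralised by a member of `Z` at this point. -/
theorem exists_partner {X : Subgroup G} (hX : IsPGroup 2 X) {b : Ω} (hb : X ≤ stabilizer G b) :
    ∃ c ∈ zAt Z b, ∀ x ∈ X, Commute c x := by
  haveI : Fact (Nat.Prime 2) := ⟨Nat.prime_two⟩
  obtain ⟨T, hT⟩ := (hX.of_equiv (subgroupOfEquivOfLe hb).symm).exists_le_sylow
  obtain ⟨z, hz, hzb⟩ := S.zAt_nonempty b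
  have hz' : IsPGroup 2 ↥((Subgroup.zpowers z).subgroupOf (stabilizer G b)) :=
    (IsPGroup.of_card (n := 1) (by rw [Nat.card_zpowers, S.invol z hz, pow_one]) :
      IsPGroup 2 (Subgroup.zpowers z)).of_equiv
      (subgroupOfEquivOfLe (Subgroup.zpowers_le.2 (mem_stabilizer_iff.2 hzb))).symm
  obtain ⟨T', hT'⟩ := hz'.exists_le_sylow
  obtain ⟨g, hg⟩ := MulAction.exists_smul_eq (stabilizer G b) T' T
  obtain ⟨Y, hY⟩ : ∃ Y, Y = (T : Subgroup (stabilizer G b)).map (stabilizer G b).subtype := ⟨_, rfl⟩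
  have hYp : IsPGroup 2 Y := hY ▸ T.isPGroup'.map _
  have hconj : (g : G) * z * (g : G)⁻¹ ∈ Y := by
    refine hY ▸ ⟨g * ⟨z, mem_stabilizer_iff.2 hzb⟩ * g⁻¹, ?_, rfl⟩
    rw [← hg, SetLike.mem_coe]
    exact ⟨⟨z, mem_stabilizer_iff.2 hzb⟩, hT' (mem_subgroupOf.2 (Subgroup.mem_zpowers z)), rfl⟩
  obtain ⟨c, hc, hcY, hcc⟩ := S.exists_central hYp ⟨_, S.conj_mem (g : G) z hz, hconj⟩
  refine ⟨c, ⟨hc, ?_⟩, fun x hx => hcc x (hY ▸ ⟨⟨x, hb hx⟩, hT (mem_subgroupOf.2 hx), rfl⟩)⟩
  obtain ⟨h, -, hh⟩ := hY ▸ hcY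
  rw [← hh]
  exact mem_stabilizer_iff.1 h.2

/-- An involution is centralised by a member at each of its fixed points. -/
theorem exists_partner_invol {u : G} (hu : orderOf u = 2) {b : Ω} (hb : u • b = b) :
    ∃ c ∈ zAt Z b, Commute c u := by
  haveI : Fact (Nat.Prime 2) := ⟨Nat.prime_two⟩
  obtain ⟨c, hc, hcc⟩ := S.exists_partner (X := Subgroup.zpowers u) (b := b)
    (IsPGroup.of_card (n := 1) (by rw [Nat.card_zpowers, hu, pow_one]))
    (Subgroup.zpowers_le.2 (mem_stabilizer_iff.2 hb))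
  exact ⟨c, hc, hcc u (Subgroup.mem_zpowers u)⟩

/-- An involution has an odd number of fixed points, in particular one. -/
theorem exists_fix_invol {u : G} (hu : orderOf u = 2) : ∃ x : Ω, u • x = x := by
  classical
  haveI := S.finite_points
  haveI := Fintype.ofFinite Ω
  haveI : Fact (Nat.Prime 2) := ⟨Nat.prime_two⟩
  have hP : IsPGroup 2 (Subgroup.zpowers u) :=
    IsPGroup.of_card (n := 1) (by rw [Nat.card_zpowers, hu, pow_one])
  have h1 : Nat.card ↥(MulAction.fixedPoints (Subgroup.zpowers u) Ω) % 2 = 1 :=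
    Eq.trans (hP.card_modEq_card_fixedPoints Ω).symm (Nat.odd_iff.1 S.odd_card)
  by_contra hcon
  push Not at hcon
  haveI : IsEmpty ↥(MulAction.fixedPoints (Subgroup.zpowers u) Ω) :=
    ⟨fun p => hcon p.1 (p.2 ⟨u, Subgroup.mem_zpowers u⟩)⟩
  rw [Nat.card_of_isEmpty] at h1
  omega

/-- `lgen Z u` is transitive on the fixed points of `u`. -/
theorem exists_smul_lgen {u : G} (hu : orderOf u = 2) {x y : Ω} (hx : u • x = x) (hy : u • y = y) :
    ∃ g ∈ lgen Z u, g • x = y := by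
  rcases eq_or_ne x y with rfl | hxy
  · exact ⟨1, Subgroup.one_mem _, one_smul _ _⟩
  obtain ⟨z, ⟨hz, hzx⟩, hzu⟩ := S.exists_partner_invol hu hx
  obtain ⟨t, ⟨ht, hty⟩, htu⟩ := S.exists_partner_invol hu hy
  obtain ⟨m, -, hm, -, hmx⟩ := S.exists_swapper hz ht hzx hty hxy
  refine ⟨m, (Subgroup.closure_le _).2 ?_ hm, hmx⟩
  rintro g (rfl | rfl)
  · exact mem_lgen hz hzu
  · exact mem_lgen ht htu

/-- An involution of `lgen Z u` fixes exactly one fixed point of `u`. -/
theorem lgen_unique_fix {u : G} (hu : orderOf u = 2) (huZ : u ∉ Z) {r : G} (hr : r ∈ lgen Z u)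
    (hr2 : orderOf r = 2) : ∃! x : Ω, u • x = x ∧ r • x = x := by
  classical
  haveI := S.finite_points
  haveI := Fintype.ofFinite Ω
  haveI : Fact (Nat.Prime 2) := ⟨Nat.prime_two⟩
  have hc : Commute r u := commute_of_mem_lgen hr
  have hmem : ∀ x : Ω, u • x = x → u • (r • x) = r • x := fun x hx => by
    rw [← mul_smul, ← hc.eq, mul_smul, hx]
  obtain ⟨x, hx, hxr⟩ : ∃ x : Ω, u • x = x ∧ r • x = x := by
    have hP : IsPGroup 2 ↥(Subgroup.zpowers r ⊔ Subgroup.zpowers u) := by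
      refine IsPGroup.to_sup_of_normal_left' (IsPGroup.of_card (n := 1) (by rw [Nat.card_zpowers, hr2, pow_one]))
        (IsPGroup.of_card (n := 1) (by rw [Nat.card_zpowers, hu, pow_one])) ?_
      refine (Subgroup.zpowers_le).2 (Subgroup.mem_normalizer_fintype fun g hg => ?_)
      obtain ⟨k, rfl⟩ := Subgroup.mem_zpowers_iff.1 hg
      rw [show u * r ^ k * u⁻¹ = r ^ k by rw [← (hc.zpow_left k).eq, mul_inv_cancel_right]]
      exact zpow_mem (Subgroup.mem_zpowers _) k
    have h1 : Nat.card ↥(MulAction.fixedPoints ↥(Subgroup.zpowers r ⊔ Subgroup.zpowers u) Ω) % 2 = 1 :=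
      Eq.trans (hP.card_modEq_card_fixedPoints Ω).symm (Nat.odd_iff.1 S.odd_card)
    by_contra hcon
    push Not at hcon
    haveI : IsEmpty ↥(MulAction.fixedPoints ↥(Subgroup.zpowers r ⊔ Subgroup.zpowers u) Ω) :=
      ⟨fun p => hcon p.1 (p.2 ⟨u, Subgroup.mem_sup_right (Subgroup.mem_zpowers u)⟩)
        (p.2 ⟨r, Subgroup.mem_sup_left (Subgroup.mem_zpowers r)⟩)⟩
    rw [Nat.card_of_isEmpty] at h1
    omega
  exact ⟨x, ⟨hx, hxr⟩, fun y hy => S.lgen_fix u hu huZ r hr hr2 y x hy.1 hx hy.2 hxr⟩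

end Hyp

end Cfsg.Agent.Invol.Aschbacher
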