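import Cfsg.Agent.Lib.Invol.Aschbacher.OddCore
import Cfsg.Agent.Lib.Invol.Aschbacher.Basic
import Cfsg.Agent.Lib.Invol.Bender.Block

/-!
# Blocks

The block of the point of a member of `Z` under a subgroup in which it has no commuting partner: a normal subgroup
of odd order acting abelianly on the block, inverted there by the member.
-/

set_option autoImplicit false
set_option linter.unusedSectionVars false

namespace Cfsg.Agent.Invol.Aschbacher

open MulAction Subgroup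
open Cfsg.Agent.Invol.Bender (conj_smul_smul swap_symm invert_mod card_derived_lt
  mem_normalizer_derived conj_mem_of_normalizer conj_mem_of_normalizer')
open scoped Pointwise

universe u v

variable {G : Type u} [Group G] [Finite G] {Ω : Type v} [MulAction G Ω] {Z : Set G}

/-- A member without commuting partners in a subgroup has products of odd order with its conjugates there. -/
theorem oddConj_of_no_four (S : Hyp G Ω Z) {N : Subgroup G} {u : G} (hu : u ∈ Z) (huN : u ∈ N)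
    (hno : ∀ x ∈ N, ∀ y ∈ N, x ∈ Z → y ∈ Z → Commute x y → x = y) : OddConj u N := by
  intro g hg
  obtain ⟨t, ht⟩ : ∃ t, t = g * u * g⁻¹ := ⟨_, rfl⟩
  rw [← ht]
  have htZ : t ∈ Z := ht ▸ S.conj_mem g u hu
  have htN : t ∈ N := ht ▸ N.mul_mem (N.mul_mem hg huN) (N.inv_mem hg)
  have hu2 := S.invol u hu
  have ht2 := S.invol t htZ
  refine Nat.not_even_iff_odd.1 fun hev => ?_
  obtain ⟨r, hr⟩ := hev
  obtain ⟨c, hc⟩ : ∃ c, c = (u * t) ^ r := ⟨_, rfl⟩
  have hc2 : orderOf c = 2 := by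
    have h0 := orderOf_pos (u * t)
    rw [hc, orderOf_pow, hr, Nat.gcd_eq_right ⟨2, by ring⟩, ← two_mul]
    exact Nat.mul_div_cancel _ (by omega)
  have h1 : Commute u c := by
    have h2 := mul_zpow_comm hu2 ht2 (r : ℤ)
    rw [zpow_natCast, zpow_neg, zpow_natCast, ← hc, inv_of_orderOf_two hc2] at h2
    exact h2
  have h3 : Commute t c := by
    have := h1.mul_left (hc ▸ Commute.self_pow (u * t) r : Commute (u * t) c)
    rwa [← y_eq hu2] at this
  by_cases hcZ : c ∈ Z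
  · have hcN : c ∈ N := hc ▸ N.pow_mem (N.mul_mem huN htN) r
    obtain rfl := hno u huN c hcN hu hcZ h1
    obtain rfl := hno t htN u huN htZ hu h3
    rw [mul_self_of_orderOf_two hu2, one_pow] at hc
    rw [hc, orderOf_one] at hc2; omega
  · refine S.notMem_lgen c hc2 hcZ ?_
    have h4 := Subgroup.pow_mem _ (Subgroup.mul_mem _ (mem_lgen hu h1) (mem_lgen htZ h3)) r
    rwa [← hc] at h4

/-- The block of the point of a member under a subgroup moving it in which it is central modulo the odd core. -/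
theorem exists_block (S : Hyp G Ω Z) {N : Subgroup G} {u : G} {d : Ω} (hu : u ∈ zAt Z d) (huN : u ∈ N)
    (hiso : OddConj u N) (hmove : ∃ n ∈ N, n • d ≠ d) :
    ∃ L : Subgroup G, L ≤ N ∧ Odd (Nat.card L) ∧ (∃ l ∈ L, l • d ≠ d) ∧
      (∀ a ∈ L, u • (a • d) = a⁻¹ • d) ∧
      (∀ a ∈ L, ∀ n ∈ N, n • (a • d) = a • d → n • (a⁻¹ • d) = a⁻¹ • d → n • d = d) ∧
      (∀ a ∈ L, ∀ b ∈ L, a • d ≠ b • d → ∃ h ∈ L, (h * u * h⁻¹) • (a • d) = b • d ∧
        ∀ n ∈ N, n • (a • d) = a • d → n • (b • d) = b • d → n • (h • d) = h • d) := by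
  obtain ⟨n, hnN, hnd⟩ := hmove
  have hu2 := S.invol u hu.1
  have hud := hu.2
  obtain ⟨O, hO⟩ : ∃ O, O = oddIn N := ⟨_, rfl⟩
  have hNO : N ≤ normalizer (O : Set G) := hO ▸ oddIn_normalized N
  have hON : O ≤ N := hO ▸ oddIn_le N
  have hOodd : Odd (Nat.card O) := hO ▸ odd_oddIn N
  have hOd : ¬ O ≤ stabilizer G d := by
    intro hle
    have h1 : u * n * u⁻¹ * n⁻¹ ∈ O := hO ▸ commutator_mem_oddIn hu2 (le_normalizer huN) hiso hnN
    have h2 := mem_stabilizer_iff.1 (hle h1)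
    have h3 : (n * u * n⁻¹) • d = d := by
      have h4 : n * u * n⁻¹ = u * (u * n * u⁻¹ * n⁻¹) := by
        simp only [inv_of_orderOf_two hu2, ← mul_assoc, mul_self_of_orderOf_two hu2, one_mul]
      rw [h4, mul_smul, h2, hud]
    exact hnd (S.fix_unique (S.conj_mem n u hu.1) (by rw [conj_smul_smul, hud]) h3)
  obtain ⟨L, ⟨hLO, hNL, hLd⟩, hLmin⟩ : ∃ L : Subgroup G, (L ≤ O ∧ N ≤ normalizer (L : Set G) ∧
      ¬ L ≤ stabilizer G d) ∧ ∀ L' : Subgroup G, L' ≤ O → N ≤ normalizer (L' : Set G) → ¬ L' ≤ stabilizer G d →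
      Nat.card L ≤ Nat.card L' := by
    obtain ⟨L, hL, hm⟩ := Set.exists_min_image
      {L : Subgroup G | L ≤ O ∧ N ≤ normalizer (L : Set G) ∧ ¬ L ≤ stabilizer G d} (fun L => Nat.card L)
      (Set.toFinite _) ⟨O, le_rfl, hNO, hOd⟩
    exact ⟨L, hL, fun L' h1 h2 h3 => hm L' ⟨h1, h2, h3⟩⟩
  have hLodd : Odd (Nat.card L) := hOodd.of_dvd_nat (Subgroup.card_dvd_of_le hLO)
  have hLN : L ≤ N := hLO.trans hON
  have hder : ∀ a ∈ L, ∀ b ∈ L, (a * b * a⁻¹ * b⁻¹) • d = d := by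
    have hin : ⁅L, L⁆ ≤ stabilizer G d := by
      by_contra hcon
      have h1 := hLmin _ ((commutator_le_self L).trans hLO) (fun x hx => mem_normalizer_derived (hNL hx)) hcon
      exact absurd (card_derived_lt hLodd fun e => hLd (e ▸ bot_le)) (not_lt.2 h1)
    exact fun a ha b hb => mem_stabilizer_iff.1 (hin (Subgroup.commutator_mem_commutator ha hb))
  have hLfix : ∀ a ∈ L, a • d = d → ∀ b ∈ L, (b * a * b⁻¹) • d = d := fun a ha had b hb => by
    rw [show b * a * b⁻¹ = (b * a * b⁻¹ * a⁻¹) * a by group, mul_smul, had, hder b hb a ha]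
  -- the image of `L` in the permutations of the block
  let Ld : Subgroup L := (stabilizer G d).subgroupOf L
  haveI : Ld.Normal := ⟨fun a ha b => by
    rw [Subgroup.mem_subgroupOf, mem_stabilizer_iff] at ha ⊢
    simpa using hLfix a a.2 ha b b.2⟩
  let π : L →* L ⧸ Ld := QuotientGroup.mk' Ld
  have hπ : ∀ {a : L}, π a = 1 ↔ (a : G) • d = d := fun {a} =>
    (QuotientGroup.eq_one_iff a).trans (by rw [Subgroup.mem_subgroupOf, mem_stabilizer_iff])
  have hπeq : ∀ {a b : L}, π a = π b → (a : G) • d = (b : G) • d := fun {a b} h => by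
    have h1 : π (a⁻¹ * b) = 1 := by rw [map_mul, map_inv, h, inv_mul_cancel]
    rw [hπ, Subgroup.coe_mul, Subgroup.coe_inv, mul_smul, inv_smul_eq_iff] at h1
    exact h1.symm
  have hπc : ∀ a b : L, π a * π b = π b * π a := fun a b => by
    rw [← mul_inv_eq_iff_eq_mul, ← mul_inv_eq_one, ← map_mul, ← map_inv, ← map_mul, ← map_inv, ← map_mul, hπ]
    exact hder a a.2 b b.2
  have hoddπ : Odd (Nat.card (L ⧸ Ld)) := hLodd.of_dvd_nat (Subgroup.card_quotient_dvd_card Ld)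
  have hsq : ∀ x : L ⧸ Ld, x * x = 1 → x = 1 := fun x hx => by
    by_contra hne
    have h1 := hoddπ.of_dvd_nat (orderOf_dvd_natCard x)
    rw [orderOf_two_iff.2 ⟨hx, hne⟩] at h1
    exact absurd h1 (by decide)
  have hflip : ∀ a ∈ L, u • (a • d) = a⁻¹ • d := fun a ha => by
    have h1 := invert_mod hu2 (fun c hc => S.fix_of_commute hu.1 hud hc) hLodd (hNL huN) hder ha
    have h3 : (a * (u * a * u⁻¹ * a) * a⁻¹) • d = d :=
      hLfix _ (L.mul_mem (conj_mem_of_normalizer (hNL huN) ha) ha) h1 a ha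
    calc u • (a • d) = (u * a * u⁻¹) • (u • d) := (conj_smul_smul u a d).symm
      _ = (a⁻¹ * (a * (u * a * u⁻¹ * a) * a⁻¹)) • d := by rw [hud]; congr 1; group
      _ = a⁻¹ • d := by rw [mul_smul, h3]
  -- conjugating by elements of the block
  have hswap : ∀ h ∈ L, ∀ a ∈ L, (h * u * h⁻¹) • (a • d) = (h * (a⁻¹ * h)) • d := fun h hh a ha => by
    rw [show a • d = h • ((h⁻¹ * a) • d) by rw [← mul_smul, mul_inv_cancel_left], conj_smul_smul,
      hflip _ (L.mul_mem (L.inv_mem hh) ha), ← mul_smul, mul_inv_rev, inv_inv]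
  have hsqrt : ∀ a ∈ L, ∀ b ∈ L, ∃ h ∈ L, (h * u * h⁻¹) • (a • d) = b • d := fun a ha b hb => by
    obtain ⟨k, hk⟩ := hoddπ
    obtain ⟨x, hx⟩ : ∃ x : L, x = (⟨a, ha⟩ * ⟨b, hb⟩) ^ (k + 1) := ⟨_, rfl⟩
    refine ⟨x, x.2, ?_⟩
    rw [hswap x x.2 a ha]
    refine hπeq (a := x * (⟨a, ha⟩⁻¹ * x)) (b := ⟨b, hb⟩) ?_
    have h1 : π x * π x = π ⟨a, ha⟩ * π ⟨b, hb⟩ := by
      rw [hx, map_pow, ← pow_add, show k + 1 + (k + 1) = 2 * k + 1 + 1 by ring, pow_succ, ← hk, pow_card_eq_one',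
        one_mul, map_mul]
    rw [map_mul, map_mul, map_inv, ← mul_assoc, mul_assoc (π x), ]
    calc π x * ((π ⟨a, ha⟩)⁻¹ * π x) = (π ⟨a, ha⟩)⁻¹ * (π x * π x) := by
          rw [← mul_assoc, ← mul_assoc, ← map_inv, hπc x]
      _ = π ⟨b, hb⟩ := by rw [h1, inv_mul_cancel_left]
  -- an element fixing `a • d` and `a⁻¹ • d`
  have hmid : ∀ a ∈ L, ∀ n ∈ N, n • (a • d) = a • d → n • (a⁻¹ • d) = a⁻¹ • d → n • d = d := by
    intro a ha m hm hma hmb
    obtain ⟨c, hcL, hc⟩ : ∃ c ∈ L, m • d = c • d := by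
      refine ⟨m * a⁻¹ * m⁻¹ * a, L.mul_mem (conj_mem_of_normalizer (hNL hm) (L.inv_mem ha)) ha, ?_⟩
      rw [mul_smul (m * a⁻¹ * m⁻¹), ← hma]
      conv_rhs => rw [conj_smul_smul, inv_smul_smul]
    -- `c u c⁻¹` and `m u m⁻¹` are involutions at `c • d`
    have hv2 : orderOf (m * u * m⁻¹) = 2 := (orderOf_conj_eq m u).trans hu2
    have hvd : (m * u * m⁻¹) • (c • d) = c • d := by rw [← hc, conj_smul_smul, hud]
    have hvg : (m * u * m⁻¹) • (a • d) = a⁻¹ • d := by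
      conv_lhs => rw [← hma]
      rw [conj_smul_smul, hflip a ha, hmb]
    have hvN : m * u * m⁻¹ ∈ N := mul_mem (mul_mem hm huN) (inv_mem hm)
    have hac : a * c⁻¹ ∈ L := L.mul_mem ha (L.inv_mem hcL)
    have hinv := invert_mod hv2 (fun x hx => S.fix_of_commute (S.conj_mem m u hu.1) hvd hx) hLodd (hNL hvN)
      (fun x hx y hy => by
        have hxy : x * y * x⁻¹ * y⁻¹ ∈ L := L.mul_mem (L.mul_mem (L.mul_mem hx hy) (L.inv_mem hx)) (L.inv_mem hy)
        have h1 := hLfix _ hxy (hder x hx y hy) c⁻¹ (L.inv_mem hcL)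
        rw [inv_inv, mul_smul, mul_smul, inv_smul_eq_iff] at h1
        exact h1) (a := a * c⁻¹) hac
    obtain ⟨k, hk⟩ : ∃ k, k = (m * u * m⁻¹) * (a * c⁻¹) * (m * u * m⁻¹)⁻¹ := ⟨_, rfl⟩
    have hvl : a⁻¹ • d = k • (c • d) := by
      rw [← hvg, hk]
      conv_rhs => rw [← hvd, conj_smul_smul, mul_smul a c⁻¹, inv_smul_smul]
    rw [← hk] at hinv
    have hkL : k ∈ L := hk ▸ conj_mem_of_normalizer (hNL hvN) hac
    have hcinv : ∀ {x : G} (hx : x ∈ L), x • (c • d) = c • d → π ⟨x, hx⟩ = 1 := fun {x} hx h => by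
      rw [hπ]
      have h1 : (c⁻¹ * x * c) • d = d := by rw [mul_smul, mul_smul, inv_smul_eq_iff, h]
      have h2 := hLfix _ (L.mul_mem (L.mul_mem (L.inv_mem hcL) hx) hcL) h1 c hcL
      simpa [mul_assoc] using h2
    obtain ⟨K', hK'⟩ : ∃ K', K' = π ⟨k, hkL⟩ := ⟨_, rfl⟩
    obtain ⟨C, hC⟩ : ∃ C, C = π ⟨c, hcL⟩ := ⟨_, rfl⟩
    obtain ⟨A, hA⟩ : ∃ A, A = π ⟨a, ha⟩ := ⟨_, rfl⟩
    have e1 : K' * (A * C⁻¹) = 1 := by
      rw [hK', hA, hC, ← map_inv, ← map_mul, ← map_mul]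
      exact hcinv (L.mul_mem hkL hac) hinv
    have e2 : A * (K' * C) = 1 := by
      rw [hK', hA, hC, ← map_mul, ← map_mul, hπ]
      show (a * (k * c)) • d = d
      rw [mul_smul, mul_smul, ← hvl, smul_inv_smul]
    have e3 : C * C = 1 := by
      have h5 : A * (K' * C) = K' * (A * C⁻¹) * (C * C) := by
        have hAK : A * K' = K' * A := by rw [hA, hK']; exact hπc _ _
        calc A * (K' * C) = (A * K') * C := by group
          _ = (K' * A) * C := by rw [hAK]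
          _ = _ := by group
      rwa [e2, e1, one_mul, eq_comm] at h5
    have e4 := hsq C e3
    rw [hC, hπ] at e4
    rw [hc]
    exact e4
  obtain ⟨l, hlL, hld⟩ := Set.not_subset.1 hLd
  refine ⟨L, hLN, hLodd, ⟨l, hlL, fun e => hld (mem_stabilizer_iff.2 e)⟩, hflip, hmid, ?_⟩
  intro a ha b hb _
  obtain ⟨h, hh, hab⟩ := hsqrt a ha b hb
  refine ⟨h, hh, hab, fun m hm hma hmb => ?_⟩
  have h1 : (h⁻¹ * a) • d = h⁻¹ • (a • d) := mul_smul _ _ _
  have h2 : (h⁻¹ * a)⁻¹ • d = h⁻¹ • (b • d) := by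
    rw [← hflip _ (L.mul_mem (L.inv_mem hh) ha), ← hab, mul_smul h⁻¹ a, mul_smul, mul_smul, inv_smul_smul]
  have h3 := hmid _ (L.mul_mem (L.inv_mem hh) ha) (h⁻¹ * m * h)
    (mul_mem (mul_mem (inv_mem (hLN hh)) hm) (hLN hh))
    (by rw [h1, mul_smul, mul_smul, smul_inv_smul, hma]) (by rw [h2, mul_smul, mul_smul, smul_inv_smul, hmb])
  rw [mul_smul, mul_smul, inv_smul_eq_iff] at h3
  exact h3

end Cfsg.Agent.Invol.Aschbacher
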