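import Cfsg.Agent.Lib.Invol.Aschbacher.Pair
import Cfsg.Agent.Lib.Invol.Bender.Parity

/-!
# Commuting is transitive on the members at a point

If the centraliser of a swapper in the odd core of its pair is the centraliser of a member at one of the points, the
swappers are in equivariant bijection with the members at that point, and commuting is transitive there: the members
in a centraliser of two members are odd in number as soon as there is one.
-/

set_option autoImplicit false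
set_option linter.unusedSectionVars false

namespace Cfsg.Agent.Invol.Aschbacher

open MulAction Subgroup
open Cfsg.Agent.Invol.Bender (conj_smul_smul swap_symm mem_pair card_modEq_two_fixed)

universe u v

variable {G : Type u} {Ω : Type v} [Group G] [MulAction G Ω] [Finite G] {Z : Set G}

/-- The centraliser of a swapper in the odd core of its pair is that of a member at the first point. -/
def ConjPair (Z : Set G) (Ω : Type v) [MulAction G Ω] : Prop :=
  ∀ c a : Ω, c ≠ a → ∀ w ∈ zSwap Z c a, ∃ t ∈ zAt Z c, ∀ x ∈ pairCore G c a, Commute x w ↔ Commute x t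

namespace Hyp

variable (S : Hyp G Ω Z)
include S

/-- The members in a subgroup containing one are odd in number. -/
theorem odd_card_members {X : Subgroup G} (hne : ∃ z ∈ Z, z ∈ X) :
    Odd (Nat.card {i : G // i ∈ X ∧ i ∈ Z}) := by
  classical
  haveI : Fact (Nat.Prime 2) := ⟨Nat.prime_two⟩
  obtain ⟨z, hz, hzX⟩ := hne
  obtain ⟨Y, hY⟩ := (((IsPGroup.of_card (n := 1) (by rw [Nat.card_zpowers, S.invol z hz, pow_one]) :
    IsPGroup 2 (Subgroup.zpowers z))).of_equiv
      (subgroupOfEquivOfLe (Subgroup.zpowers_le.2 hzX)).symm).exists_le_sylow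
  obtain ⟨T, hT⟩ : ∃ T, T = (Y : Subgroup X).map X.subtype := ⟨_, rfl⟩
  have hTp : IsPGroup 2 T := hT ▸ Y.isPGroup'.map _
  have hTX : T ≤ X := hT ▸ Subgroup.map_subtype_le _
  have hzT : z ∈ T := hT ▸ ⟨⟨z, hzX⟩, hY (mem_subgroupOf.2 (mem_zpowers z)), rfl⟩
  obtain ⟨c, hc, hcT, hcc⟩ := S.exists_central hTp ⟨z, hz, hzT⟩
  -- a 2-element centralising the Sylow subgroup lies in it
  have hin : ∀ i ∈ X, i ∈ Z → (∀ t ∈ T, Commute t i) → i ∈ T := by
    intro i hiX hi hit
    have hn : Subgroup.zpowers i ≤ normalizer (T : Set G) := Subgroup.zpowers_le.2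
      (Subgroup.mem_normalizer_fintype fun t ht => by
        rw [← (hit t ht).eq, mul_inv_cancel_right]; exact ht)
    have hp : IsPGroup 2 ↥(T ⊔ Subgroup.zpowers i) := hTp.to_sup_of_normal_left'
      (IsPGroup.of_card (n := 1) (by rw [Nat.card_zpowers, S.invol i hi, pow_one])) hn
    have hsyl : Grp.IsSylowIn 2 T X := hT ▸ Grp.isSylowIn_iff.2 ⟨Y, rfl⟩
    have := hsyl.eq_of_le le_sup_left (sup_le hTX (Subgroup.zpowers_le.2 hiX)) hp
    rw [this]; exact mem_sup_right (mem_zpowers i)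
  -- the central members form an elementary group without the identity
  let E : Subgroup G :=
    { carrier := {g | g = 1 ∨ (g ∈ T ∧ g ∈ Z ∧ ∀ t ∈ T, Commute t g)}
      one_mem' := Or.inl rfl
      inv_mem' := by
        rintro g (rfl | ⟨hg, hgZ, hgc⟩)
        · exact Or.inl inv_one
        · exact Or.inr (by rw [inv_of_orderOf_two (S.invol g hgZ)]; exact ⟨hg, hgZ, hgc⟩)
      mul_mem' := by
        rintro g h (rfl | ⟨hg, hgZ, hgc⟩) (rfl | ⟨hh, hhZ, hhc⟩)
        · exact Or.inl (mul_one 1)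
        · exact Or.inr ((one_mul h).symm ▸ ⟨hh, hhZ, hhc⟩)
        · exact Or.inr ((mul_one g).symm ▸ ⟨hg, hgZ, hgc⟩)
        · rcases eq_or_ne g h with rfl | hne'
          · exact Or.inl (mul_self_of_orderOf_two (S.invol g hgZ))
          · exact Or.inr ⟨T.mul_mem hg hh, S.mul_mem hgZ hhZ hne' (hhc g hg), fun t ht =>
              (hgc t ht).mul_right (hhc t ht)⟩ }
  have hEp : IsPGroup 2 E := hTp.to_le (by rintro g (rfl | ⟨hg, -, -⟩); exacts [T.one_mem, hg])
  have hcE : c ∈ E := Or.inr ⟨hcT, hc, fun t ht => (hcc t ht).symm⟩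
  haveI : Nontrivial E := ⟨⟨⟨c, hcE⟩, 1, fun h => by
    have h1 : c = 1 := congrArg Subtype.val h
    have h2 := S.invol c hc
    rw [h1, orderOf_one] at h2
    omega⟩⟩
  obtain ⟨k, hk0, hk⟩ := hEp.nontrivial_iff_card.1 inferInstance
  have hcard : Nat.card {g : G // g ∈ T ∧ g ∈ Z ∧ ∀ t ∈ T, Commute t g} + 1 = Nat.card E := by
    rw [← Nat.card_unique (α := PUnit.{1}), ← Nat.card_sum]
    refine Nat.card_congr (Equiv.ofBijective (Sum.elim (fun g => (⟨g.1, Or.inr g.2⟩ : E)) fun _ => 1) ⟨?_, ?_⟩)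
    · rintro (⟨g, hg⟩ | ⟨⟩) (⟨h, hh⟩ | ⟨⟩) e
      · exact congrArg Sum.inl (Subtype.ext (congrArg (fun z : E => (z : G)) e))
      · have e' : g = 1 := congrArg (fun z : E => (z : G)) e
        exact absurd (S.invol g hg.2.1) (by rw [e', orderOf_one]; omega)
      · have e' : (1 : G) = h := congrArg (fun z : E => (z : G)) e
        exact absurd (S.invol h hh.2.1) (by rw [← e', orderOf_one]; omega)
      · rfl
    · rintro ⟨g, rfl | hg⟩
      · exact ⟨Sum.inr ⟨⟩, rfl⟩
      · exact ⟨Sum.inl ⟨g, hg⟩, rfl⟩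
  have hfix : Odd (Nat.card {g : G // g ∈ T ∧ g ∈ Z ∧ ∀ t ∈ T, Commute t g}) := by
    rw [Nat.odd_iff]
    have h2 : 2 ∣ Nat.card E := hk ▸ dvd_pow_self 2 hk0.ne'
    omega
  -- count the orbits of the Sylow subgroup
  letI : MulAction T {i : G // i ∈ X ∧ i ∈ Z} :=
    { smul := fun t i => ⟨(t : G) * i * (t : G)⁻¹, X.mul_mem (X.mul_mem (hTX t.2) i.2.1) (X.inv_mem (hTX t.2)),
        S.conj_mem _ _ i.2.2⟩
      one_smul := fun i => Subtype.ext (by show (1 : G) * i * (1 : G)⁻¹ = i; group)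
      mul_smul := fun g h i => Subtype.ext (by
        show (g * h : G) * i * (g * h : G)⁻¹ = g * ((h : G) * i * (h : G)⁻¹) * (g : G)⁻¹; group) }
  have hmod := hTp.card_modEq_card_fixedPoints {i : G // i ∈ X ∧ i ∈ Z}
  have hfeq : Nat.card ↥(MulAction.fixedPoints T {i : G // i ∈ X ∧ i ∈ Z}) =
      Nat.card {g : G // g ∈ T ∧ g ∈ Z ∧ ∀ t ∈ T, Commute t g} := by
    refine Nat.card_congr (Equiv.ofBijective (fun i => ⟨(i.1 : G), ?_, i.1.2.2, ?_⟩) ⟨?_, ?_⟩)
    · refine hin _ i.1.2.1 i.1.2.2 fun t ht => ?_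
      exact mul_inv_eq_iff_eq_mul.1 (congrArg Subtype.val (i.2 ⟨t, ht⟩))
    · intro t ht
      exact mul_inv_eq_iff_eq_mul.1 (congrArg Subtype.val (i.2 ⟨t, ht⟩))
    · intro i j e
      exact Subtype.ext (Subtype.ext (congrArg (fun q => q.1) e))
    · rintro ⟨g, hg, hgZ, hgc⟩
      refine ⟨⟨⟨g, hTX hg, hgZ⟩, fun t => Subtype.ext ?_⟩, rfl⟩
      show (t : G) * g * (t : G)⁻¹ = g
      rw [(hgc _ t.2).eq, mul_inv_cancel_right]
  rw [hfeq] at hmod
  rw [Nat.odd_iff] at hfix ⊢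
  exact Eq.trans hmod hfix

/-- The swapper in the middle of two swappers. -/
theorem exists_middle_swapper {c a : Ω} (hca : c ≠ a) {x y : G} (hx : x ∈ zSwap Z c a) (hy : y ∈ zSwap Z c a) :
    ∃ w ∈ zSwap Z c a, w * x * w⁻¹ = y ∧ w * y * w⁻¹ = x := by
  have hx2 := S.invol x hx.1
  have hy2 := S.invol y hy.1
  obtain ⟨n, hn⟩ := S.odd_swap_mul hca hx hy
  obtain ⟨k, hk⟩ : ∃ k, k = (x * y) ^ (n : ℤ) := ⟨_, rfl⟩
  have hone : (x * y) ^ ((2 * n + 1 : ℕ) : ℤ) = 1 := by rw [zpow_natCast, ← hn, pow_orderOf_eq_one]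
  have hkD : k ∈ pairCore G c a := hk ▸ Subgroup.zpow_mem _ (S.swap_mul_mem hca hx hy) _
  obtain ⟨hkc, hka⟩ := mem_pair.1 (pairCore_le c a hkD)
  have hkx : k * x * k⁻¹ = y := by
    rw [hk, ← zpow_neg, mul_assoc, mul_zpow_comm hx2 hy2, neg_neg, ← mul_assoc, ← zpow_add]
    have h1 : (x * y) ^ ((n : ℤ) + n) = (x * y)⁻¹ := by
      rw [eq_inv_iff_mul_eq_one, ← zpow_add_one, show (n : ℤ) + n + 1 = ((2 * n + 1 : ℕ) : ℤ) by push_cast; ring,
        hone]
    rw [h1, _root_.mul_inv_rev, mul_assoc, inv_mul_cancel, mul_one, inv_of_orderOf_two hy2]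
  have hkZ : k * x ∈ Z := by
    have h2 : (x * y) ^ ((n : ℤ) * (n + 1)) * x * ((x * y) ^ ((n : ℤ) * (n + 1)))⁻¹ = k * x := by
      rw [← zpow_neg, mul_assoc, mul_zpow_comm hx2 hy2, neg_neg, ← mul_assoc, ← zpow_add, hk,
        show (n : ℤ) * (n + 1) + n * (n + 1) = ((2 * n + 1 : ℕ) : ℤ) * n + n by push_cast; ring,
        zpow_add, zpow_mul, hone, one_zpow, one_mul]
    exact h2 ▸ S.conj_mem _ x hx.1
  have hswap : (k * x) • c = a := by rw [mul_smul, hx.2, hka]
  have hw2 := S.invol _ hkZ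
  have hconj : k * x * x * (k * x)⁻¹ = y := by rw [← hkx]; group
  refine ⟨k * x, ⟨hkZ, hswap⟩, hconj, ?_⟩
  rw [← hconj]
  simp only [inv_of_orderOf_two hw2]
  calc k * x * (k * x * x * (k * x)) * (k * x) = k * x * (k * x) * x * (k * x * (k * x)) := by group
    _ = x := by rw [mul_self_of_orderOf_two hw2, one_mul, mul_one]

/-- Commuting is transitive on the members at a point. -/
theorem commute_trans (hC : ConjPair Z Ω) : ∀ c : Ω, ∀ r ∈ zAt Z c, ∀ s ∈ zAt Z c, ∀ t ∈ zAt Z c,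
    Commute r s → Commute s t → Commute r t := by
  classical
  intro c r hr' s hs t ht hrs hst
  obtain ⟨a, hac⟩ := S.nontrivial |> fun h => @exists_ne Ω h c
  have hca := hac.symm
  obtain ⟨t', ht'⟩ := S.zAt_nonempty a
  obtain ⟨v, hv, -⟩ := S.exists_zSwap_conj hca hr' ht'
  obtain ⟨t₀, ht₀, hvt⟩ := hC c a hca v hv
  have hconjAt : ∀ {d z : G}, d ∈ pairCore G c a → z ∈ zAt Z c → d * z * d⁻¹ ∈ zAt Z c := fun {d z} hd hz => by
    have := S.zAt_conj (g := d) hz
    rwa [(mem_pair.1 (pairCore_le c a hd)).1] at this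
  have hconjSw : ∀ {d z : G}, d ∈ pairCore G c a → z ∈ zSwap Z c a → d * z * d⁻¹ ∈ zSwap Z c a :=
    fun {d z} hd hz => by
      refine ⟨S.conj_mem d z hz.1, ?_⟩
      obtain ⟨h1, h2⟩ := mem_pair.1 (pairCore_le c a hd)
      conv_lhs => rw [← h1]
      rw [conj_smul_smul, hz.2, h2]
  have hex : ∀ x : ↥(zSwap Z c a), ∃ g ∈ pairCore G c a, g * v * g⁻¹ = x :=
    fun x => S.exists_conj_zSwap hca hv x.2
  choose g hgD hg using hex
  have hkey : ∀ k ∈ pairCore G c a, ∀ l ∈ pairCore G c a,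
      (k * v * k⁻¹ = l * v * l⁻¹ ↔ k * t₀ * k⁻¹ = l * t₀ * l⁻¹) := by
    intro k hk l hl
    have e : ∀ z : G, k * z * k⁻¹ = l * z * l⁻¹ ↔ Commute (l⁻¹ * k) z := fun z => by
      constructor
      · intro h
        show l⁻¹ * k * z = z * (l⁻¹ * k)
        calc l⁻¹ * k * z = l⁻¹ * (k * z * k⁻¹) * k := by group
          _ = l⁻¹ * (l * z * l⁻¹) * k := by rw [h]
          _ = _ := by group
      · intro h
        calc k * z * k⁻¹ = l * (l⁻¹ * k * z) * k⁻¹ := by group
          _ = l * (z * (l⁻¹ * k)) * k⁻¹ := by rw [h.eq]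
          _ = _ := by group
    rw [e, e]
    exact hvt _ (Subgroup.mul_mem _ (Subgroup.inv_mem _ hl) hk)
  let β : ↥(zSwap Z c a) → ↥(zAt Z c) := fun x => ⟨g x * t₀ * (g x)⁻¹, hconjAt (hgD x) ht₀⟩
  have hβ : ∀ (x : ↥(zSwap Z c a)) (d : G), d ∈ pairCore G c a → ∀ y : ↥(zSwap Z c a),
      d * (x : G) * d⁻¹ = y → d * (β x : G) * d⁻¹ = β y := by
    intro x d hd y hxy
    have h1 : d * g x * v * (d * g x)⁻¹ = g y * v * (g y)⁻¹ := by
      rw [hg y, ← hxy, ← hg x]
      group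
    have h2 := (hkey _ (Subgroup.mul_mem _ hd (hgD x)) _ (hgD y)).1 h1
    show d * (g x * t₀ * (g x)⁻¹) * d⁻¹ = g y * t₀ * (g y)⁻¹
    rw [← h2]
    group
  have hinj : Function.Injective β := fun x y e => Subtype.ext (by
    rw [← hg x, ← hg y]
    exact (hkey _ (hgD x) _ (hgD y)).2 (congrArg Subtype.val e))
  have hsurj : Function.Surjective β := fun i => by
    obtain ⟨d, hd, hdi⟩ := S.exists_conj_zAt hca ht₀ i.2
    let y : ↥(zSwap Z c a) := ⟨d * v * d⁻¹, hconjSw hd hv⟩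
    refine ⟨y, Subtype.ext ?_⟩
    show g y * t₀ * (g y)⁻¹ = i
    rw [← hdi]
    exact (hkey _ (hgD y) _ hd).1 (hg y)
  let R : ↥(zSwap Z c a) → ↥(zSwap Z c a) → Prop := fun x y => Commute (β x : G) (β y)
  -- reflections of the space of swappers
  let σ : ↥(zSwap Z c a) → ↥(zSwap Z c a) → ↥(zSwap Z c a) := fun w z =>
    ⟨(w : G) * z * (w : G)⁻¹, S.conj_mem _ _ z.2.1, by
      have hw2 := S.invol _ w.2.1
      rw [inv_of_orderOf_two hw2, mul_smul, mul_smul, w.2.2, swap_symm (S.invol _ z.2.1) z.2.2, w.2.2]⟩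
  have hσσ : ∀ w z, σ w (σ w z) = z := fun w z => Subtype.ext (by
    show (w : G) * ((w : G) * z * (w : G)⁻¹) * (w : G)⁻¹ = z
    calc (w : G) * ((w : G) * z * (w : G)⁻¹) * (w : G)⁻¹ = (w : G) * w * z * ((w : G) * w)⁻¹ := by group
      _ = z := by rw [mul_self_of_orderOf_two (S.invol _ w.2.1), one_mul, inv_one, mul_one])
  have hσR : ∀ w x y, R x y → R (σ w x) (σ w y) := by
    intro w x y hxy
    obtain ⟨m, hm, hmx, hmy⟩ := S.exists_middle_swapper hca x.2 y.2
    have hd : (w : G) * m ∈ pairCore G c a := S.swap_mul_mem hca w.2 hm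
    have h1 := hβ y _ hd (σ w x) (by
      show (w : G) * m * y * ((w : G) * m)⁻¹ = (w : G) * x * (w : G)⁻¹
      rw [← hmy]; group)
    have h2 := hβ x _ hd (σ w y) (by
      show (w : G) * m * x * ((w : G) * m)⁻¹ = (w : G) * y * (w : G)⁻¹
      rw [← hmx]; group)
    show Commute (β (σ w x) : G) (β (σ w y))
    rw [← h1, ← h2]
    exact ((SemiconjBy.conj_iff).2 hxy.symm.eq :)
  have hσfix : ∀ w z, σ w z = z ↔ z = w := by
    intro w z
    constructor
    · intro e
      have e' : (w : G) * z * (w : G)⁻¹ = z := congrArg Subtype.val e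
      have hz2 := S.invol _ z.2.1
      have h1 : (z : G) * w * ((z : G) * w) = 1 := by
        have hc : (w : G) * z = z * w := mul_inv_eq_iff_eq_mul.1 e'
        calc (z : G) * w * ((z : G) * w) = z * ((w : G) * z) * w := by group
          _ = z * (z * w) * w := by rw [hc]
          _ = (z : G) * z * ((w : G) * w) := by group
          _ = 1 := by rw [mul_self_of_orderOf_two hz2, mul_self_of_orderOf_two (S.invol _ w.2.1), one_mul]
      by_contra hne
      have h2 : orderOf ((z : G) * w) = 2 :=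
        orderOf_two_iff.2 ⟨h1, mul_ne_one_of_ne hz2 fun h => hne (Subtype.ext h)⟩
      have h3 := S.odd_swap_mul hca z.2 w.2
      rw [h2] at h3
      exact absurd h3 (by decide)
    · rintro rfl
      exact Subtype.ext (mul_inv_cancel_right _ _)
  -- two swappers with a common partner: their middle commutes with both
  have hmid : ∀ x y w, σ w x = y → (∃ z, R x z ∧ R z y) → R x w := by
    intro x y w hw ⟨z, hxz, hzy⟩
    let X := centralizer ({(β x : G), (β y : G)} : Set G)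
    have hX : ∀ i : G, i ∈ X ↔ Commute i (β x : G) ∧ Commute i (β y : G) := fun i => by
      simp only [X, mem_centralizer_iff, Set.mem_insert_iff, Set.mem_singleton_iff, forall_eq_or_imp, forall_eq]
      exact ⟨fun h => ⟨h.1.symm, h.2.symm⟩, fun h => ⟨h.1.symm, h.2.symm⟩⟩
    have hodd : Odd (Nat.card {z // R x z ∧ R z y}) := by
      convert S.odd_card_members (X := X) ⟨_, (β z).2.1, (hX _).2 ⟨hxz.symm, hzy⟩⟩ using 1
      refine (Nat.card_congr (Equiv.ofBijective (fun z : {z // R x z ∧ R z y} =>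
        (⟨β z.1, (hX _).2 ⟨z.2.1.symm, z.2.2⟩, (β z.1).2.1⟩ : {i : G // i ∈ X ∧ i ∈ Z}))
        ⟨fun p q e => Subtype.ext (hinj (Subtype.ext (congrArg (fun i => i.1) e))), ?_⟩))
      rintro ⟨i, hi, hiZ⟩
      obtain ⟨z, hz⟩ := hsurj ⟨i, hiZ, by
        obtain ⟨d, hd⟩ := S.exists_fix hiZ
        rwa [S.fix_unique (β x).2.1 (β x).2.2 (S.fix_of_commute hiZ hd ((hX i).1 hi).1.symm)]⟩
      have hz' : (β z : G) = i := congrArg Subtype.val hz
      exact ⟨⟨z, by show Commute (β x : G) (β z); rw [hz']; exact ((hX i).1 hi).1.symm,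
        by show Commute (β z : G) (β y); rw [hz']; exact ((hX i).1 hi).2⟩, Subtype.ext hz'⟩
    have hwy : σ w y = x := by rw [← hw, hσσ]
    let f : {z // R x z ∧ R z y} → {z // R x z ∧ R z y} := fun z => ⟨σ w z.1,
      by have := hσR w _ _ z.2.2.symm; rwa [hwy] at this,
      by have := hσR w _ _ z.2.1.symm; rwa [hw] at this⟩
    have h2 := card_modEq_two_fixed (f := f) fun z => Subtype.ext (hσσ w z.1)
    by_contra hne
    have : IsEmpty {z // f z = z} := ⟨fun z => hne ((hσfix w z.1.1).1 (congrArg Subtype.val z.2) ▸ z.1.2.1)⟩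
    rw [@Nat.card_of_isEmpty {z // f z = z}, Nat.ModEq, Nat.odd_iff.1 hodd] at h2
    omega
  -- commuting is contained in having a common partner, and the latter is not larger
  obtain ⟨x, hx⟩ := hsurj ⟨r, hr'⟩
  obtain ⟨z, hz⟩ := hsurj ⟨s, hs⟩
  obtain ⟨y, hy⟩ := hsurj ⟨t, ht⟩
  let T : Set ↥(zSwap Z c a) := {y | ∃ z, R x z ∧ R z y}
  let P : Set ↥(zSwap Z c a) := {y | R x y}
  have hsub : P ⊆ T := fun y hy => ⟨x, Commute.refl _, hy⟩
  have hmw : ∀ y, ∃ w, σ w x = y := fun y => by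
    obtain ⟨w, hw, hwx, -⟩ := S.exists_middle_swapper hca x.2 y.2
    exact ⟨⟨w, hw⟩, Subtype.ext hwx⟩
  choose μ hμ using hmw
  have hle : T.ncard ≤ P.ncard := by
    refine Set.ncard_le_ncard_of_injOn μ (fun y hy => hmid x y _ (hμ y) hy) ?_ (Set.toFinite P)
    intro y _ y' _ e
    rw [← hμ y, ← hμ y', e]
  have hTP : P = T := Set.eq_of_subset_of_ncard_le hsub hle (Set.toFinite T)
  have hR : ∀ {x y : ↥(zSwap Z c a)} {i j : G}, (β x : G) = i → (β y : G) = j → (R x y ↔ Commute i j) :=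
    fun h1 h2 => by subst h1 h2; exact Iff.rfl
  have hyT : y ∈ T := ⟨z, (hR (congrArg Subtype.val hx) (congrArg Subtype.val hz)).2 hrs,
    (hR (congrArg Subtype.val hz) (congrArg Subtype.val hy)).2 hst⟩
  rw [← hTP] at hyT
  exact (hR (congrArg Subtype.val hx) (congrArg Subtype.val hy)).1 hyT

end Hyp

end Cfsg.Agent.Invol.Aschbacher
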