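import Cfsg.Agent.Lib.Invol.Aschbacher.Middle
import Cfsg.Agent.Lib.Invol.Bender.Main

/-!
# Subgroups and the induction

The setting passes to the group generated by the members in a subgroup, so for a minimal counterexample every
involution of such a proper subgroup is a member; such a subgroup is a group of Bender's theorem on its centres.
-/

set_option autoImplicit false
set_option linter.unusedSectionVars false

namespace Cfsg.Agent.Invol.Aschbacher

open MulAction Subgroup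
open Cfsg.Agent.Invol.Bender (conj_smul_smul cen cenAct ker TwoRank Split pairStab mem_cen_smul mem_pair)

universe u v

variable {G : Type u} {Ω : Type v} [Group G] [MulAction G Ω] {Z : Set G}

/-- Every involution of `M` is a member. -/
def AllZ (Z : Set G) (M : Subgroup G) : Prop := ∀ r ∈ M, orderOf r = 2 → r ∈ Z

/-- The conclusion of the criterion. -/
def Goal (Z : Set G) : Prop := AllZ Z (Subgroup.closure Z)

/-- The inductive hypothesis: the criterion for all groups of smaller order. -/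
def Below (n : ℕ) : Prop :=
  ∀ (G : Type u) (Ω : Type v) [Group G] [Finite G] [MulAction G Ω] (Z : Set G),
    Nat.card G < n → Hyp G Ω Z → Goal Z

/-- The points of the members in `M`. -/
def zCen (Ω : Type v) [MulAction G Ω] (Z : Set G) (M : Subgroup G) : Set Ω :=
  {x | ∃ z ∈ Z, z ∈ M ∧ z • x = x}

theorem zCen_smul (hc : ∀ g : G, ∀ z ∈ Z, g * z * g⁻¹ ∈ Z) {M : Subgroup G} {g : G} (hg : g ∈ M) {x : Ω}
    (hx : x ∈ zCen Ω Z M) : g • x ∈ zCen Ω Z M := by
  obtain ⟨z, hz, hzM, hzx⟩ := hx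
  exact ⟨g * z * g⁻¹, hc g z hz, M.mul_mem (M.mul_mem hg hzM) (M.inv_mem hg), by rw [conj_smul_smul, hzx]⟩

namespace Hyp

variable (S : Hyp G Ω Z)
include S

/-- A subgroup acts on the points of its members. -/
def zAct (M : Subgroup G) : SubMulAction M Ω where
  carrier := zCen Ω Z M
  smul_mem' g _ hx := zCen_smul S.conj_mem g.2 hx

variable [Finite G]

/-- The setting passes to subgroups with two such points. -/
theorem sub {M : Subgroup G} (hM : (zCen Ω Z M).Nontrivial) :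
    Hyp M (S.zAct M) {z : M | (z : G) ∈ Z} where
  transitive := ⟨by
    rintro ⟨x, z, hz, hzM, hzx⟩ ⟨y, t, ht, htM, hty⟩
    rcases eq_or_ne x y with rfl | hxy
    · exact ⟨1, one_smul _ _⟩
    obtain ⟨m, -, hm, -, hmx⟩ := S.exists_swapper hz ht hzx hty hxy
    refine ⟨⟨m, (Subgroup.closure_le _).2 ?_ hm⟩, Subtype.ext hmx⟩
    rintro g (rfl | rfl)
    · exact hzM
    · exact htM⟩
  nontrivial := by
    obtain ⟨x, hx, y, hy, hxy⟩ := hM
    exact ⟨⟨x, hx⟩, ⟨y, hy⟩, fun e => hxy (congrArg Subtype.val e)⟩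
  nonempty := by
    obtain ⟨x, ⟨z, hz, hzM, -⟩, -⟩ := hM
    exact ⟨⟨z, hzM⟩, hz⟩
  invol z hz := by rw [← Subgroup.orderOf_coe]; exact S.invol _ hz
  unique_fix z hz := by
    obtain ⟨x, hx⟩ := S.exists_fix hz
    exact ⟨⟨x, z, hz, z.2, hx⟩, Subtype.ext hx,
      fun y hy => Subtype.ext (S.fix_unique hz (congrArg Subtype.val hy) hx)⟩
  conj_mem g z hz := by
    show ((g * z * g⁻¹ : M) : G) ∈ Z
    rw [Subgroup.coe_mul, Subgroup.coe_mul, Subgroup.coe_inv]
    exact S.conj_mem _ _ hz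
  notMem_lgen u hu huZ hmem := by
    rw [← Subgroup.orderOf_coe] at hu
    exact S.notMem_lgen _ hu huZ ((Subgroup.closure_le (lgen Z (u : G) |>.comap M.subtype)).2
      (fun z hz => mem_lgen hz.1 (hz.2.map M.subtype)) hmem)
  lgen_fix u hu huZ r hr hr2 x y hux huy hrx hry := by
    rw [← Subgroup.orderOf_coe] at hu hr2
    exact Subtype.ext (S.lgen_fix _ hu huZ _ ((Subgroup.closure_le (lgen Z (u : G) |>.comap M.subtype)).2
      (fun z hz => mem_lgen hz.1 (hz.2.map M.subtype)) hr) hr2 _ _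
      (congrArg Subtype.val hux) (congrArg Subtype.val huy) (congrArg Subtype.val hrx) (congrArg Subtype.val hry))

/-- By induction every involution of the group generated by the members in a proper subgroup is a member. -/
theorem allZ_closure_inter (hB : Below.{u, v} (Nat.card G)) {M : Subgroup G} (hM : (zCen Ω Z M).Nontrivial)
    (hne : M ≠ ⊤) : AllZ Z (Subgroup.closure {z | z ∈ Z ∧ z ∈ M}) := by
  intro r hr hr2
  have hlt : Nat.card M < Nat.card G :=
    lt_of_le_of_ne (Subgroup.card_le_card_group M) fun e => hne (Subgroup.eq_top_of_card_eq M e)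
  have hrM : r ∈ M := (Subgroup.closure_le _).2 (fun z hz => hz.2) hr
  have hmap : Subgroup.closure {z | z ∈ Z ∧ z ∈ M} ≤
      (Subgroup.closure {z : M | (z : G) ∈ Z}).map M.subtype := by
    rw [MonoidHom.map_closure]
    exact Subgroup.closure_mono fun z hz => ⟨⟨z, hz.2⟩, hz.1, rfl⟩
  obtain ⟨⟨r', hr'M⟩, hr', rfl⟩ := hmap hr
  exact hB M (S.zAct M) _ hlt (S.sub hM) ⟨r', hr'M⟩ hr' (by rw [← Subgroup.orderOf_coe]; exact hr2)

theorem zCen_eq_cen {M : Subgroup G} (hM : AllZ Z M) : zCen Ω Z M = cen Ω M := by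
  ext x
  exact ⟨fun ⟨z, hz, hzM, hzx⟩ => ⟨z, hzM, S.invol z hz, hzx⟩,
    fun ⟨i, hiM, hi, hix⟩ => ⟨i, hM i hiM hi, hiM, hix⟩⟩

/-- The centres of the group of an involution outside `Z` are its fixed points. -/
theorem zCen_lgen {u : G} (hu : orderOf u = 2) : zCen Ω Z (lgen Z u) = {x | u • x = x} := by
  ext x
  constructor
  · rintro ⟨z, hz, hzL, hzx⟩
    exact S.fix_of_commute hz hzx (commute_of_mem_lgen hzL).symm
  · intro hx
    obtain ⟨z, ⟨hz, hzx⟩, hzu⟩ := S.exists_partner_invol hu hx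
    exact ⟨z, hz, mem_lgen hz hzu, hzx⟩

/-- By induction every involution of the group of an involution outside `Z` is a member. -/
theorem allZ_lgen (hB : Below.{u, v} (Nat.card G)) {u : G} (hu : orderOf u = 2) (huZ : u ∉ Z)
    (hF : {x : Ω | u • x = x}.Nontrivial) : AllZ Z (lgen Z u) := by
  have hne : lgen Z u ≠ ⊤ := fun h => S.notMem_lgen u hu huZ (h ▸ Subgroup.mem_top u)
  intro r hr hr2
  refine S.allZ_closure_inter hB (M := lgen Z u) (by rw [S.zCen_lgen hu]; exact hF) hne r ?_ hr2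
  exact Subgroup.closure_mono (fun z hz => (⟨hz.1, mem_lgen hz.1 hz.2⟩ : z ∈ Z ∧ z ∈ lgen Z u)) hr

/-- A subgroup whose involutions are members acts on its centres as a group of Bender's theorem. -/
theorem benderHyp {M : Subgroup G} (hM : AllZ Z M) (hcen : (cen Ω M).Nontrivial) :
    Bender.Hyp M (cenAct Ω M) where
  transitive := ⟨by
    rintro ⟨x, i, hiM, hi, hix⟩ ⟨y, s, hsM, hs, hsy⟩
    rcases eq_or_ne x y with rfl | hxy
    · exact ⟨1, one_smul _ _⟩
    obtain ⟨m, -, hm, -, hmx⟩ := S.exists_swapper (hM i hiM hi) (hM s hsM hs) hix hsy hxy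
    refine ⟨⟨m, (Subgroup.closure_le _).2 ?_ hm⟩, Subtype.ext hmx⟩
    rintro g (rfl | rfl)
    · exact hiM
    · exact hsM⟩
  nontrivial := by
    obtain ⟨x, hx, y, hy, hxy⟩ := hcen
    exact ⟨⟨x, hx⟩, ⟨y, hy⟩, fun e => hxy (congrArg Subtype.val e)⟩
  exists_inv := by
    obtain ⟨x, ⟨i, hiM, hi, -⟩, -⟩ := hcen
    exact ⟨⟨i, hiM⟩, by rw [← Subgroup.orderOf_coe]; exact hi⟩
  unique_fix i hi := by
    rw [← Subgroup.orderOf_coe] at hi
    obtain ⟨x, hx⟩ := S.exists_fix (hM i i.2 hi)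
    exact ⟨⟨x, i, i.2, hi, hx⟩, Subtype.ext hx,
      fun y hy => Subtype.ext (S.fix_unique (hM i i.2 hi) (congrArg Subtype.val hy) hx)⟩

/-- In such a subgroup the stabiliser of two points has odd order. -/
theorem odd_inf_pair {M : Subgroup G} (hM : AllZ Z M) {x y : Ω} (hxy : x ≠ y) :
    Odd (Nat.card ↥(M ⊓ pairStab G x y)) := by
  refine Nat.not_even_iff_odd.1 fun he => ?_
  haveI : Fact (Nat.Prime 2) := ⟨Nat.prime_two⟩
  obtain ⟨t, ht⟩ := exists_prime_orderOf_dvd_card' (G := ↥(M ⊓ pairStab G x y)) 2 (even_iff_two_dvd.1 he)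
  obtain ⟨htM, htD⟩ := Subgroup.mem_inf.1 t.2
  exact hxy (S.fix_unique (hM t htM ((orderOf_coe t).trans ht)) (mem_pair.1 htD).1 (mem_pair.1 htD).2)

end Hyp

/-- Bender's theorem for a subgroup whose involutions are members. -/
theorem Hyp.split {G Ω : Type u} [Group G] [Finite G] [MulAction G Ω] {Z : Set G} (S : Hyp G Ω Z)
    {M : Subgroup G} (hM : AllZ Z M) (hcen : (cen Ω M).Nontrivial) (h2 : TwoRank M) : Split Ω M := by
  have U := S.benderHyp hM hcen
  have h := Bender.main U (Bender.twoRank_top h2)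
  have htop : ∀ x : cenAct Ω M, x ∈ cen (cenAct Ω M) (⊤ : Subgroup M) := by
    rintro ⟨x, i, hiM, hi, hix⟩
    exact ⟨⟨i, hiM⟩, Subgroup.mem_top _, by rw [← Subgroup.orderOf_coe]; exact hi, Subtype.ext hix⟩
  intro d hd
  obtain ⟨Q, hQ⟩ := h ⟨d, hd⟩ (htop _)
  obtain ⟨Q', hQ'⟩ : ∃ Q' : Subgroup G, Q' = Q.map M.subtype := ⟨_, rfl⟩
  have hker : ∀ g : M, g ∈ ker (cenAct Ω M) (⊤ : Subgroup M) ↔ (g : G) ∈ ker Ω M := fun g => by
    rw [Bender.mem_ker, Bender.mem_ker]
    exact ⟨fun h => ⟨g.2, fun x hx => congrArg Subtype.val (h.2 ⟨x, hx⟩ (htop _))⟩,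
      fun h => ⟨Subgroup.mem_top g, fun x _ => Subtype.ext (h.2 x.1 x.2)⟩⟩
  have hkmap : (ker (cenAct Ω M) (⊤ : Subgroup M)).map M.subtype = ker Ω M := by
    ext g
    constructor
    · rintro ⟨g, hg, rfl⟩; exact (hker g).1 hg
    · exact fun hg => ⟨⟨g, Bender.ker_le hg⟩, (hker _).2 hg, rfl⟩
  have hcard : ∀ A : Subgroup M, Nat.card (A.map M.subtype) = Nat.card A := fun A =>
    (Nat.card_congr (A.equivMapOfInjective M.subtype M.subtype_injective).toEquiv).symm
  refine ⟨Q', hkmap ▸ hQ' ▸ Subgroup.map_mono hQ.ker_le, ?_, ?_, ?_, ?_, ?_, ?_⟩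
  · intro g hg
    rw [hQ'] at hg
    obtain ⟨g, hg, rfl⟩ := hg
    exact ⟨g.2, congrArg Subtype.val (mem_stabilizer_iff.1 (hQ.le hg).2)⟩
  · rintro g ⟨hgM, hgd⟩ x hx
    rw [hQ'] at hx ⊢
    obtain ⟨x, hx, rfl⟩ := hx
    exact ⟨⟨g, hgM⟩ * x * ⟨g, hgM⟩⁻¹,
      hQ.conj_mem _ ⟨Subgroup.mem_top _, Subtype.ext (mem_stabilizer_iff.1 hgd)⟩ x hx, rfl⟩
  · obtain ⟨k, hk⟩ := hQ.two_index
    exact ⟨k, by rw [hQ', hcard, hk, ← hkmap, hcard]⟩
  · intro e he hed f hf hfd
    obtain ⟨q, hq, hqe⟩ := hQ.exists_move ⟨e, he⟩ (htop _) (fun h => hed (congrArg Subtype.val h))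
      ⟨f, hf⟩ (htop _) (fun h => hfd (congrArg Subtype.val h))
    exact ⟨q, hQ' ▸ ⟨q, hq, rfl⟩, congrArg Subtype.val hqe⟩
  · rintro e he hed g ⟨hg, hge⟩
    rw [hQ'] at hg
    obtain ⟨g, hg, rfl⟩ := hg
    rw [← hkmap]
    exact ⟨g, hQ.inf_le ⟨e, he⟩ (htop _) (fun h => hed (congrArg Subtype.val h)) ⟨hg, Subtype.ext hge⟩, rfl⟩
  · exact fun e _ hed => S.odd_inf_pair hM (Ne.symm hed)

end Cfsg.Agent.Invol.Aschbacher
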