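import Cfsg.Agent.Lib.Invol.Aschbacher.ProperPair
import Cfsg.Agent.Lib.Invol.Aschbacher.Parity
import Cfsg.Agent.Lib.Invol.Aschbacher.Sub
import Cfsg.Agent.Lib.Invol.Bender.Conj

/-!
# A swapper's centraliser is a member's

If real elements fix one point, a group of odd order in a pair stabiliser centralising a swapper centralises a member
at each point of the pair.  For a prime power order a largest exception would give invariant `p`-groups fixing
points with and without such a member; in general one climbs through the centralisers of a chain of subgroups.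
-/

set_option autoImplicit false
set_option linter.unusedSectionVars false

namespace Cfsg.Agent.Invol.Aschbacher

open MulAction Subgroup
open Cfsg.Agent.Invol.Bender (conj_smul_smul swap_symm pairStab mem_pair exists_larger IsReal
  conj_mem_of_normalizer conj_mem_of_normalizer')
open scoped Pointwise

universe u v

variable {G : Type u} [Group G] [Finite G] {Ω : Type v} [MulAction G Ω] {Z : Set G}

/-- `K` centralises a member at `y`. -/
def Good (Z : Set G) (K : Subgroup G) (y : Ω) : Prop := ∃ t ∈ zAt Z y, ∀ k ∈ K, Commute k t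

/-- A `p`-group has as many fixed points as elements on a set it normalises, modulo `p`. -/
theorem card_modEq_centralised {p : ℕ} [Fact p.Prime] {K : Subgroup G} (hK : IsPGroup p K) (T : Set G)
    (hT : ∀ k ∈ K, ∀ t ∈ T, k * t * k⁻¹ ∈ T) :
    Nat.card T ≡ Nat.card {t : G | t ∈ T ∧ ∀ k ∈ K, Commute k t} [MOD p] := by
  let _ : MulAction K T :=
    { smul := fun k t => ⟨(k : G) * t * (k : G)⁻¹, hT k k.2 t t.2⟩
      one_smul := fun t => Subtype.ext (by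
        show (1 : G) * t * (1 : G)⁻¹ = t
        simp)
      mul_smul := fun k l t => Subtype.ext (by
        show ((k * l : K) : G) * t * ((k * l : K) : G)⁻¹ = (k : G) * ((l : G) * t * (l : G)⁻¹) * (k : G)⁻¹
        rw [Subgroup.coe_mul]; group) }
  have h := hK.card_modEq_card_fixedPoints T
  refine h.trans (Bender.modEq_of_eq (Nat.card_congr
    { toFun := fun t => ⟨(t.1 : G), t.1.2, fun k hk =>
        mul_inv_eq_iff_eq_mul.1 (congrArg Subtype.val (t.2 ⟨k, hk⟩))⟩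
      invFun := fun t => ⟨⟨t.1, t.2.1⟩, fun k => Subtype.ext (mul_inv_eq_iff_eq_mul.2 (t.2.2 k k.2))⟩
      left_inv := fun _ => rfl
      right_inv := fun _ => rfl }))

/-- An invariant `p`-group with a real element, above a group centralising the swapper, fixing a point at which that
group centralises no member and one at which it does. -/
structure Mixed (Z : Set G) (Ω : Type v) [MulAction G Ω] (p : ℕ) (v : G) (K W : Subgroup G) : Prop where
  pgroup : IsPGroup p W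
  norm : v ∈ normalizer (W : Set G)
  le : K ≤ W
  exists_real : ∃ j ∈ W, IsReal v j
  bad : ∃ y : Ω, W ≤ stabilizer G y ∧ ¬ Good Z K y
  good : ∃ h : Ω, W ≤ stabilizer G h ∧ Good Z K h

namespace Hyp

variable (S : Hyp G Ω Z)
include S

/-- Real elements of a subgroup fix one of its points. -/
theorem realFree_sub (hF : RealFree Z Ω) (M : Subgroup G) :
    RealFree {z : M | (z : G) ∈ Z} (S.zAct M) := fun u j d g hu hj hodd hjd hgd hjg =>
  hF (u : G) (j : G) (d : Ω) (g : Ω) ⟨hu.1, congrArg Subtype.val hu.2⟩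
    ⟨congrArg Subtype.val hj.1, fun e => hj.2 (Subtype.ext e)⟩ (by rw [Subgroup.orderOf_coe]; exact hodd)
    (congrArg Subtype.val hjd) (fun e => hgd (Subtype.ext e)) (congrArg Subtype.val hjg)

variable {p : ℕ} [hp : Fact p.Prime]

/-- Such a mixed group does not exist. -/
theorem not_mixed (hp2 : p ≠ 2) (hF : RealFree Z Ω) (hdvd : ∀ d : Ω, p ∣ Nat.card ↥(zAt Z d)) {v : G} {e : Ω}
    (hv : v ∈ zAt Z e) {K : Subgroup G} (hvK : ∀ k ∈ K, Commute k v)
    (hmax : ∀ (y : Ω) (K' : Subgroup G), v • y ≠ y → IsPGroup p K' → K' ≤ pairStab G y (v • y) →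
      (∀ k ∈ K', Commute k v) → K < K' → Good Z K' y) (W : Subgroup G) : ¬ Mixed Z Ω p v K W := by
  classical
  haveI := S.finite_points
  intro hW₀
  obtain ⟨W, hW, hWmax⟩ := Set.exists_max_image {W : Subgroup G | Mixed Z Ω p v K W} (fun W => Nat.card W)
    (Set.toFinite _) ⟨W, hW₀⟩
  clear hW₀
  obtain ⟨y, hWy, hy⟩ := hW.bad
  obtain ⟨h, hWh, hh⟩ := hW.good
  have hv2 := S.invol v hv.1
  have hM := S.centreMoved hF hp2 (hdvd e)
  have hgood_e : Good Z K e := ⟨v, hv, hvK⟩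
  have hgood_swap : ∀ z : Ω, Good Z K z → Good Z K (v • z) := fun z ⟨t, ht, htK⟩ => by
    refine ⟨v * t * v⁻¹, S.zAt_conj ht, fun k hk => ?_⟩
    have h1 := (htK k hk).conj v
    rwa [show v * k * v⁻¹ = k by rw [← (hvK k hk).eq, mul_inv_cancel_right]] at h1
  have hodd := QOdd.odd_of_isPGroup hp2 hW.pgroup
  have hye : y ≠ e := fun e' => hy (e' ▸ hgood_e)
  have hWe : ¬ W ≤ stabilizer G e := by
    intro hle
    obtain ⟨j, hjW, hj⟩ := hW.exists_real
    exact hF v j e y hv hj (hodd.of_dvd_nat (Subgroup.orderOf_dvd_natCard _ hjW))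
      (mem_stabilizer_iff.1 (hle hjW)) hye (mem_stabilizer_iff.1 (hWy hjW))
  have hhe : h ≠ e := fun e' => hWe (e' ▸ hWh)
  have hvy : v • y ≠ y := S.smul_ne_of_fix hv hye
  have hvh : v • h ≠ h := S.smul_ne_of_fix hv hhe
  -- the centraliser of the swapper in the group
  have hWK : ∀ {g : G}, g ∈ W → Commute g v → g ∈ K := by
    intro g hg hgv
    obtain ⟨K', hK'⟩ : ∃ K', K' = W ⊓ centralizer ({v} : Set G) := ⟨_, rfl⟩
    have hgK' : g ∈ K' := hK' ▸ ⟨hg, mem_centralizer_singleton_iff.2 hgv.eq⟩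
    have hKK' : K ≤ K' := hK' ▸ le_inf hW.le fun k hk => mem_centralizer_singleton_iff.2 (hvK k hk).eq
    rcases eq_or_lt_of_le hKK' with he | hlt
    · exact he ▸ hgK'
    obtain ⟨t, ht, htK⟩ := hmax y K' hvy (hW.pgroup.to_le (hK' ▸ inf_le_left))
      ((hK' ▸ inf_le_left : K' ≤ W).trans (le_inf hWy (smul_fixed hW.norm hWy)))
      (fun k hk => mem_centralizer_singleton_iff.1 (hK' ▸ hk : k ∈ W ⊓ centralizer ({v} : Set G)).2) hlt
    exact absurd ⟨t, ht, fun k hk => htK k (hlt.le hk)⟩ hy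
  obtain ⟨N, hN⟩ : ∃ N, N = normalizer (W : Set G) := ⟨_, rfl⟩
  have hvN : v ∈ N := hN ▸ hW.norm
  have hiso : OddConj v N := by
    refine oddConj_of_no_four S hv.1 hvN fun r hr t ht hrZ htZ hrt => ?_
    by_contra hne
    rw [hN] at hr ht
    obtain ⟨f, hf⟩ := S.exists_fix hrZ
    have hWf : W ≤ stabilizer G f := S.le_stabilizer_of_four hodd ⟨hrZ, hf⟩ htZ hne hrt hr ht
    rcases eq_or_ne f e with rfl | hfe
    · exact hWe hWf
    obtain ⟨c, hc, -, hce⟩ := S.exists_conj_point (M := normalizer (W : Set G)) ⟨hrZ, hf⟩ hv hfe hr hW.norm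
    exact hWe (hce ▸ smul_fixed hc hWf)
  have hvNn : v ∈ normalizer (N : Set G) := le_normalizer hvN
  -- above the group a Sylow subgroup of the normaliser keeps to one kind of point
  have hstep : ∀ (x x' : Ω), W ≤ stabilizer G x → v • x ≠ x → W ≤ stabilizer G x' → x' ≠ x → x' ≠ v • x →
      ∃ V Q : Subgroup G, W < V ∧ V ≤ Q ∧ V ≤ stabilizer G x ∧ IsPGroup p V ∧
        v ∈ normalizer (V : Set G) ∧ Grp.IsSylowIn p Q N ∧ v ∈ normalizer (Q : Set G) := by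
    intro x x' hWx hvx hWx' hne hne'
    obtain ⟨U, hU, hvU, hWU⟩ := QOdd.exists_sylow_ge hp2 hv2 (S.pair_norm hv.1 x) (S.pair_oddConj hv.1 hvx)
      (le_inf hWx (smul_fixed hW.norm hWx)) hW.pgroup hW.norm
    have hnot : ¬ Grp.IsSylowIn p W U := fun hs => by
      have he : W = U := hs.eq_of_le hWU le_rfl hU.2.1
      rcases S.full_fix_two hp2 hM (S.full_sylow hp2 hv.1 hvx hU hvU) (he ▸ hWx' : U ≤ stabilizer G x') with h1 | h1
      exacts [hne h1, hne' h1]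
    obtain ⟨V', hV', hV'U, -, hV'N⟩ := exists_larger hW.pgroup hWU hnot
    obtain ⟨V, hVdef⟩ : ∃ V, V = U ⊓ N := ⟨_, rfl⟩
    have hlt : W < V := lt_of_lt_of_le hV' (hVdef ▸ le_inf hV'U (hN ▸ hV'N))
    have hVU : V ≤ U := hVdef ▸ inf_le_left
    have hvV : v ∈ normalizer (V : Set G) := mem_normalizer_fintype fun g hg => by
      rw [hVdef] at hg ⊢
      exact ⟨conj_mem_of_normalizer hvU hg.1, conj_mem_of_normalizer hvNn hg.2⟩
    obtain ⟨Q, hQ, hvQ, hVQ⟩ := QOdd.exists_sylow_ge hp2 hv2 hvNn hiso (hVdef ▸ inf_le_right : V ≤ N)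
      (hU.2.1.to_le hVU) hvV
    exact ⟨V, Q, hlt, hVQ, hVU.trans (hU.1.trans inf_le_left), hU.2.1.to_le hVU, hvV, hQ, hvQ⟩
  obtain ⟨V₁, Q₁, hlt₁, hV₁Q, hV₁y, hV₁p, hvV₁, hQ₁, hvQ₁⟩ := hstep y h hWy hvy hWh (fun e' => hy (e' ▸ hh))
    (fun e' => hy (by have := hgood_swap h hh; rwa [e', swap_symm hv2 rfl] at this))
  obtain ⟨V₂, Q₂, hlt₂, hV₂Q, hV₂h, hV₂p, hvV₂, hQ₂, hvQ₂⟩ := hstep h y hWh hvh hWy (fun e' => hy (e' ▸ hh))
    (fun e' => hy (e' ▸ hgood_swap h hh))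
  obtain ⟨j, hjW, hj⟩ := hW.exists_real
  have h₁ : ∀ x : Ω, Q₁ ≤ stabilizer G x → ¬ Good Z K x := fun x hx hgx => hlt₁.ne
    (Subgroup.eq_of_le_of_card_ge hlt₁.le (hWmax V₁ ⟨hV₁p, hvV₁, hW.le.trans hlt₁.le, ⟨j, hlt₁.le hjW, hj⟩,
      ⟨y, hV₁y, hy⟩, ⟨x, hV₁Q.trans hx, hgx⟩⟩))
  have h₂ : ∀ x : Ω, Q₂ ≤ stabilizer G x → Good Z K x := fun x hx => by
    by_contra hgx
    exact hlt₂.ne (Subgroup.eq_of_le_of_card_ge hlt₂.le (hWmax V₂ ⟨hV₂p, hvV₂, hW.le.trans hlt₂.le,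
      ⟨j, hlt₂.le hjW, hj⟩, ⟨x, hV₂Q.trans hx, hgx⟩, ⟨h, hV₂h, hh⟩⟩))
  obtain ⟨g, hgQ⟩ := S.exists_fixed hp2 hM hQ₂.2.1
  obtain ⟨c, hcN, hcv, hcQ⟩ := QOdd.sylow_conj hp2 hv2 hvNn hiso hQ₂ hQ₁ hvQ₂ hvQ₁
  have hcW : c ∈ normalizer (W : Set G) := hN ▸ hcN
  refine h₁ (c • g) ?_ ?_
  · rw [← hcQ]
    rintro _ ⟨z, hz, rfl⟩
    refine mem_stabilizer_iff.2 ?_
    show (c * z * c⁻¹) • c • g = c • g
    rw [conj_smul_smul, mem_stabilizer_iff.1 (hgQ hz)]
  · obtain ⟨t, ht, htK⟩ := h₂ g hgQ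
    refine ⟨c * t * c⁻¹, S.zAt_conj ht, fun k hk => ?_⟩
    have hk' : c⁻¹ * k * c ∈ K := hWK (conj_mem_of_normalizer' hcW (hW.le hk)) (by
      have h3 := (hvK k hk).conj c⁻¹
      have h4 : c⁻¹ * v * c⁻¹⁻¹ = v := by
        rw [inv_inv, mul_assoc, ← hcv.eq, inv_mul_cancel_left]
      rwa [h4, inv_inv] at h3)
    have h5 := (htK _ hk').conj c
    rwa [show c * (c⁻¹ * k * c) * c⁻¹ = k by group] at h5

/-- A `p`-group in a pair stabiliser centralising a swapper centralises a member at the first point. -/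
theorem good_pgroup (hp2 : p ≠ 2) (hF : RealFree Z Ω) {c a : Ω} (hca : c ≠ a) {v : G} (hv : v ∈ zSwap Z c a)
    {K : Subgroup G} (hKp : IsPGroup p K) (hKD : K ≤ pairStab G c a) (hKv : ∀ k ∈ K, Commute k v) :
    Good Z K c := by
  classical
  haveI := S.finite_points
  by_contra hcon
  obtain ⟨⟨c, a, v, K⟩, ⟨hca, hv, hKp, hKD, hKv, hfail⟩, hmax⟩ := Set.exists_max_image
    {t : Ω × Ω × G × Subgroup G | t.1 ≠ t.2.1 ∧ t.2.2.1 ∈ zSwap Z t.1 t.2.1 ∧ IsPGroup p t.2.2.2 ∧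
      t.2.2.2 ≤ pairStab G t.1 t.2.1 ∧ (∀ k ∈ t.2.2.2, Commute k t.2.2.1) ∧ ¬ Good Z t.2.2.2 t.1}
    (fun t => Nat.card t.2.2.2) (Set.toFinite _) ⟨(c, a, v, K), hca, hv, hKp, hKD, hKv, hcon⟩
  dsimp only at hca hv hKp hKD hKv hfail hmax
  clear hcon
  have hv2 := S.invol v hv.1
  obtain ⟨e, hve⟩ := S.exists_fix hv.1
  have hvc : v • c ≠ c := by rw [hv.2]; exact hca.symm
  have hec : c ≠ e := fun h => hvc (h.symm ▸ hve)
  have hKe : ∀ k ∈ K, k • e = e := fun k hk => S.fix_of_commute hv.1 hve (hKv k hk)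
  have hfixT : ∀ (x : Ω), (∀ k ∈ K, k • x = x) → ∀ k ∈ K, ∀ t ∈ zAt Z x, k * t * k⁻¹ ∈ zAt Z x :=
    fun x hx k hk t ht => by
      have := S.zAt_conj (g := k) ht
      rwa [hx k hk] at this
  have hm : p ∣ Nat.card ↥(zAt Z c) := by
    refine Nat.modEq_zero_iff_dvd.1 ((card_modEq_centralised hKp _
      (hfixT c fun k hk => (mem_pair.1 (hKD hk)).1)).trans (Bender.modEq_of_eq ?_))
    haveI : IsEmpty ↥{t : G | t ∈ zAt Z c ∧ ∀ k ∈ K, Commute k t} := ⟨fun t => hfail ⟨t, t.2.1, t.2.2⟩⟩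
    exact Nat.card_of_isEmpty
  have hdvd : ∀ d : Ω, p ∣ Nat.card ↥(zAt Z d) := fun d => S.card_zAt c d ▸ hm
  have hfixe : p ∣ Nat.card ↥{t : G | t ∈ zAt Z e ∧ ∀ k ∈ K, Commute k t} :=
    Nat.modEq_zero_iff_dvd.1 ((card_modEq_centralised hKp _ (hfixT e hKe)).symm.trans
      (Nat.modEq_zero_iff_dvd.2 (hdvd e)))
  obtain ⟨T, hT⟩ : ∃ T, T = {t : G | t ∈ zSwap Z c a ∧ ∀ k ∈ K, Commute k t} := ⟨_, rfl⟩
  have hTdvd : p ∣ Nat.card ↥T := by
    subst hT
    refine Nat.modEq_zero_iff_dvd.1 ((card_modEq_centralised hKp _ fun k hk t ht => ?_).symm.trans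
      (Nat.modEq_zero_iff_dvd.2 (S.card_zSwap hca ▸ hm)))
    obtain ⟨h1, h2⟩ := mem_pair.1 (hKD hk)
    refine ⟨S.conj_mem k t ht.1, ?_⟩
    conv_lhs => rw [← h1]
    rw [conj_smul_smul, ht.2, h2]
  have hvT : v ∈ T := hT ▸ ⟨hv, hKv⟩
  obtain ⟨u, huT, huv⟩ : ∃ u ∈ T, u ≠ v := by
    by_contra hc
    push Not at hc
    haveI : Subsingleton ↥T := ⟨fun x y => Subtype.ext ((hc x x.2).trans (hc y y.2).symm)⟩
    haveI : Nonempty ↥T := ⟨⟨v, hvT⟩⟩
    have h1 : Nat.card ↥T = 1 := Nat.card_eq_one_iff_unique.2 ⟨inferInstance, inferInstance⟩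
    exact hp.out.one_lt.ne' (Nat.dvd_one.1 (h1 ▸ hTdvd))
  rw [hT] at huT
  obtain ⟨f, huf⟩ := S.exists_fix huT.1.1
  have hef : e ≠ f := by
    rintro rfl
    have hu2 := S.invol u huT.1.1
    refine hF v (v * u) e c ⟨hv.1, hve⟩ ⟨?_, fun h => huv ?_⟩ (S.odd_swap_mul hca hv huT.1) ?_ hec ?_
    · rw [← mul_assoc, mul_self_of_orderOf_two hv2, one_mul, mul_inv_rev, inv_of_orderOf_two hu2]
    · rw [← inv_of_orderOf_two hv2]; exact eq_inv_of_mul_eq_one_right h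
    · rw [mul_smul, huf, hve]
    · rw [mul_smul, huT.1.2, swap_symm hv2 hv.2]
  -- the centraliser, acting on its points
  obtain ⟨Y, hY⟩ : ∃ Y, Y = centralizer (K : Set G) := ⟨_, rfl⟩
  have hmemY : ∀ {g : G}, g ∈ Y ↔ ∀ k ∈ K, Commute k g := fun {g} => by
    rw [hY, mem_centralizer_iff]; exact ⟨fun h k hk => h k hk, fun h k hk => h k hk⟩
  have hvY : v ∈ Y := hmemY.2 hKv
  have heY : e ∈ zCen Ω Z Y := ⟨v, hv.1, hvY, hve⟩
  have S' := S.sub (M := Y) ⟨e, heY, f, ⟨u, huT.1.1, hmemY.2 huT.2, huf⟩, hef⟩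
  have hM' : CentreMoved (S.zAct Y) {z : Y | (z : G) ∈ Z} p := by
    refine S'.centreMoved (S.realFree_sub hF Y) hp2 (d := ⟨e, heY⟩) ?_
    refine hfixe.trans (dvd_of_eq (Nat.card_congr
      { toFun := fun t => ⟨⟨t.1, hmemY.2 t.2.2⟩, t.2.1.1, Subtype.ext t.2.1.2⟩
        invFun := fun t => ⟨(t.1 : G), ⟨t.2.1, congrArg Subtype.val t.2.2⟩, hmemY.1 t.1.2⟩
        left_inv := fun _ => rfl
        right_inv := fun _ => rfl }))
  -- an invariant Sylow subgroup of the pair in the centraliser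
  obtain ⟨D, hD⟩ : ∃ D, D = Y ⊓ pairStab G c a := ⟨_, rfl⟩
  have hvD : v ∈ normalizer (D : Set G) := mem_normalizer_fintype fun g hg => by
    rw [hD] at hg ⊢
    refine ⟨Y.mul_mem (Y.mul_mem hvY hg.1) (Y.inv_mem hvY), ?_⟩
    have h1 := S.pair_norm hv.1 c
    rw [hv.2] at h1
    exact conj_mem_of_normalizer h1 hg.2
  have hDD : D ≤ pairStab G c (v • c) := hD ▸ hv.2.symm ▸ inf_le_right
  have hisoD : OddConj v D := (S.pair_oddConj hv.1 hvc).mono hDD
  obtain ⟨L, hL, hvL⟩ := exists_invariant_sylow (p := p) hv2 hvD hisoD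
  have himg : (fun x => x * v * x⁻¹) '' (D : Set G) = T := by
    refine Set.Subset.antisymm ?_ fun t ht => ?_
    · rintro _ ⟨x, hx, rfl⟩
      rw [hD] at hx
      obtain ⟨hx1, hx2⟩ := mem_pair.1 hx.2
      refine hT ▸ ⟨⟨S.conj_mem x v hv.1, ?_⟩,
        hmemY.1 (Y.mul_mem (Y.mul_mem hx.1 hvY) (Y.inv_mem hx.1))⟩
      show (x * v * x⁻¹) • c = a
      conv_lhs => rw [← hx1]
      rw [conj_smul_smul, hv.2, hx2]
    · rw [hT] at ht
      have hvt : v * t ∈ D := hD ▸ ⟨Y.mul_mem hvY (hmemY.2 ht.2), mem_pair.2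
        ⟨by rw [mul_smul, ht.1.2, swap_symm hv2 hv.2],
          by rw [mul_smul, swap_symm (S.invol t ht.1.1) ht.1.2, hv.2]⟩⟩
      obtain ⟨k, hk, hkt⟩ := Bender.Cor.exists_conj_of_odd hv2 (S.invol t ht.1.1) (S.odd_swap_mul hca hv ht.1)
      exact ⟨k, Subgroup.zpowers_le.2 hvt hk, hkt⟩
  have hJ : 1 < Nat.card ↥(Bender.invertedBy v L) := by
    rw [QOdd.card_inverted hp2 hv2 hvD hisoD hL hvL, himg]
    haveI : Nonempty ↥T := ⟨⟨v, hvT⟩⟩
    exact Nat.one_lt_pow (Nat.pos_iff_ne_zero.1 (hp.out.factorization_pos_of_dvd Nat.card_pos.ne' hTdvd))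
      hp.out.one_lt
  haveI : Nontrivial ↥(Bender.invertedBy v L) := Finite.one_lt_card_iff_nontrivial.1 hJ
  obtain ⟨⟨j, hjL, hj⟩, hne⟩ := exists_ne (⟨1, L.one_mem, by simp⟩ : ↥(Bender.invertedBy v L))
  have hLY : L ≤ Y := hL.1.trans (hD ▸ inf_le_left)
  obtain ⟨⟨h, hhY⟩, hLh⟩ := S'.exists_fixed hp2 hM'
    (V := L.subgroupOf Y) (hL.2.1.of_equiv (subgroupOfEquivOfLe hLY).symm)
  obtain ⟨t, htZ, htY, hth⟩ := hhY
  have hKh : ∀ k ∈ K, k • h = h := fun k hk => S.fix_of_commute htZ hth (hmemY.1 htY k hk)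
  refine S.not_mixed hp2 hF hdvd ⟨hv.1, hve⟩ hKv (fun y K' hvy hK'p hK'D hK'v hlt => ?_) (K ⊔ L) ⟨?_, ?_,
    le_sup_left, ⟨j, mem_sup_right hjL, hj, fun e' => hne (Subtype.ext e')⟩, ⟨c, ?_, hfail⟩,
    ⟨h, ?_, t, ⟨htZ, hth⟩, hmemY.1 htY⟩⟩
  · by_contra hbad
    exact hlt.ne (Subgroup.eq_of_le_of_card_ge hlt.le
      (hmax (y, v • y, v, K') ⟨hvy.symm, ⟨hv.1, rfl⟩, hK'p, hK'D, hK'v, hbad⟩))
  · exact hKp.to_sup_of_normal_left' hL.2.1 fun l hl => mem_normalizer_fintype fun k hk => by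
      rw [← (hmemY.1 (hLY hl) k hk).eq, mul_inv_cancel_right]; exact hk
  · refine mem_normalizer_fintype fun g hg => ?_
    have hle : K ⊔ L ≤ (K ⊔ L).comap (MulAut.conj v).toMonoidHom := sup_le
      (fun k hk => mem_sup_left (show v * k * v⁻¹ ∈ K by rwa [← (hKv k hk).eq, mul_inv_cancel_right]))
      fun l hl => mem_sup_right (conj_mem_of_normalizer hvL hl)
    exact hle hg
  · exact sup_le (hKD.trans inf_le_left) (hL.1.trans (hD ▸ inf_le_right.trans inf_le_left))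
  · exact sup_le (fun k hk => mem_stabilizer_iff.2 (hKh k hk)) fun l hl =>
      mem_stabilizer_iff.2 (congrArg Subtype.val (mem_stabilizer_iff.1 (hLh (x := ⟨l, hLY hl⟩) hl)))

omit hp in
/-- A group of odd order in a pair stabiliser centralising a swapper centralises a member at the first point. -/
theorem good_odd (hF : RealFree Z Ω) {c a : Ω} (hca : c ≠ a) {v : G} (hv : v ∈ zSwap Z c a) :
    ∀ (n : ℕ) (K : Subgroup G), Nat.card K = n → Odd (Nat.card K) → K ≤ pairStab G c a →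
      (∀ k ∈ K, Commute k v) → Good Z K c := by
  intro n
  induction n using Nat.strong_induction_on with
  | _ n ih =>
  intro K hn hodd hKD hKv
  by_cases hbot : K = ⊥
  · obtain ⟨t, ht⟩ := S.zAt_nonempty c
    refine ⟨t, ht, fun k hk => ?_⟩
    rw [hbot, mem_bot] at hk
    rw [hk]
    exact Commute.one_left t
  obtain ⟨l, K1, x, hl, hK1, hxK, hxl, hsup, hxn⟩ := Bender.exists_prime_step hbot hodd
  haveI := Fact.mk hl
  obtain ⟨t₁, ht₁, ht₁K⟩ := ih _ (by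
    rw [← hn]
    exact lt_of_le_of_ne (Nat.le_of_dvd Nat.card_pos (card_dvd_of_le hK1.le))
      fun e => hK1.ne (Subgroup.eq_of_le_of_card_ge hK1.le e.ge)) K1 rfl
    (hodd.of_dvd_nat (card_dvd_of_le hK1.le)) (hK1.le.trans hKD) (fun k hk => hKv k (hK1.le hk))
  -- a generator of prime power order
  obtain ⟨k, r, hr, hxord⟩ := Nat.exists_eq_pow_mul_and_not_dvd (orderOf_pos x).ne' l hl.ne_one
  obtain ⟨x', hx'⟩ : ∃ x', x' = x ^ r := ⟨_, rfl⟩
  have hx'K : x' ∈ K := hx' ▸ K.pow_mem hxK r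
  have hgen : K = K1 ⊔ zpowers x' := by
    refine le_antisymm ?_ (sup_le hK1.le (zpowers_le.2 hx'K))
    conv_lhs => rw [hsup]
    refine sup_le le_sup_left (zpowers_le.2 ?_)
    have hb : (r.gcd l : ℤ) = r * r.gcdA l + l * r.gcdB l := Nat.gcd_eq_gcd_ab r l
    rw [((hl.coprime_iff_not_dvd.2 hr).symm).gcd_eq_one] at hb
    rw [← zpow_one x, ← show ((r : ℤ) * r.gcdA l + (l : ℤ) * r.gcdB l) = 1 from hb.symm, zpow_add, zpow_mul,
      zpow_mul, zpow_natCast, zpow_natCast, ← hx']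
    exact Subgroup.mul_mem _ (mem_sup_right (zpow_mem (mem_zpowers x') _)) (mem_sup_left (zpow_mem hxl _))
  have hx'n : x' ∈ normalizer (K1 : Set G) := hx' ▸ pow_mem hxn r
  have hx'p : IsPGroup l (zpowers x') := by
    intro y
    obtain ⟨i, hi⟩ := mem_zpowers_iff.1 y.2
    refine ⟨k, Subtype.ext ?_⟩
    show (y : G) ^ l ^ k = 1
    rw [← hi, ← zpow_natCast, ← zpow_mul, mul_comm, zpow_mul, zpow_natCast, hx', ← pow_mul, mul_comm r,
      ← hxord, pow_orderOf_eq_one, one_zpow]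
  have hl2 : l ≠ 2 := by
    rintro rfl
    have hx1 : x ∈ K1 := mem_of_sq_mem (hodd.of_dvd_nat (Subgroup.orderOf_dvd_natCard _ hxK))
      (by rw [← pow_two]; exact hxl)
    exact hK1.ne (by rw [hsup, sup_eq_left.2 (zpowers_le.2 hx1)])
  -- the centraliser of the subgroup, extended by the generator
  obtain ⟨C, hC⟩ : ∃ C, C = centralizer (K1 : Set G) := ⟨_, rfl⟩
  have hmemC : ∀ {g : G}, g ∈ C ↔ ∀ y ∈ K1, Commute y g := fun {g} => by
    rw [hC, mem_centralizer_iff]; exact ⟨fun h y hy => h y hy, fun h y hy => h y hy⟩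
  have hxC : zpowers x' ≤ normalizer (C : Set G) := zpowers_le.2 (mem_normalizer_fintype fun g hg => by
    refine hmemC.2 fun y hy => ?_
    have h1 := (hmemC.1 hg _ (conj_mem_of_normalizer' hx'n hy)).conj x'
    rwa [show x' * (x'⁻¹ * y * x') * x'⁻¹ = y by group] at h1)
  obtain ⟨M, hM⟩ : ∃ M, M = C ⊔ zpowers x' := ⟨_, rfl⟩
  have hvM : v ∈ M := hM ▸ mem_sup_left (hmemC.2 fun y hy => hKv y (hK1.le hy))
  have hx'M : x' ∈ M := hM ▸ mem_sup_right (mem_zpowers x')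
  obtain ⟨e, hve⟩ := S.exists_fix hv.1
  have hec : c ≠ e := fun h => hca (by rw [← hv.2, h, hve])
  have hcM : c ∈ zCen Ω Z M := ⟨t₁, ht₁.1, hM ▸ mem_sup_left (hmemC.2 fun y hy => ht₁K y hy), ht₁.2⟩
  have haM : a ∈ zCen Ω Z M := hv.2 ▸ zCen_smul S.conj_mem hvM hcM
  have S' := S.sub (M := M) ⟨c, hcM, e, ⟨v, hv.1, hvM, hve⟩, hec⟩
  obtain ⟨t, ht, htx⟩ := S'.good_pgroup hl2 (S.realFree_sub hF M) (c := ⟨c, hcM⟩) (a := ⟨a, haM⟩)
    (fun h => hca (congrArg Subtype.val h)) (v := ⟨v, hvM⟩) ⟨hv.1, Subtype.ext hv.2⟩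
    (K := zpowers ⟨x', hx'M⟩) (by
      intro y
      obtain ⟨i, hi⟩ := mem_zpowers_iff.1 y.2
      obtain ⟨s, hs⟩ := hx'p ⟨x' ^ i, zpow_mem (mem_zpowers x') i⟩
      refine ⟨s, Subtype.ext (Subtype.ext ?_)⟩
      have h1 : (((y : ↥(zpowers (⟨x', hx'M⟩ : M))) : M) : G) = x' ^ i := by rw [← hi]; rfl
      show (((y : ↥(zpowers (⟨x', hx'M⟩ : M))) : M) : G) ^ l ^ s = 1
      rw [h1]; exact congrArg Subtype.val hs)
    (zpowers_le.2 (mem_pair.2 ⟨Subtype.ext (mem_pair.1 (hKD hx'K)).1, Subtype.ext (mem_pair.1 (hKD hx'K)).2⟩))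
    (by
      intro y hy
      obtain ⟨i, rfl⟩ := mem_zpowers_iff.1 hy
      exact Commute.zpow_left (Subtype.ext (hKv x' hx'K).eq) i)
  have htC : (t : G) ∈ C := by
    have ht2 : orderOf (t : G) = 2 := S.invol _ ht.1
    have htM : (t : G) ∈ C ⊔ zpowers x' := hM.le t.2
    rw [← SetLike.mem_coe, coe_mul_of_right_le_normalizer_left _ _ hxC] at htM
    obtain ⟨c₀, hc₀, y, hy, hty⟩ := htM
    dsimp only at hty
    have hyC : y ∈ C := by
      refine mem_of_sq_mem (hodd.of_dvd_nat (Subgroup.orderOf_dvd_natCard _ (zpowers_le.2 hx'K hy))) ?_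
      have h1 : c₀ * y * (c₀ * y) = 1 := by rw [hty]; exact mul_self_of_orderOf_two ht2
      have h2 : y * y = (y * c₀ * y⁻¹)⁻¹ * c₀⁻¹ := by
        calc y * y = (y * c₀ * y⁻¹)⁻¹ * c₀⁻¹ * (c₀ * y * (c₀ * y)) := by group
          _ = _ := by rw [h1, mul_one]
      rw [h2]
      exact C.mul_mem (C.inv_mem (conj_mem_of_normalizer (hxC hy) hc₀)) (C.inv_mem hc₀)
    exact hty ▸ C.mul_mem hc₀ hyC
  refine ⟨(t : G), ⟨ht.1, congrArg Subtype.val ht.2⟩, fun y hy => ?_⟩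
  have hle : K ≤ centralizer ({(t : G)} : Set G) := hgen ▸ sup_le
    (fun z hz => mem_centralizer_singleton_iff.2 (hmemC.1 htC z hz).eq)
    (zpowers_le.2 (mem_centralizer_singleton_iff.2 (congrArg Subtype.val (htx _ (mem_zpowers _)).eq)))
  exact mem_centralizer_singleton_iff.1 (hle hy)

omit hp in
/-- In the odd core of a pair the centraliser of a swapper is that of a member at the first point. -/
theorem conjPair (hF : RealFree Z Ω) : ConjPair Z Ω := by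
  intro c a hca w hw
  obtain ⟨R, hR⟩ : ∃ R, R = pairCore G c a := ⟨_, rfl⟩
  obtain ⟨K, hK⟩ : ∃ K, K = R ⊓ centralizer ({w} : Set G) := ⟨_, rfl⟩
  have hKR : K ≤ R := hK ▸ inf_le_left
  obtain ⟨t, ht, htK⟩ := S.good_odd hF hca hw _ K rfl
    ((hR ▸ odd_pairCore c a : Odd (Nat.card R)).of_dvd_nat (card_dvd_of_le hKR))
    (hKR.trans (hR ▸ pairCore_le c a))
    (fun k hk => mem_centralizer_singleton_iff.1 (hK ▸ hk : k ∈ R ⊓ centralizer ({w} : Set G)).2)
  have h1 := card_centralizer_mul (R := R) (T := zSwap Z c a) (s := w) hw (fun r hr s hs => by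
      obtain ⟨hrc, hra⟩ := mem_pair.1 (pairCore_le c a (hR ▸ hr))
      refine ⟨S.conj_mem r s hs.1, ?_⟩
      conv_lhs => rw [← hrc]
      rw [conj_smul_smul, hs.2, hra]) fun s hs => hR ▸ S.exists_conj_zSwap hca hw hs
  have h2 := card_centralizer_mul (R := R) (T := zAt Z c) (s := t) ht (fun r hr s hs => by
      have := S.zAt_conj (g := r) hs
      rwa [(mem_pair.1 (pairCore_le c a (hR ▸ hr))).1] at this) fun s hs => hR ▸ S.exists_conj_zAt hca ht hs
  rw [S.card_zSwap hca] at h1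
  haveI : Nonempty ↥(zAt Z c) := ⟨⟨t, ht⟩⟩
  have heq : R ⊓ centralizer ({w} : Set G) = R ⊓ centralizer ({t} : Set G) := by
    refine Subgroup.eq_of_le_of_card_ge (le_inf inf_le_left fun k hk => ?_)
      (Nat.eq_of_mul_eq_mul_right Nat.card_pos (h2.trans h1.symm)).le
    exact mem_centralizer_singleton_iff.2 (htK k (hK ▸ hk)).eq
  refine ⟨t, ht, fun x hx => ?_⟩
  rw [← hR] at hx
  constructor <;> intro h
  · exact mem_centralizer_singleton_iff.1 (heq.le ⟨hx, mem_centralizer_singleton_iff.2 h.eq⟩).2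
  · exact mem_centralizer_singleton_iff.1 (heq.ge ⟨hx, mem_centralizer_singleton_iff.2 h.eq⟩).2

/-- Commuting is transitive on the members at a point. -/
theorem commute_trans_of_fourAt [FaithfulSMul G Ω] (hSub : SubFrames Z Ω) (hfour : FourAt Z Ω) :
    ∀ c : Ω, ∀ r ∈ zAt Z c, ∀ s ∈ zAt Z c, ∀ t ∈ zAt Z c, Commute r s → Commute s t → Commute r t :=
  S.commute_trans (S.conjPair (S.realFree hSub hfour))

end Hyp

end Cfsg.Agent.Invol.Aschbacher
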