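import Cfsg.Agent.Lib.Invol.Aschbacher.Full
import Cfsg.Agent.Lib.Invol.Bender.Core

/-!
# The core lemma

If invariant Sylow `p`-subgroups of pair stabilisers move the point of the swapper, then full subgroups fix exactly
their pair, Sylow subgroups of pair stabilisers are Sylow subgroups of the group and all pairs are conjugate.
-/

set_option autoImplicit false
set_option linter.unusedSectionVars false

namespace Cfsg.Agent.Invol.Aschbacher

open MulAction Subgroup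
open Cfsg.Agent.Invol.Bender (conj_smul_smul swap_symm pairStab mem_pair exists_larger eq_of_perm_pair)
open scoped Pointwise

universe u v

variable {G : Type u} {Ω : Type v} [Group G] [MulAction G Ω] [Finite G] {Z : Set G}

namespace Hyp

variable (S : Hyp G Ω Z) {p : ℕ} [hp : Fact p.Prime]
include S

theorem exists_pairs : ∃ x y : Ω, x ≠ y := S.nontrivial.exists_pair_ne

theorem exists_swapper_at {h k : Ω} (hhk : h ≠ k) : ∃ w ∈ Z, w • h = k := by
  obtain ⟨t, ht⟩ := S.zAt_nonempty h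
  obtain ⟨s, hs⟩ := S.zAt_nonempty k
  obtain ⟨w, hw, -⟩ := S.exists_zSwap_conj hhk ht hs
  exact ⟨w, hw.1, hw.2⟩

/-- A pair Sylow subgroup of largest order fixes exactly the pair. -/
theorem fix_two_of_max (hp2 : p ≠ 2) (hM : CentreMoved Ω Z p) {w : G} {a : Ω} (hw : w ∈ Z) (ha : w • a ≠ a)
    {P : Subgroup G} (hP : Grp.IsSylowIn p P (pairStab G a (w • a))) (hwP : w ∈ normalizer (P : Set G))
    (hmax : ∀ h k : Ω, h ≠ k → ∀ R, Grp.IsSylowIn p R (pairStab G h k) → Nat.card R ≤ Nat.card P)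
    {x : Ω} (hx : P ≤ stabilizer G x) : x = a ∨ x = w • a := by
  refine S.full_pairing hp2 hM (S.full_sylow hp2 hw ha hP hwP) (fun h k hh hk hhk => ?_) hx
  have hex : Grp.IsSylowIn p P (pairStab G h k) := by
    by_contra hnot
    obtain ⟨X, hlt, hXD, hXp, -⟩ := exists_larger hP.2.1 (show P ≤ pairStab G h k from le_inf hh hk) hnot
    obtain ⟨R, hR⟩ := (hXp.of_equiv (subgroupOfEquivOfLe hXD).symm).exists_le_sylow
    have h1 := hmax h k hhk _ (Grp.isSylowIn_iff.2 ⟨R, rfl⟩)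
    have h2 : Nat.card X ≤ Nat.card ((R : Subgroup (pairStab G h k)).map (pairStab G h k).subtype) :=
      Subgroup.card_le_of_le (fun y hy => ⟨⟨y, hXD hy⟩, hR (mem_subgroupOf.2 hy), rfl⟩)
    exact hlt.ne (Subgroup.eq_of_le_of_card_ge hlt.le (h2.trans h1))
  obtain ⟨z, hz, hzP⟩ := S.exists_swapper_normalizer hp2 hhk hex
  exact ⟨z, hz.1, hzP, hz.2⟩

/-- Every `p`-subgroup fixes a point of some Sylow subgroup's pair. -/
theorem exists_fixed (hp2 : p ≠ 2) (hM : CentreMoved Ω Z p) {V : Subgroup G} (hV : IsPGroup p V) :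
    ∃ x : Ω, V ≤ stabilizer G x := by
  classical
  haveI := S.finite_points
  obtain ⟨x₀, y₀, hxy₀⟩ := S.exists_pairs
  obtain ⟨P₀, hP₀⟩ := Grp.exists_isSylowIn p (pairStab G x₀ y₀)
  obtain ⟨⟨⟨h, k⟩, P⟩, ⟨hhk, hP⟩, hmax⟩ := Set.exists_max_image
    {t : (Ω × Ω) × Subgroup G | t.1.1 ≠ t.1.2 ∧ Grp.IsSylowIn p t.2 (pairStab G t.1.1 t.1.2)}
    (fun t => Nat.card t.2) (Set.toFinite _) ⟨((x₀, y₀), P₀), hxy₀, hP₀⟩
  dsimp only at hhk hP hmax
  obtain ⟨w, hw, hwP⟩ := S.exists_swapper_normalizer hp2 hhk hP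
  have hwh : w • h ≠ h := by rw [hw.2]; exact hhk.symm
  have hfix : ∀ x : Ω, P ≤ stabilizer G x → x = h ∨ x = k := fun x hx => by
    have h1 := S.fix_two_of_max hp2 hM hw.1 hwh (by rw [hw.2]; exact hP) hwP
      (fun h' k' hne R hR => hmax ((h', k'), R) ⟨hne, hR⟩) hx
    rwa [hw.2] at h1
  have htop : Grp.IsSylowIn p P (⊤ : Subgroup G) := by
    by_contra hnot
    obtain ⟨X, hlt, -, hXp, hXn⟩ := exists_larger hP.2.1 le_top hnot
    have hXD : X ≤ pairStab G h k := fun y hy => by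
      have hyodd : Odd (orderOf y) :=
        (QOdd.odd_of_isPGroup hp2 hXp).of_dvd_nat (Subgroup.orderOf_dvd_natCard _ hy)
      exact mem_pair.2 (eq_of_perm_pair hyodd (hfix _ (smul_fixed (hXn hy) (hP.1.trans inf_le_left)))
        (hfix _ (smul_fixed (hXn hy) (hP.1.trans inf_le_right))))
    exact hlt.ne (hP.eq_of_le hlt.le hXD hXp)
  obtain ⟨R, hR⟩ := (hV.of_equiv (subgroupOfEquivOfLe (le_top : V ≤ ⊤)).symm).exists_le_sylow
  obtain ⟨g, -, hg⟩ := htop.conj (Grp.isSylowIn_iff.2 ⟨R, rfl⟩)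
  refine ⟨g • h, fun y hy => ?_⟩
  have h1 : y ∈ MulAut.conj g • P := hg ▸ ⟨⟨y, mem_top y⟩, hR (mem_subgroupOf.2 hy), rfl⟩
  obtain ⟨y', hy', rfl⟩ := h1
  refine mem_stabilizer_iff.2 ?_
  show (g * y' * g⁻¹) • g • h = g • h
  rw [conj_smul_smul, mem_stabilizer_iff.1 ((hP.1.trans inf_le_left) hy')]

/-- A full subgroup fixes exactly the pair. -/
theorem full_fix_two (hp2 : p ≠ 2) (hM : CentreMoved Ω Z p) {w : G} {a : Ω} {W : Subgroup G}
    (hW : Full Z p w a W) {x : Ω} (hx : W ≤ stabilizer G x) : x = a ∨ x = w • a := by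
  classical
  haveI := S.finite_points
  by_contra hcon
  obtain ⟨⟨⟨w, a⟩, W⟩, ⟨hW, hbad⟩, hmax⟩ := Set.exists_max_image
    {t : (G × Ω) × Subgroup G | Full Z p t.1.1 t.1.2 t.2 ∧
      ∃ y : Ω, t.2 ≤ stabilizer G y ∧ ¬ (y = t.1.2 ∨ y = t.1.1 • t.1.2)}
    (fun t => Nat.card t.2) (Set.toFinite _) ⟨((w, a), W), hW, x, hx, hcon⟩
  dsimp only at hW hbad hmax
  obtain ⟨y₀, hy₀, hy₀'⟩ := hbad
  clear hcon hx x
  have hw2 := S.invol w hW.mem
  obtain ⟨N, hN⟩ : ∃ N, N = normalizer (W : Set G) := ⟨_, rfl⟩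
  have hwN : w ∈ normalizer (N : Set G) := le_normalizer (hN ▸ hW.norm)
  -- a swapper invariant Sylow subgroup of the normaliser
  obtain ⟨Q, hQ, hwQ, hWQ⟩ := QOdd.exists_sylow_ge hp2 hw2 hwN (hN ▸ S.full_oddConj hp2 hM hW)
    (hN ▸ le_normalizer) hW.pgroup hW.norm
  obtain ⟨y, hy⟩ := S.exists_fixed hp2 hM hQ.2.1
  have hwy : w • y ≠ y := fun e => S.full_no_centre hp2 hM hW hW.mem hW.norm e (hWQ.trans hy)
  have hQD : Q ≤ pairStab G y (w • y) := le_inf hy (smul_fixed hwQ hy)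
  obtain ⟨P, hP, hwP, hQP⟩ := QOdd.exists_sylow_ge hp2 hw2 (S.pair_norm hW.mem y) (S.pair_oddConj hW.mem hwy)
    hQD hQ.2.1 hwQ
  have hJ : Bender.invertedBy w W = Bender.invertedBy w Q :=
    Set.eq_of_subset_of_ncard_le (fun j hj => ⟨hWQ hj.1, hj.2⟩) (by
      refine le_trans (Set.ncard_le_ncard (show Bender.invertedBy w Q ⊆ Bender.invertedBy w P from
        fun j hj => ⟨hQP hj.1, hj.2⟩) (Set.toFinite _)) ?_
      rw [← Nat.card_coe_set_eq, ← Nat.card_coe_set_eq, S.card_inverted_pair hp2 hW.mem hwy hP hwP,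
        S.memPart_eq y a]
      exact hW.count) (Set.toFinite _)
  have hcomm : ∀ q ∈ Q, w * q * w⁻¹ * q⁻¹ ∈ W := by
    intro q hq
    have h1 : w * q * w⁻¹ * q⁻¹ ∈ Bender.invertedBy w Q := by
      refine ⟨Q.mul_mem (Bender.conj_mem_of_normalizer hwQ hq) (Q.inv_mem hq), ?_⟩
      simp only [mul_inv_rev, inv_inv, mul_assoc, inv_of_orderOf_two hw2]
      rw [← mul_assoc w w, mul_self_of_orderOf_two hw2, one_mul]
    exact (hJ.ge h1).1
  refine hy₀' (S.full_pairing hp2 hM hW (fun h k hh hk hhk => ?_) hy₀)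
  by_cases hex : Grp.IsSylowIn p W (pairStab G h k)
  · obtain ⟨z, hz, hzW⟩ := S.exists_swapper_normalizer hp2 hhk hex
    exact ⟨z, hz.1, hzW, hz.2⟩
  obtain ⟨V, hlt, hVD, hVp, hVn⟩ := exists_larger hW.pgroup (show W ≤ pairStab G h k from le_inf hh hk) hex
  obtain ⟨R, hR⟩ := (hVp.of_equiv (subgroupOfEquivOfLe (hN ▸ hVn : V ≤ N)).symm).exists_le_sylow
  obtain ⟨g, hg, hgQ⟩ := hQ.conj (Grp.isSylowIn_iff.2 ⟨R, rfl⟩)
  have hgW : g ∈ normalizer (W : Set G) := hN ▸ hg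
  obtain ⟨z, hzdef⟩ : ∃ z, z = g * w * g⁻¹ := ⟨_, rfl⟩
  have hz : z ∈ Z := hzdef ▸ S.conj_mem g w hW.mem
  have hzW : z ∈ normalizer (W : Set G) :=
    hzdef ▸ MulMemClass.mul_mem (MulMemClass.mul_mem hgW hW.norm) (inv_mem hgW)
  have hzV : z ∈ normalizer (V : Set G) := by
    refine mem_normalizer_fintype fun v hv => ?_
    have h1 : v ∈ MulAut.conj g • Q := hgQ ▸ ⟨⟨v, hN ▸ hVn hv⟩, hR (mem_subgroupOf.2 hv), rfl⟩
    obtain ⟨q, hq, hqv⟩ := h1
    have h2 : z * v * z⁻¹ * v⁻¹ ∈ W := by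
      have h3 := Bender.conj_mem_of_normalizer hgW (hcomm q hq)
      rw [← hqv, hzdef]
      convert h3 using 1
      simp [mul_assoc]
    have := Subgroup.mul_mem _ (hlt.le h2) hv
    rwa [inv_mul_cancel_right] at this
  have hzh : z • h ≠ h := fun e => S.full_no_centre hp2 hM hW hz hzW e hh
  have hVh : V ≤ stabilizer G h := hVD.trans inf_le_left
  have hcount : memPart Z p h ≤ Nat.card ↥(Bender.invertedBy z V) := by
    rw [S.memPart_eq h a]
    refine hW.count.trans (Nat.card_le_card_of_injective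
      (fun j => (⟨g * (j : G) * g⁻¹, hlt.le (Bender.conj_mem_of_normalizer hgW j.2.1), by
        have h4 := j.2.2
        rw [hzdef]
        calc g * w * g⁻¹ * (g * (j : G) * g⁻¹) * (g * w * g⁻¹)⁻¹ = g * (w * (j : G) * w⁻¹) * g⁻¹ := by group
          _ = _ := by rw [h4]; group⟩ : ↥(Bender.invertedBy z V))) fun j j' e => Subtype.ext ?_)
    exact mul_left_cancel (mul_right_cancel (congrArg Subtype.val e))
  have hV : Full Z p z h V := ⟨hz, hzh, hVp, le_inf hVh (smul_fixed hzV hVh), hzV, hcount⟩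
  refine ⟨z, hz, hzW, ?_⟩
  by_contra hzk
  have h5 := hmax ((z, h), V) ⟨hV, k, hVD.trans inf_le_right, fun h6 => h6.elim hhk.symm (Ne.symm hzk)⟩
  exact hlt.ne (Subgroup.eq_of_le_of_card_ge hlt.le h5)

/-- An invariant Sylow subgroup of a pair stabiliser is a Sylow subgroup of the group. -/
theorem sylow_top (hp2 : p ≠ 2) (hM : CentreMoved Ω Z p) {h k : Ω} (hhk : h ≠ k) {P : Subgroup G}
    (hP : Grp.IsSylowIn p P (pairStab G h k)) : Grp.IsSylowIn p P (⊤ : Subgroup G) := by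
  obtain ⟨w, hw, hwP⟩ := S.exists_swapper_normalizer hp2 hhk hP
  have hwh : w • h ≠ h := by rw [hw.2]; exact hhk.symm
  have hfull := S.full_sylow hp2 hw.1 hwh (by rw [hw.2]; exact hP) hwP
  by_contra hnot
  obtain ⟨X, hlt, -, hXp, hXn⟩ := exists_larger hP.2.1 le_top hnot
  have hfix : ∀ x : Ω, P ≤ stabilizer G x → x = h ∨ x = k := fun x hx => by
    have h1 := S.full_fix_two hp2 hM hfull hx
    rwa [hw.2] at h1
  have hXD : X ≤ pairStab G h k := fun y hy => by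
    have hyodd : Odd (orderOf y) :=
      (QOdd.odd_of_isPGroup hp2 hXp).of_dvd_nat (Subgroup.orderOf_dvd_natCard _ hy)
    exact mem_pair.2 (eq_of_perm_pair hyodd (hfix _ (smul_fixed (hXn hy) (hP.1.trans inf_le_left)))
      (hfix _ (smul_fixed (hXn hy) (hP.1.trans inf_le_right))))
  exact hlt.ne (hP.eq_of_le hlt.le hXD hXp)

/-- The action is doubly transitive. -/
theorem two_trans (hp2 : p ≠ 2) (hM : CentreMoved Ω Z p) {h k h' k' : Ω} (hhk : h ≠ k) (hhk' : h' ≠ k') :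
    ∃ g : G, g • h = h' ∧ g • k = k' := by
  obtain ⟨P, hP⟩ := Grp.exists_isSylowIn p (pairStab G h k)
  obtain ⟨P', hP'⟩ := Grp.exists_isSylowIn p (pairStab G h' k')
  obtain ⟨g, -, hg⟩ := (S.sylow_top hp2 hM hhk hP).conj (S.sylow_top hp2 hM hhk' hP')
  obtain ⟨w, hw, hwP⟩ := S.exists_swapper_normalizer hp2 hhk' hP'
  have hwh : w • h' ≠ h' := by rw [hw.2]; exact hhk'.symm
  have hfull := S.full_sylow hp2 hw.1 hwh (by rw [hw.2]; exact hP') hwP
  have hfix : ∀ x : Ω, P ≤ stabilizer G x → g • x = h' ∨ g • x = k' := fun x hx => by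
    have h1 : P' ≤ stabilizer G (g • x) := by
      rw [← hg]
      rintro _ ⟨y, hy, rfl⟩
      refine mem_stabilizer_iff.2 ?_
      show (g * y * g⁻¹) • g • x = g • x
      rw [conj_smul_smul, mem_stabilizer_iff.1 (hx hy)]
    have h2 := S.full_fix_two hp2 hM hfull h1
    rwa [hw.2] at h2
  have hne : g • h ≠ g • k := fun e => hhk (smul_left_cancel g e)
  rcases hfix h (hP.1.trans inf_le_left) with e1 | e1 <;> rcases hfix k (hP.1.trans inf_le_right) with e2 | e2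
  · exact absurd (e1.trans e2.symm) hne
  · exact ⟨g, e1, e2⟩
  · refine ⟨w * g, ?_, ?_⟩
    · rw [mul_smul, e1, swap_symm (S.invol w hw.1) hw.2]
    · rw [mul_smul, e2, hw.2]
  · exact absurd (e1.trans e2.symm) hne

end Hyp

end Cfsg.Agent.Invol.Aschbacher
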