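import Cfsg.Agent.Lib.Invol.Aschbacher.Frames

/-!
# The kernel of the group of an involution is trivial

For an involution `u` outside `Z` whose group `lgen Z u` has 2-rank two, the kernel `O` of that group on the fixed
points of `u` is trivial: for a member `w` commuting with `u` the part centralising `w` fixes the fixed points of `u w`,
since a 2-group is regular on them; the commutators with `w` fix them as the pairs involved are proper if some
member does not centralise `O`.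
-/

set_option autoImplicit false
set_option linter.unusedSectionVars false

namespace Cfsg.Agent.Invol.Aschbacher

open MulAction Subgroup
open Cfsg.Agent.Invol.Bender (conj_smul_smul invAt cen ker mem_ker ker_le mem_cen_smul TwoRank conj_mem_of_normalizer
  eq_one_of_sq_of_odd)

universe u

variable {G : Type u} [Group G] [Finite G] {Ω : Type u} [MulAction G Ω] {Z : Set G}

/-- The fixed points of `u` other than `c`. -/
def others (u : G) (c : Ω) : Set Ω := {x | u • x = x ∧ x ≠ c}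

namespace Hyp

variable (S : Hyp G Ω Z) [FaithfulSMul G Ω]
include S

/-- The centraliser of an involution is proper. -/
theorem centralizer_ne_top {u : G} (hu : orderOf u = 2) : Subgroup.centralizer ({u} : Set G) ≠ ⊤ := fun h => by
  obtain ⟨a, ha⟩ := S.exists_fix_invol hu
  have h1 : u = 1 := eq_of_smul_eq_smul (α := Ω) fun x => by
    obtain ⟨g, rfl⟩ := S.exists_smul_eq a x
    have hg : g ∈ Subgroup.centralizer ({u} : Set G) := h ▸ Subgroup.mem_top g
    rw [one_smul, ← mul_smul, ← (Subgroup.mem_centralizer_singleton_iff.1 hg), mul_smul, ha]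
  rw [h1, orderOf_one] at hu
  omega

variable (hB : ClosedBelow Ω Z)
include hB

/-- The frame of the centraliser of an involution outside `Z`. -/
theorem frame_centralizer {u : G} (hu : orderOf u = 2) (huZ : u ∉ Z) (h2 : TwoRank (lgen Z u)) :
    Frame Z Ω (Subgroup.centralizer ({u} : Set G)) (lgen Z u) := by
  obtain ⟨a, ha⟩ := S.exists_fix_invol hu
  obtain ⟨b, hb, hba⟩ := S.exists_other_fix hu huZ a
  obtain ⟨x, hx, hxu⟩ := S.exists_partner_invol hu ha
  obtain ⟨y, hy, hyu⟩ := S.exists_partner_invol hu hb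
  obtain ⟨r, hr, t, ht, hr2, ht2, hrt, hc⟩ := h2
  have hgood : ∀ i ∈ lgen Z u, orderOf i = 2 → i ∈ Z := fun i hi =>
    hB _ (S.centralizer_ne_top hu) ⟨a, ⟨x, hx.1, Subgroup.mem_centralizer_singleton_iff.2 hxu.eq, hx.2⟩, b,
      ⟨y, hy.1, Subgroup.mem_centralizer_singleton_iff.2 hyu.eq, hy.2⟩, hba.symm⟩ i (by rwa [zgen_centralizer])
  have h := S.frame hB (S.centralizer_ne_top hu) (Subgroup.mem_centralizer_singleton_iff.2 hxu.eq) hx
    (Subgroup.mem_centralizer_singleton_iff.2 hyu.eq) hy hba.symm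
    ⟨r, lgen_le_centralizer Z u hr, t, lgen_le_centralizer Z u ht, hgood r hr hr2, hgood t ht ht2, hrt, hc⟩
  rwa [zgen_centralizer] at h

omit hB [FaithfulSMul G Ω] in
/-- The centres of the group of an involution are its fixed points. -/
theorem cen_lgen {u : G} (hu : orderOf u = 2) (hz : ∀ i ∈ lgen Z u, orderOf i = 2 → i ∈ Z) :
    cen Ω (lgen Z u) = {x | u • x = x} := by
  ext x
  constructor
  · rintro ⟨i, hi, hi2, hix⟩
    exact S.fix_of_commute (hz i hi hi2) hix (commute_of_mem_lgen hi).symm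
  · intro hx
    obtain ⟨z, hz', hzu⟩ := S.exists_partner_invol hu (b := x) hx
    exact ⟨z, mem_lgen hz'.1 hzu, S.invol z hz'.1, hz'.2⟩

variable {u w : G} {c : Ω} (hu : orderOf u = 2) (huZ : u ∉ Z) (h2 : TwoRank (lgen Z u)) (hw : w ∈ zAt Z c)
  (hwu : Commute w u)
include hu huZ h2 hw hwu

/-- A member commuting with `u` has a partner commuting with both. -/
theorem exists_commuting : ∃ e ∈ zAt Z c, Commute e u ∧ Commute e w ∧ e ≠ w := by
  have F := S.frame_centralizer hB hu huZ h2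
  have hwL : w ∈ lgen Z u := mem_lgen hw.1 hwu
  have hcL : c ∈ cen Ω (lgen Z u) := ⟨w, hwL, F.sub.mem_invAt hw⟩
  obtain ⟨x, hxL, y, hyL, hx, hy, hxy, hc'⟩ := F.sub.exists_four_at hcL
  obtain ⟨b, hb, hbc⟩ := F.sub.exists_other c
  obtain ⟨g, hg, hgx⟩ := F.sub.exists_conj_pair hb hbc.symm hxL hx hwL (F.sub.mem_invAt hw)
  have hgc : g • c = c := (Bender.mem_pair.1 hg.2).1
  have hyz := F.sub.mem_zAt hyL hy
  refine ⟨g * y * g⁻¹, ?_, commute_of_mem_lgen (Subgroup.mul_mem _ (Subgroup.mul_mem _ hg.1 hyL)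
    (Subgroup.inv_mem _ hg.1)), hgx ▸ hc'.symm.conj g, fun e => hxy ?_⟩
  · have := S.zAt_conj (g := g) hyz
    rwa [hgc] at this
  · exact (mul_left_cancel (mul_right_cancel (e.trans hgx.symm))).symm

/-- The group of the product with a commuting member has 2-rank two as well. -/
theorem twoRank_mul : TwoRank (lgen Z (u * w)) := by
  obtain ⟨e, he, heu, hew, hne⟩ := S.exists_commuting hB hu huZ h2 hw hwu
  exact ⟨e, mem_lgen he.1 (heu.mul_right hew), w, mem_lgen hw.1 (hwu.mul_right (Commute.refl w)),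
    S.invol e he.1, S.invol w hw.1, hne, hew⟩

/-- A 2-group centralising `w` which is regular on the other fixed points of `u` and semiregular on those of `u w`. -/
theorem exists_semiregular : ∃ P : Subgroup G, IsPGroup 2 P ∧ P ≤ lgen Z u ∧
    (∀ t ∈ P, t • c = c ∧ Commute t w ∧ Commute t u) ∧ Nat.card P = (others u c).ncard ∧
    ∀ t ∈ P, ∀ d : Ω, d ≠ c → t • d = d → t = 1 := by
  have F := S.frame_centralizer hB hu huZ h2
  obtain ⟨P, hP, hPle, -, hPw, hcard⟩ := F.sub.exists_regular (mem_lgen hw.1 hwu) (F.sub.mem_invAt hw)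
  have hPL : P ≤ lgen Z u := hPle.trans inf_le_left
  refine ⟨P, hP, hPL, fun t ht => ⟨mem_stabilizer_iff.1 (hPle ht).2, hPw t ht, commute_of_mem_lgen (hPL ht)⟩, ?_, ?_⟩
  · rw [hcard, S.cen_lgen hu F.sub.zonly]
    rfl
  · intro t ht d hdc htd
    by_contra hne
    obtain ⟨j, hj⟩ := IsPGroup.iff_orderOf.1 hP ⟨t, ht⟩
    rw [Subgroup.orderOf_mk] at hj
    have hj0 : j ≠ 0 := fun e => hne (orderOf_eq_one_iff.1 (by rw [hj, e, pow_zero]))
    obtain ⟨r, hr⟩ : ∃ r, r = t ^ 2 ^ (j - 1) := ⟨_, rfl⟩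
    have hr2 : orderOf r = 2 := by
      rw [hr, orderOf_pow_of_dvd (pow_ne_zero _ two_ne_zero) (hj ▸ pow_dvd_pow 2 (Nat.sub_le j 1)), hj,
        Nat.pow_div (Nat.sub_le j 1) two_pos, show j - (j - 1) = 1 by omega, pow_one]
    have hrP : r ∈ P := hr ▸ P.pow_mem ht _
    have hrd : r • d = d := hr ▸ mem_stabilizer_iff.1 (Subgroup.pow_mem _ (mem_stabilizer_iff.2 htd) _)
    exact hdc (S.fix_unique (F.sub.zonly r (hPL hrP) hr2) hrd (mem_stabilizer_iff.1 (hPle hrP).2))

omit hB h2 [FaithfulSMul G Ω] in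
/-- A subgroup commuting with `u w` and fixing `c` permutes the other fixed points of `u w`. -/
theorem smul_others {t : G} (htu : Commute t u) (htw : Commute t w) (htc : t • c = c) {x : Ω}
    (hx : x ∈ others (u * w) c) : t • x ∈ others (u * w) c := by
  refine ⟨?_, fun h => hx.2 (smul_left_cancel t (h.trans htc.symm))⟩
  rw [← mul_smul, ← (htu.mul_right htw).eq, mul_smul, hx.1]

/-- `u w` has at least as many fixed points as `u`. -/
theorem card_others_le : (others u c).ncard ≤ (others (u * w) c).ncard := by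
  haveI := S.finite_points
  obtain ⟨P, -, -, hPfix, hcard, hfree⟩ := S.exists_semiregular hB hu huZ h2 hw hwu
  obtain ⟨hv2, hvZ, -, -⟩ := S.mul_notMem hu huZ hw.1 hwu
  obtain ⟨d, hd, hdc⟩ := S.exists_other_fix hv2 hvZ c
  rw [← hcard, ← Nat.card_coe_set_eq (others (u * w) c)]
  refine Nat.card_le_card_of_injective (fun t : P => (⟨(t : G) • d,
    S.smul_others hu huZ hw hwu (hPfix t t.2).2.2 (hPfix t t.2).2.1 (hPfix t t.2).1 ⟨hd, hdc⟩⟩ :
    others (u * w) c)) fun s t hst => ?_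
  have h1 : (s : G) • d = (t : G) • d := congrArg Subtype.val hst
  have h2' := hfree ((t : G)⁻¹ * s) (P.mul_mem (P.inv_mem t.2) s.2) d hdc (by rw [mul_smul, h1, inv_smul_smul])
  exact Subtype.ext (inv_mul_eq_one.1 h2').symm

/-- `u` and `u w` have equally many fixed points. -/
theorem card_others_eq : (others u c).ncard = (others (u * w) c).ncard := by
  refine le_antisymm (S.card_others_le hB hu huZ h2 hw hwu) ?_
  obtain ⟨hv2, hvZ, -, hvw⟩ := S.mul_notMem hu huZ hw.1 hwu
  have h := S.card_others_le hB hv2 hvZ (S.twoRank_mul hB hu huZ h2 hw hwu) hw hvw.symm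
  rwa [mul_assoc, mul_self_of_orderOf_two (S.invol w hw.1), mul_one] at h

/-- The elements of the kernel centralising `w` fix the fixed points of `u w`. -/
theorem ker_centralizer_fix {x : G} (hx : x ∈ ker Ω (lgen Z u)) (hxw : Commute x w) {b : Ω}
    (hb : (u * w) • b = b) : x • b = b := by
  have F := S.frame_centralizer hB hu huZ h2
  obtain ⟨P, hP, hPL, hPfix, hcard, hfree⟩ := S.exists_semiregular hB hu huZ h2 hw hwu
  obtain ⟨B, hBdef⟩ : ∃ B, B = ker Ω (lgen Z u) ⊓ Subgroup.centralizer ({w} : Set G) := ⟨_, rfl⟩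
  have hxB : x ∈ B := hBdef ▸ ⟨hx, Subgroup.mem_centralizer_singleton_iff.2 hxw.eq⟩
  have hwc : c ∈ cen Ω (lgen Z u) := ⟨w, mem_lgen hw.1 hwu, F.sub.mem_invAt hw⟩
  have hBfix : ∀ t ∈ B, t • c = c ∧ Commute t w ∧ Commute t u := fun t ht => by
    rw [hBdef] at ht
    exact ⟨(mem_ker.1 ht.1).2 c hwc, Subgroup.mem_centralizer_singleton_iff.1 ht.2,
      commute_of_mem_lgen (ker_le ht.1)⟩
  by_cases hbc : b = c
  · subst hbc; exact (hBfix x hxB).1
  have hBodd : Odd (Nat.card B) :=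
    F.sub.odd_ker.of_dvd_nat (Subgroup.card_dvd_of_le (hBdef ▸ inf_le_left))
  have hPB : P ≤ normalizer (B : Set G) := fun t ht => Subgroup.mem_normalizer_fintype fun y hy => by
    rw [hBdef] at hy ⊢
    refine ⟨F.ker_conj (Subgroup.mem_centralizer_singleton_iff.2 (hPfix t ht).2.2.eq) hy.1,
      Subgroup.mem_centralizer_singleton_iff.2 ?_⟩
    exact (((hPfix t ht).2.1.mul_left (Subgroup.mem_centralizer_singleton_iff.1 hy.2)).mul_left
      (hPfix t ht).2.1.inv_left).eq
  obtain ⟨H, hH⟩ : ∃ H, H = B ⊔ P := ⟨_, rfl⟩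
  have hHfix : ∀ t ∈ H, t • c = c ∧ Commute t w ∧ Commute t u := by
    intro t ht
    have hle : H ≤ stabilizer G c ⊓ Subgroup.centralizer ({w} : Set G) ⊓ Subgroup.centralizer ({u} : Set G) :=
      hH ▸ sup_le
        (fun s hs => ⟨⟨(hBfix s hs).1, Subgroup.mem_centralizer_singleton_iff.2 (hBfix s hs).2.1.eq⟩,
          Subgroup.mem_centralizer_singleton_iff.2 (hBfix s hs).2.2.eq⟩)
        (fun s hs => ⟨⟨(hPfix s hs).1, Subgroup.mem_centralizer_singleton_iff.2 (hPfix s hs).2.1.eq⟩,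
          Subgroup.mem_centralizer_singleton_iff.2 (hPfix s hs).2.2.eq⟩)
    obtain ⟨⟨h1, h3⟩, h4⟩ := hle ht
    exact ⟨h1, Subgroup.mem_centralizer_singleton_iff.1 h3, Subgroup.mem_centralizer_singleton_iff.1 h4⟩
  haveI := S.finite_points
  -- the orbit of `b` is the whole set of other fixed points
  have horb : orbit H b = others (u * w) c := by
    refine Set.eq_of_subset_of_ncard_le ?_ ?_ (Set.toFinite _)
    · rintro _ ⟨⟨t, ht⟩, rfl⟩
      exact S.smul_others hu huZ hw hwu (hHfix t ht).2.2 (hHfix t ht).2.1 (hHfix t ht).1 ⟨hb, hbc⟩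
    · rw [← S.card_others_eq hB hu huZ h2 hw hwu, ← hcard, ← Nat.card_coe_set_eq (orbit H b)]
      refine Nat.card_le_card_of_injective
        (fun t : P => (⟨(t : G) • b, ⟨t, hH ▸ Subgroup.mem_sup_right t.2⟩, rfl⟩ : orbit H b)) fun s t hst => ?_
      have h1 : (s : G) • b = (t : G) • b := congrArg Subtype.val hst
      have h3 := hfree ((t : G)⁻¹ * s) (P.mul_mem (P.inv_mem t.2) s.2) b hbc (by rw [mul_smul, h1, inv_smul_smul])
      exact Subtype.ext (inv_mul_eq_one.1 h3).symm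
  obtain ⟨j, hj⟩ := IsPGroup.iff_card.1 hP
  have hBH : B ≤ H := hH ▸ le_sup_left
  have hcardH : Nat.card H = Nat.card B * Nat.card P := by
    have h1 := Grp.card_sup_mul_card_inf (H := P) (N := B) hPB
    rw [sup_comm, ← hH, Subgroup.inf_eq_bot_of_coprime (hj ▸ (Nat.coprime_two_left.2 hBodd).pow_left j),
      Subgroup.card_bot, mul_one] at h1
    rw [h1, mul_comm]
  haveI : (B.subgroupOf H).Normal := Subgroup.normal_subgroupOf_iff_le_normalizer hBH |>.2
    (hH ▸ sup_le le_normalizer hPB)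
  have hidx : (B.subgroupOf H).index = 2 ^ j := by
    have h1 := Subgroup.card_mul_index (B.subgroupOf H)
    rw [Nat.card_congr (subgroupOfEquivOfLe hBH).toEquiv, hcardH, hj] at h1
    exact Nat.eq_of_mul_eq_mul_left Nat.card_pos h1
  have hstab : Nat.card (stabilizer H b) = Nat.card B := by
    have h1 := Subgroup.card_mul_index (stabilizer H b)
    rw [index_stabilizer, horb, ← S.card_others_eq hB hu huZ h2 hw hwu, ← hcard, hcardH] at h1
    exact Nat.eq_of_mul_eq_mul_right Nat.card_pos h1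
  have hle : stabilizer H b ≤ B.subgroupOf H := fun t ht => by
    have h1 : t ^ 2 ^ j ∈ B.subgroupOf H := hidx ▸ Subgroup.pow_index_mem _ t
    have hodd : Odd (orderOf t) := (hstab ▸ hBodd).of_dvd_nat (Subgroup.orderOf_dvd_natCard _ ht)
    obtain ⟨m, hm⟩ := exists_pow_eq_self_of_coprime (x := t) (n := 2 ^ j)
      ((Nat.coprime_two_left.2 hodd).pow_left j)
    rw [← hm]
    exact Subgroup.pow_mem _ h1 m
  have heq := Subgroup.eq_of_le_of_card_ge hle (by
    rw [hstab, Nat.card_congr (subgroupOfEquivOfLe hBH).toEquiv])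
  have hx' : (⟨x, hBH hxB⟩ : H) ∈ stabilizer H b := heq ▸ Subgroup.mem_subgroupOf.2 hxB
  exact mem_stabilizer_iff.1 hx'

omit hu huZ h2 hw hwu in
/-- The product of an element of odd order with a member inverting it is in the kernel when both members are. -/
theorem commutator_mem_ker {M M₀ : Subgroup G} (F : Frame Z Ω M M₀) {g x : G} (hgM : g ∈ M₀) {c : Ω}
    (hg : g ∈ invAt G c) (hxg : x * g * x⁻¹ ∈ M₀) (hxc : x • c = c) (hodd : Odd (orderOf (x * g * x⁻¹ * g⁻¹))) :
    x * g * x⁻¹ * g⁻¹ ∈ ker Ω M₀ := by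
  have hg' : x * g * x⁻¹ ∈ invAt G c := ⟨(orderOf_conj_eq x g).trans hg.1, by
    conv_lhs => rw [← hxc]
    rw [conj_smul_smul, hg.2, hxc]⟩
  refine mem_of_sq_mem hodd ?_
  have h := F.sub.comm_mem_ker hxg hg' hgM hg
  have e : x * g * x⁻¹ * g * (x * g * x⁻¹)⁻¹ * g⁻¹ = x * g * x⁻¹ * g⁻¹ * (x * g * x⁻¹ * g⁻¹) := by
    rw [inv_of_orderOf_two hg.1, inv_of_orderOf_two hg'.1]
    group
  rwa [e] at h

/-- If some member commuting with `u` and `w` does not centralise the part of the kernel centralised by `w`, the pairs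
at the other fixed points of `u w` are proper. -/
theorem pairGen_ne_top_of_moved {e x : G} (he : e ∈ zAt Z c) (heu : Commute e u) (hew : Commute e w) (hne : e ≠ w)
    (hx : x ∈ ker Ω (lgen Z u)) (hxw : Commute x w) (hxe : ¬ Commute e x) {b : Ω} (hb : (u * w) • b = b)
    (hbc : b ≠ c) : pairGen Z c b ≠ ⊤ := by
  have F := S.frame_centralizer hB hu huZ h2
  obtain ⟨hv2, hvZ, -, hvw⟩ := S.mul_notMem hu huZ hw.1 hwu
  have Fv := S.frame_centralizer hB hv2 hvZ (S.twoRank_mul hB hu huZ h2 hw hwu)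
  have hxu : Commute x u := commute_of_mem_lgen (ker_le hx)
  have hxc : x • c = c := (mem_ker.1 hx).2 c ⟨w, mem_lgen hw.1 hwu, F.sub.mem_invAt hw⟩
  have hex : x * e * x⁻¹ ∈ zAt Z c := by
    have := S.zAt_conj (g := x) he
    rwa [hxc] at this
  obtain ⟨y, hy⟩ : ∃ y, y = x * e * x⁻¹ * e⁻¹ := ⟨_, rfl⟩
  have hyO : y ∈ ker Ω (lgen Z u) := by
    have h1 := F.ker_conj (Subgroup.mem_centralizer_singleton_iff.2 heu.eq) (Subgroup.inv_mem _ hx)
    rw [hy, show x * e * x⁻¹ * e⁻¹ = x * (e * x⁻¹ * e⁻¹) by group]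
    exact Subgroup.mul_mem _ hx h1
  have hyodd : Odd (orderOf y) := F.sub.odd_ker.of_dvd_nat (Subgroup.orderOf_dvd_natCard _ hyO)
  have hy1 : y ≠ 1 := fun h => hxe (by
    rw [hy, mul_inv_eq_one, mul_inv_eq_iff_eq_mul] at h
    exact h.symm)
  have he2 := S.invol e he.1
  have hyinv : e * y * e⁻¹ = y⁻¹ := by
    have hee : e⁻¹ = e := inv_of_orderOf_two he2
    rw [hy]
    calc e * (x * e * x⁻¹ * e⁻¹) * e⁻¹ = e * x * e * x⁻¹ * (e⁻¹ * e⁻¹) := by group
      _ = e * x * e⁻¹ * x⁻¹ := by rw [hee, mul_self_of_orderOf_two he2, mul_one]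
      _ = _ := by group
  have hyw : Commute w y := by
    rw [hy]
    exact ((hxw.symm.mul_right hew.symm).mul_right hxw.symm.inv_right).mul_right hew.symm.inv_right
  have hyu : Commute y u := commute_of_mem_lgen (ker_le hyO)
  have hev : Commute e (u * w) := heu.mul_right hew
  have hxev : Commute (x * e * x⁻¹) (u * w) :=
    ((hxu.mul_right hxw).mul_left hev).mul_left (hxu.mul_right hxw).inv_left
  have hyK : y ∈ ker Ω (lgen Z (u * w)) := hy ▸
    commutator_mem_ker S hB Fv (mem_lgen he.1 hev) (Fv.sub.mem_invAt he) (mem_lgen hex.1 hxev) hxc (hy ▸ hyodd)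
  have hyb : y • b = b := (mem_ker.1 hyK).2 b (by rw [S.cen_lgen hv2 Fv.sub.zonly]; exact hb)
  obtain ⟨z, hz, hzv⟩ := S.exists_partner_invol hv2 hb
  exact pairGen_ne_top_of_special S (S.subFrames hB) (S.centralizer_ne_top hv2)
    ⟨e, Subgroup.mem_centralizer_singleton_iff.2 hev.eq, w, Subgroup.mem_centralizer_singleton_iff.2 hvw.symm.eq,
      he.1, hw.1, hne, hew⟩
    (Subgroup.mem_centralizer_singleton_iff.2 hev.eq)
    (Subgroup.mem_centralizer_singleton_iff.2 (hyu.mul_right hyw.symm).eq)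
    ⟨he, hyinv, hy1, hyodd, w, hw.1, hyw⟩ ⟨z, Subgroup.mem_centralizer_singleton_iff.2 hzv.eq, hz⟩ hbc hyb

/-- The kernel fixes every fixed point of `u w`. -/
theorem ker_fix_others {x : G} (hx : x ∈ ker Ω (lgen Z u)) {b : Ω} (hb : (u * w) • b = b) : x • b = b := by
  classical
  have F := S.frame_centralizer hB hu huZ h2
  have hw2 := S.invol w hw.1
  have hwL : w ∈ lgen Z u := mem_lgen hw.1 hwu
  have hwc : c ∈ cen Ω (lgen Z u) := ⟨w, hwL, F.sub.mem_invAt hw⟩
  rcases eq_or_ne b c with rfl | hbc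
  · exact (mem_ker.1 hx).2 _ hwc
  by_cases hcentral : ∀ (d : Ω) (z e y : G), z ∈ zAt Z d → e ∈ zAt Z d → Commute z u → Commute e u → Commute e z →
      e ≠ z → y ∈ ker Ω (lgen Z u) → Commute y z → Commute e y
  · -- then `w` centralises the kernel
    refine S.ker_centralizer_fix hB hu huZ h2 hw hwu hx ?_ hb
    by_contra hxw
    obtain ⟨e, he, heu, hew, hne⟩ := S.exists_commuting hB hu huZ h2 hw hwu
    have hwO : w ∈ normalizer (ker Ω (lgen Z u) : Set G) :=
      F.ker_normalized (Subgroup.mem_centralizer_singleton_iff.2 hwu.eq)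
    have heO : e ∈ normalizer (ker Ω (lgen Z u) : Set G) :=
      F.ker_normalized (Subgroup.mem_centralizer_singleton_iff.2 heu.eq)
    obtain ⟨i, hi, hi1, hinv, hcom⟩ := Bender.exists_special_element (S.invol e he.1) hw2 hew _
      (ker Ω (lgen Z u)) rfl F.sub.odd_ker heO hwO ⟨x, hx, fun h => hxw h.symm⟩
    have hwi : Commute w i := by
      rcases hcom with h | h
      · exact hcentral c e w i he hw heu hwu hew.symm hne.symm hi h.symm
      · have hz : e * w ∈ zAt Z c := ⟨S.mul_mem he.1 hw.1 hne hew, by rw [mul_smul, hw.2, he.2]⟩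
        refine hcentral c (e * w) w i hz hw (heu.mul_left hwu) hwu (hew.symm.mul_right (Commute.refl w)) ?_ hi h.symm
        intro h'
        have h1 := S.invol e he.1
        rw [right_eq_mul] at h'
        rw [h', orderOf_one] at h1
        omega
    rw [hwi.eq, mul_inv_cancel_right] at hinv
    exact hi1 (eq_one_of_sq_of_odd F.sub.odd_ker hi (mul_eq_one_iff_eq_inv.2 hinv))
  · push Not at hcentral
    obtain ⟨d, z, e, y, hz, he, hzu, heu, hez, hne, hy, hyz, hey⟩ := hcentral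
    -- carry the moved element to `w`
    obtain ⟨f, hf, hfa⟩ := S.exists_other_fix hu huZ c
    obtain ⟨g, hg, hgz⟩ := S.exists_conj_lgen hu (S.fix_of_commute hw.1 hw.2 hwu.symm) hf hfa.symm hz.1 hzu hw.1 hwu
    have hgd : g • d = c := by
      refine S.fix_unique hw.1 ?_ hw.2
      rw [← hgz, conj_smul_smul, hz.2]
    have hgu : Commute g u := commute_of_mem_lgen hg
    have he' : g * e * g⁻¹ ∈ zAt Z c := by
      have := S.zAt_conj (g := g) he
      rwa [hgd] at this
    have hprop := S.pairGen_ne_top_of_moved hB hu huZ h2 hw hwu he' ((hgu.mul_left heu).mul_left hgu.inv_left)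
      (hgz ▸ hez.conj g) (fun h => hne (mul_left_cancel (mul_right_cancel (h.trans hgz.symm))))
      (F.ker_conj (Subgroup.mem_centralizer_singleton_iff.2 hgu.eq) hy) (hgz ▸ hyz.conj g) (fun h => hey (by
        have := h.conj g⁻¹
        simpa [mul_assoc] using this)) hb hbc
    obtain ⟨e₁, he₁, -, he₁w, hne₁⟩ := S.exists_commuting hB hu huZ h2 hw hwu
    obtain ⟨t, ht⟩ := S.zAt_nonempty b
    have hmem : ∀ {r : G} {a : Ω}, r ∈ zAt Z a → (a = c ∨ a = b) → r ∈ pairGen Z c b := by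
      rintro r a hr (rfl | rfl)
      · exact Subgroup.subset_closure (Or.inl hr)
      · exact Subgroup.subset_closure (Or.inr hr)
    obtain ⟨M₀, Fp⟩ := S.subFrames hB (pairGen Z c b) hprop
      ⟨w, hmem hw (Or.inl rfl), t, hmem ht (Or.inr rfl), c, b, hw, ht, hbc.symm⟩
      ⟨e₁, hmem he₁ (Or.inl rfl), w, hmem hw (Or.inl rfl), he₁.1, hw.1, hne₁, he₁w⟩
    have hbcen : b ∈ cen Ω M₀ := ⟨t, Fp.mem t ht.1 (hmem ht (Or.inr rfl)), Fp.sub.mem_invAt ht⟩
    have hxc : x • c = c := (mem_ker.1 hx).2 c hwc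
    have hxw' : x * w * x⁻¹ ∈ zAt Z c := by
      have := S.zAt_conj (g := x) hw
      rwa [hxc] at this
    have hO : x * w * x⁻¹ * w⁻¹ ∈ ker Ω (lgen Z u) := by
      rw [show x * w * x⁻¹ * w⁻¹ = x * (w * x⁻¹ * w⁻¹) by group]
      exact Subgroup.mul_mem _ hx
        (F.ker_conj (Subgroup.mem_centralizer_singleton_iff.2 hwu.eq) (Subgroup.inv_mem _ hx))
    have hK := commutator_mem_ker S hB Fp (Fp.mem w hw.1 (hmem hw (Or.inl rfl))) (Fp.sub.mem_invAt hw)
      (Fp.mem _ hxw'.1 (hmem hxw' (Or.inl rfl))) hxc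
      (F.sub.odd_ker.of_dvd_nat (Subgroup.orderOf_dvd_natCard _ hO))
    obtain ⟨N, hN⟩ : ∃ N, N = ker Ω (lgen Z u) ⊓ stabilizer G b := ⟨_, rfl⟩
    have hmove : w * x * w⁻¹ * x⁻¹ ∈ N := by
      rw [show w * x * w⁻¹ * x⁻¹ = (x * w * x⁻¹ * w⁻¹)⁻¹ by group]
      exact Subgroup.inv_mem _ (hN ▸ ⟨hO, mem_stabilizer_iff.2 ((mem_ker.1 hK).2 b hbcen)⟩)
    obtain ⟨r, hr, x', hx'w, rfl⟩ := exists_mul_fixed hw2
      (F.sub.odd_ker.of_dvd_nat (Subgroup.card_dvd_of_le (hN ▸ inf_le_left))) hmove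
    rw [hN] at hr
    have hx' : x' ∈ ker Ω (lgen Z u) := by
      have := Subgroup.mul_mem _ (Subgroup.inv_mem _ hr.1) hx
      rwa [inv_mul_cancel_left] at this
    rw [mul_smul, S.ker_centralizer_fix hB hu huZ h2 hw hwu hx' hx'w hb, mem_stabilizer_iff.1 hr.2]

omit hw hwu in
/-- The kernel of the group of an involution outside `Z` is trivial. -/
theorem ker_lgen_eq_bot : ker Ω (lgen Z u) = ⊥ := by
  have F := S.frame_centralizer hB hu huZ h2
  refine (Subgroup.eq_bot_iff_forall _).2 fun x hx => eq_of_smul_eq_smul (α := Ω) fun b => ?_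
  rw [one_smul]
  by_cases hub : u • b = b
  · exact (mem_ker.1 hx).2 b (by rw [S.cen_lgen hu F.sub.zonly]; exact hub)
  · obtain ⟨w, hw, hwu, hb, -⟩ := S.exists_mul_fix hu huZ b hub
    obtain ⟨c, hc⟩ := S.exists_fix hw
    exact S.ker_fix_others hB hu huZ h2 ⟨hw, hc⟩ hwu hx hb

omit hw hwu in
/-- The members at one point commuting with `u` commute. -/
theorem commute_of_lgen {r t : G} {a : Ω} (hr : r ∈ zAt Z a) (ht : t ∈ zAt Z a) (hru : Commute r u)
    (htu : Commute t u) : Commute r t := by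
  have F := S.frame_centralizer hB hu huZ h2
  have h := F.sub.comm_mem_ker (mem_lgen hr.1 hru) (F.sub.mem_invAt hr) (mem_lgen ht.1 htu) (F.sub.mem_invAt ht)
  rw [S.ker_lgen_eq_bot hB hu huZ h2, Subgroup.mem_bot, mul_inv_eq_one, mul_inv_eq_iff_eq_mul] at h
  exact h

/-- A member at the point of `w` commutes with `u` exactly if it commutes with `u w`. -/
theorem commute_iff_mul {r : G} (hr : r ∈ zAt Z c) : Commute r u ↔ Commute r (u * w) := by
  obtain ⟨hv2, hvZ, -, hvw⟩ := S.mul_notMem hu huZ hw.1 hwu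
  refine ⟨fun h => h.mul_right (S.commute_of_lgen hB hu huZ h2 hr hw h hwu), fun h => ?_⟩
  have h1 := h.mul_right
    (S.commute_of_lgen hB hv2 hvZ (S.twoRank_mul hB hu huZ h2 hw hwu) hr hw h hvw.symm)
  rwa [mul_assoc, mul_self_of_orderOf_two (S.invol w hw.1), mul_one] at h1

end Hyp

end Cfsg.Agent.Invol.Aschbacher
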