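import Cfsg.Agent.Lib.Invol.Aschbacher.Sub
import Cfsg.Agent.Lib.Invol.Aschbacher.Pair

/-!
# Refining the points to the classes of commuting members

If commuting is transitive on the members at each point, the classes of commuting members are the points of a finer
setting of the criterion in which the members at a point commute pairwise, and with the identity form an elementary
group normal in the point stabiliser.
-/

set_option autoImplicit false
set_option linter.unusedSectionVars false

namespace Cfsg.Agent.Invol.Aschbacher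

open MulAction Subgroup
open Cfsg.Agent.Invol.Bender (conj_smul_smul)

universe u

variable {G : Type u} {Ω : Type u} [Group G] [Finite G] [MulAction G Ω] {Z : Set G}

/-- Members at one point commute. -/
def CommAt (Z : Set G) (Ω : Type u) [MulAction G Ω] : Prop :=
  ∀ c : Ω, ∀ r ∈ zAt Z c, ∀ t ∈ zAt Z c, Commute r t

/-- Commuting is transitive on the members at a point. -/
def CommTrans (Z : Set G) (Ω : Type u) [MulAction G Ω] : Prop :=
  ∀ c : Ω, ∀ r ∈ zAt Z c, ∀ s ∈ zAt Z c, ∀ t ∈ zAt Z c, Commute r s → Commute s t → Commute r t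

/-- A member and an element commuting with it as classes: two members are equivalent when they commute. -/
def commSetoid {S : Hyp G Ω Z} (hT : CommTrans Z Ω) : Setoid ↥Z where
  r a b := Commute (a : G) b
  iseqv :=
    { refl := fun a => Commute.refl _
      symm := fun h => h.symm
      trans := fun {a b c} hab hbc => by
        obtain ⟨x, hx⟩ := S.exists_fix b.2
        exact hT x a ⟨a.2, S.fix_of_commute b.2 hx hab⟩ b ⟨b.2, hx⟩ c ⟨c.2, S.fix_of_commute b.2 hx hbc.symm⟩
          hab hbc }

namespace Hyp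

variable (S : Hyp G Ω Z)
include S

/-- A 2-group permuting a class of commuting members centralises one of them. -/
theorem exists_fix_class (hT : CommTrans Z Ω) {X : Subgroup G} (hX : IsPGroup 2 X) {t : G} (ht : t ∈ Z)
    (hn : ∀ x ∈ X, Commute (x * t * x⁻¹) t) : ∃ t' ∈ Z, Commute t' t ∧ ∀ x ∈ X, Commute x t' := by
  classical
  haveI : Fact (Nat.Prime 2) := ⟨Nat.prime_two⟩
  obtain ⟨c, hc⟩ := S.exists_fix ht
  have htrans : ∀ {a b d : G}, a ∈ Z → b ∈ Z → d ∈ Z → Commute a b → Commute b d → Commute a d :=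
    fun {a b d} ha hb hd hab hbd => by
      obtain ⟨x, hx⟩ := S.exists_fix hb
      exact hT x a ⟨ha, S.fix_of_commute hb hx hab⟩ b ⟨hb, hx⟩ d ⟨hd, S.fix_of_commute hb hx hbd.symm⟩ hab hbd
  let E : Subgroup G :=
    { carrier := {g | g = 1 ∨ (g ∈ Z ∧ Commute g t)}
      one_mem' := Or.inl rfl
      inv_mem' := by
        rintro g (rfl | ⟨hg, hgt⟩)
        · exact Or.inl inv_one
        · exact Or.inr (by rw [inv_of_orderOf_two (S.invol g hg)]; exact ⟨hg, hgt⟩)
      mul_mem' := by
        rintro g h (rfl | ⟨hg, hgt⟩) (rfl | ⟨hh, hht⟩)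
        · exact Or.inl (mul_one 1)
        · exact Or.inr ((one_mul h).symm ▸ ⟨hh, hht⟩)
        · exact Or.inr ((mul_one g).symm ▸ ⟨hg, hgt⟩)
        · rcases eq_or_ne g h with rfl | hne
          · exact Or.inl (mul_self_of_orderOf_two (S.invol g hg))
          · exact Or.inr ⟨S.mul_mem hg hh hne (htrans hg ht hh hgt hht.symm), hgt.mul_left hht⟩ }
  have hnE : ∀ x ∈ X, ∀ g ∈ E, x * g * x⁻¹ ∈ E := by
    rintro x hx g (rfl | ⟨hg, hgt⟩)
    · exact Or.inl (by group)
    · exact Or.inr ⟨S.conj_mem x g hg, htrans (S.conj_mem x g hg) (S.conj_mem x t ht) ht (hgt.conj x) (hn x hx)⟩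
  have hEp : IsPGroup 2 E := fun g => ⟨1, by
    rcases g.2 with h | ⟨h, -⟩
    · exact Subtype.ext (by rw [SubmonoidClass.coe_pow, h, one_pow, OneMemClass.coe_one])
    · exact Subtype.ext (by
        rw [SubmonoidClass.coe_pow, pow_one, ← S.invol _ h, pow_orderOf_eq_one, OneMemClass.coe_one])⟩
  letI : MulAction X E :=
    { smul := fun x g => ⟨(x : G) * g * (x : G)⁻¹, hnE x x.2 g g.2⟩
      one_smul := fun g => Subtype.ext (by show (1 : G) * g * (1 : G)⁻¹ = g; group)
      mul_smul := fun x y g => Subtype.ext (by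
        show (x * y : G) * g * (x * y : G)⁻¹ = x * ((y : G) * g * (y : G)⁻¹) * (x : G)⁻¹; group) }
  haveI : Nontrivial E := ⟨⟨⟨t, Or.inr ⟨ht, Commute.refl t⟩⟩, 1, fun h => by
    have h1 : t = 1 := congrArg Subtype.val h
    have h2 := S.invol t ht
    rw [h1, orderOf_one] at h2
    omega⟩⟩
  obtain ⟨k, hk0, hk⟩ := hEp.nontrivial_iff_card.1 inferInstance
  have hone : (1 : E) ∈ MulAction.fixedPoints X E := fun x => Subtype.ext (by
    show (x : G) * 1 * (x : G)⁻¹ = 1
    group)
  obtain ⟨g, hg, hne⟩ := hX.exists_fixed_point_of_prime_dvd_card_of_fixed_point E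
    (hk ▸ dvd_pow_self 2 hk0.ne') hone
  rcases g.2 with h | ⟨hgZ, hgt⟩
  · exact absurd (Subtype.ext h.symm : (1 : E) = g) hne
  · refine ⟨g, hgZ, hgt, fun x hx => ?_⟩
    exact mul_inv_eq_iff_eq_mul.1 (congrArg Subtype.val (hg ⟨x, hx⟩))

/-- The setting on the classes of commuting members. -/
theorem exists_refine [FaithfulSMul G Ω] (hb : Below.{u, u} (Nat.card G)) (hT : CommTrans Z Ω) :
    ∃ (Ω' : Type u) (_ : MulAction G Ω'), FaithfulSMul G Ω' ∧ Hyp G Ω' Z ∧ CommAt Z Ω' := by
  classical
  haveI : Fact (Nat.Prime 2) := ⟨Nat.prime_two⟩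
  letI hs : Setoid ↥Z := commSetoid (S := S) hT
  let act : MulAction G (Quotient hs) :=
    { smul := fun g => Quotient.map (fun z => ⟨g * z * g⁻¹, S.conj_mem g z z.2⟩) fun a b h => Commute.conj h g
      one_smul := fun q => Quotient.inductionOn q fun z =>
        congrArg (Quotient.mk hs) (Subtype.ext (by show (1 : G) * z * (1 : G)⁻¹ = z; group))
      mul_smul := fun g h q => Quotient.inductionOn q fun z =>
        congrArg (Quotient.mk hs) (Subtype.ext (by
          show g * h * z * (g * h)⁻¹ = g * (h * z * h⁻¹) * g⁻¹; group)) }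
  letI := act
  have hfix : ∀ (g : G) (z : ↥Z), g • (Quotient.mk hs z) = Quotient.mk hs z ↔ Commute (g * z * g⁻¹) (z : G) :=
    fun g z => ⟨fun h => Quotient.exact h, fun h => Quotient.sound h⟩
  have hpt : ∀ (g : G) (z : ↥Z) (x : Ω), (z : G) • x = x → g • (Quotient.mk hs z) = Quotient.mk hs z →
      g • x = x := fun g z x hx h => by
    refine S.fix_unique z.2 ?_ hx
    refine S.fix_of_commute (S.conj_mem g z z.2) (by rw [conj_smul_smul, hx]) ((hfix g z).1 h).symm
  have hswap : ∀ (a b : ↥Z) (x y : Ω), (a : G) • x = x → (b : G) • y = y → x ≠ y →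
      ∃ g : G, g • (Quotient.mk hs a) = Quotient.mk hs b := by
    intro a b x y hx hy hxy
    obtain ⟨m, -, -, hm, -⟩ := S.exists_swapper a.2 b.2 hx hy hxy
    exact ⟨m, congrArg (Quotient.mk hs) (Subtype.ext hm)⟩
  have htrans : ∀ {a b d : G}, a ∈ Z → b ∈ Z → d ∈ Z → Commute a b → Commute b d → Commute a d :=
    fun {a b d} ha hb' hd hab hbd => (commSetoid (S := S) hT).trans (a := ⟨a, ha⟩) (b := ⟨b, hb'⟩) (c := ⟨d, hd⟩)
      hab hbd
  refine ⟨Quotient hs, act, ⟨fun {g h} hgh => ?_⟩, ?_, ?_⟩
  · refine eq_of_smul_eq_smul (α := Ω) fun x => ?_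
    obtain ⟨z, hz⟩ := S.zAt_nonempty x
    have h1 : (h⁻¹ * g) • (Quotient.mk hs ⟨z, hz.1⟩) = Quotient.mk hs ⟨z, hz.1⟩ := by
      rw [mul_smul, hgh, inv_smul_smul]
    have h2 := hpt _ ⟨z, hz.1⟩ x hz.2 h1
    rwa [mul_smul, inv_smul_eq_iff] at h2
  · refine ⟨⟨fun p q => ?_⟩, ?_, S.nonempty, S.invol, fun z hz => ?_, S.conj_mem, S.notMem_lgen, ?_⟩
    · induction p using Quotient.inductionOn with | _ a => ?_
      induction q using Quotient.inductionOn with | _ b => ?_
      obtain ⟨x, hx⟩ := S.exists_fix a.2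
      obtain ⟨y, hy⟩ := S.exists_fix b.2
      haveI := S.nontrivial
      obtain ⟨e, he⟩ := exists_ne x
      rcases eq_or_ne x y with rfl | hxy
      · obtain ⟨t, ht⟩ := S.zAt_nonempty e
        obtain ⟨g, hg⟩ := hswap a ⟨t, ht.1⟩ x e hx ht.2 he.symm
        obtain ⟨h, hh⟩ := hswap ⟨t, ht.1⟩ b e x ht.2 hy he
        exact ⟨h * g, by rw [mul_smul, hg, hh]⟩
      · exact hswap a b x y hx hy hxy
    · obtain ⟨x, y, hxy⟩ := S.nontrivial.exists_pair_ne
      obtain ⟨a, ha⟩ := S.zAt_nonempty x
      obtain ⟨b, hb'⟩ := S.zAt_nonempty y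
      refine ⟨⟨Quotient.mk hs ⟨a, ha.1⟩, Quotient.mk hs ⟨b, hb'.1⟩, fun h => hxy ?_⟩⟩
      exact S.fix_unique ha.1 ha.2 (S.fix_of_commute hb'.1 hb'.2 (Quotient.exact h))
    · refine ⟨Quotient.mk hs ⟨z, hz⟩, (hfix z ⟨z, hz⟩).2 (by
        show Commute (z * z * z⁻¹) z; rw [mul_inv_cancel_right]), fun q => ?_⟩
      induction q using Quotient.inductionOn with | _ t => ?_
      intro hq
      obtain ⟨t', ht', ht't, hzt'⟩ := S.exists_fix_class hT (X := Subgroup.zpowers z)
        (IsPGroup.of_card (n := 1) (by rw [Nat.card_zpowers, S.invol z hz, pow_one])) t.2 (fun x hx => by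
          obtain ⟨k, rfl⟩ := Subgroup.mem_zpowers_iff.1 hx
          rcases zpow_eq_one_or_self (S.invol z hz) k with h | h <;> rw [h]
          · simp
          · exact (hfix z t).1 hq)
      refine Quotient.sound ?_
      exact htrans t.2 ht' hz ht't.symm ((hzt' z (Subgroup.mem_zpowers z)).symm)
    · intro u hu huZ r hr hr2 p q
      induction p using Quotient.inductionOn with | _ a => ?_
      induction q using Quotient.inductionOn with | _ b => ?_
      intro hua hub hra hrb
      obtain ⟨x, hx⟩ := S.exists_fix a.2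
      obtain ⟨f, hf, hfx⟩ := S.exists_other_fix hu huZ x
      have hrZ : r ∈ Z := S.allZ_lgen hb hu huZ ⟨f, hf, x, hpt u a x hx hua, hfx⟩ r hr hr2
      have key : ∀ c : ↥Z, r • (Quotient.mk hs c) = Quotient.mk hs c → Commute r (c : G) := by
        intro c hc
        obtain ⟨t', ht', ht'c, hrt'⟩ := S.exists_fix_class hT (X := Subgroup.zpowers r)
          (IsPGroup.of_card (n := 1) (by rw [Nat.card_zpowers, hr2, pow_one])) c.2 (fun x hx => by
            obtain ⟨k, rfl⟩ := Subgroup.mem_zpowers_iff.1 hx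
            rcases zpow_eq_one_or_self hr2 k with h | h <;> rw [h]
            · simp
            · exact (hfix r c).1 hc)
        exact htrans hrZ ht' c.2 (hrt' r (Subgroup.mem_zpowers r)) ht'c
      refine Quotient.sound ?_
      exact htrans a.2 hrZ b.2 (key a hra).symm (key b hrb)
  · intro q r hr t ht
    induction q using Quotient.inductionOn with | _ a => ?_
    have key : ∀ z ∈ Z, z • (Quotient.mk hs a) = Quotient.mk hs a → Commute z (a : G) := by
      intro z hz hc
      obtain ⟨t', ht', ht'c, hzt'⟩ := S.exists_fix_class hT (X := Subgroup.zpowers z)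
        (IsPGroup.of_card (n := 1) (by rw [Nat.card_zpowers, S.invol z hz, pow_one])) a.2 (fun x hx => by
          obtain ⟨k, rfl⟩ := Subgroup.mem_zpowers_iff.1 hx
          rcases zpow_eq_one_or_self (S.invol z hz) k with h | h <;> rw [h]
          · simp
          · exact (hfix z a).1 hc)
      exact htrans hz ht' a.2 (hzt' z (Subgroup.mem_zpowers z)) ht'c
    exact htrans hr.1 a.2 ht.1 (key r hr.1 hr.2) (key t ht.1 ht.2).symm

/-- The members at a point form an elementary group with the identity. -/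
theorem exists_elementary (hA : CommAt Z Ω) (c : Ω) : ∃ E : Subgroup G,
    (∀ g, g ∈ E ↔ g = 1 ∨ g ∈ zAt Z c) ∧ IsPGroup 2 E ∧ (∀ g ∈ E, ∀ h ∈ E, Commute g h) ∧
      stabilizer G c ≤ normalizer (E : Set G) := by
  classical
  let E : Subgroup G :=
    { carrier := {g | g = 1 ∨ g ∈ zAt Z c}
      one_mem' := Or.inl rfl
      inv_mem' := by
        rintro g (rfl | hg)
        · exact Or.inl inv_one
        · exact Or.inr (by rw [inv_of_orderOf_two (S.invol g hg.1)]; exact hg)
      mul_mem' := by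
        rintro g h (rfl | hg) (rfl | hh)
        · exact Or.inl (mul_one 1)
        · exact Or.inr ((one_mul h).symm ▸ hh)
        · exact Or.inr ((mul_one g).symm ▸ hg)
        · rcases eq_or_ne g h with rfl | hne
          · exact Or.inl (mul_self_of_orderOf_two (S.invol g hg.1))
          · exact Or.inr ⟨S.mul_mem hg.1 hh.1 hne (hA c g hg h hh), by rw [mul_smul, hh.2, hg.2]⟩ }
  refine ⟨E, fun _ => Iff.rfl, fun g => ⟨1, ?_⟩, ?_, fun x hx => Subgroup.mem_normalizer_fintype fun g hg => ?_⟩
  · rcases g.2 with h | h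
    · exact Subtype.ext (by rw [SubmonoidClass.coe_pow, h, one_pow, OneMemClass.coe_one])
    · exact Subtype.ext (by
        rw [SubmonoidClass.coe_pow, pow_one, ← S.invol _ h.1, pow_orderOf_eq_one, OneMemClass.coe_one])
  · rintro g (rfl | hg) h hh
    · exact Commute.one_left h
    · rcases hh with rfl | hh
      · exact Commute.one_right g
      · exact hA c g hg h hh
  · rcases hg with rfl | hg
    · exact Or.inl (by group)
    · refine Or.inr ⟨S.conj_mem x g hg.1, ?_⟩
      conv_lhs => rw [← mem_stabilizer_iff.1 hx]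
      rw [conj_smul_smul, hg.2, mem_stabilizer_iff.1 hx]

end Hyp

end Cfsg.Agent.Invol.Aschbacher
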