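import Cfsg.Agent.Lib.Invol.Aschbacher.LStruct
import Cfsg.Agent.Lib.Invol.Aschbacher.Refine

/-!
# Counting the points moved by an involution outside `Z`

If `c ≥ 2` of the `m` members at a fixed point of `u` commute with `u`, and `u` has `n` fixed points, then it moves
`n (n - 1) c ^ 2 / m` points.  With commuting members at each point `c + 1` is `m + 1` or its square root; if it is
`m + 1` for all involutions outside `Z` then they all fix equally many points.
-/

set_option autoImplicit false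
set_option linter.unusedSectionVars false

namespace Cfsg.Agent.Invol.Aschbacher

open MulAction Subgroup
open Cfsg.Agent.Invol.Bender (conj_smul_smul TwoRank)

universe u

variable {G : Type u} [Group G] [Finite G] {Ω : Type u} [MulAction G Ω] {Z : Set G}

theorem card_sigma_const {ι : Type*} [Finite ι] {β : ι → Type*} [∀ i, Finite (β i)] {c : ℕ}
    (h : ∀ i, Nat.card (β i) = c) : Nat.card (Σ i, β i) = Nat.card ι * c := by
  haveI := Fintype.ofFinite ι
  rw [Nat.card_sigma, Finset.sum_congr rfl fun i _ => h i, Finset.sum_const, Finset.card_univ, smul_eq_mul,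
    Nat.card_eq_fintype_card]

/-- An exponent `n` in `[k, 2k]` with `2 ^ k - 1` dividing `2 ^ n - 1` is `k` or `2k`. -/
theorem exponent_cases {k n : ℕ} (hk : 1 ≤ k) (h1 : k ≤ n) (h2 : n ≤ 2 * k) (hd : (2 ^ k - 1) ∣ (2 ^ n - 1)) :
    n = k ∨ n = 2 * k := by
  obtain ⟨j, rfl⟩ := Nat.exists_eq_add_of_le h1
  have hj : j ≤ k := by omega
  have e : 2 ^ (k + j) - 1 = 2 ^ j * (2 ^ k - 1) + (2 ^ j - 1) := by
    have h3 := Nat.one_le_two_pow (n := j)
    have h4 := Nat.one_le_two_pow (n := k)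
    rw [pow_add, mul_comm (2 ^ j), Nat.sub_mul, one_mul]
    have : 2 ^ j ≤ 2 ^ k * 2 ^ j := Nat.le_mul_of_pos_left _ (by omega)
    omega
  rw [e, Nat.dvd_add_right (Dvd.intro_left _ rfl)] at hd
  rcases eq_or_lt_of_le hj with rfl | hlt
  · omega
  · have h3 : 2 ^ j < 2 ^ k := Nat.pow_lt_pow_right (by omega) hlt
    have h4 := Nat.one_le_two_pow (n := j)
    have h5 := Nat.eq_zero_of_dvd_of_lt hd (by omega)
    rcases Nat.eq_zero_or_pos j with rfl | hj0
    · omega
    · have := Nat.one_lt_two_pow hj0.ne'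
      omega

namespace Hyp

variable (S : Hyp G Ω Z)
include S

omit [Finite G] in
theorem cAt_nonempty [Finite G] {u : G} (hu : orderOf u = 2) {a : Ω} (ha : u • a = a) : (cAt Z u a).Nonempty := by
  obtain ⟨e, he, heu⟩ := S.exists_partner_invol hu ha
  exact ⟨e, he, heu⟩

/-- As many members commute with `u` at each of its fixed points. -/
theorem ncard_cAt_eq {u : G} (hu : orderOf u = 2) {a b : Ω} (ha : u • a = a) (hb : u • b = b) :
    (cAt Z u a).ncard = (cAt Z u b).ncard := by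
  rcases eq_or_ne a b with rfl | hab
  · rfl
  suffices h : ∀ {a b : Ω}, u • a = a → u • b = b → a ≠ b → (cAt Z u a).ncard ≤ (cAt Z u b).ncard from
    le_antisymm (h ha hb hab) (h hb ha hab.symm)
  intro a b ha hb hab
  obtain ⟨e, he, heu⟩ := S.exists_partner_invol hu ha
  obtain ⟨f, hf, hfu⟩ := S.exists_partner_invol hu hb
  obtain ⟨g, hg, hgef⟩ := S.exists_conj_lgen hu ha hb hab he.1 heu hf.1 hfu
  have hga : g • a = b := S.fix_unique hf.1 (by rw [← hgef, conj_smul_smul, he.2]) hf.2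
  refine Set.ncard_le_ncard_of_injOn (fun t => g * t * g⁻¹) (fun t ht => ⟨hga ▸ S.zAt_conj ht.1, ?_⟩)
    (fun s _ t _ h => mul_left_cancel (mul_right_cancel h)) (Set.toFinite _)
  have hgu : Commute g u := commute_of_mem_lgen hg
  exact (hgu.mul_left ht.2).mul_left hgu.inv_left

/-- Two commuting members at a point commuting with `u` give two-rank two. -/
theorem twoRank_of_two_le (hA : CommAt Z Ω) {u : G} {a : Ω} (hc : 2 ≤ (cAt Z u a).ncard) :
    TwoRank (lgen Z u) := by
  obtain ⟨x, hx, y, hy, hxy⟩ := (Set.one_lt_ncard (Set.toFinite _)).1 hc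
  exact ⟨x, mem_lgen hx.1.1 hx.2, y, mem_lgen hy.1.1 hy.2, S.invol x hx.1.1, S.invol y hy.1.1, hxy,
    hA a x hx.1 y hy.1⟩

variable [FaithfulSMul G Ω] (hB : ClosedBelow Ω Z) (hA : CommAt Z Ω)
include hB hA

variable {u : G} (hu : orderOf u = 2) (huZ : u ∉ Z) {a : Ω} (ha : u • a = a) (hc : 2 ≤ (cAt Z u a).ncard)
include hu huZ ha hc

/-- The product with a member at a fixed point has the same fixed point and member counts. -/
theorem counts_mul {p : Ω} {w : G} (hp : u • p = p) (hw : w ∈ cAt Z u p) :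
    (others (u * w) p).ncard = (others u a).ncard ∧
      ∀ x : Ω, (u * w) • x = x → (cAt Z (u * w) x).ncard = (cAt Z u a).ncard := by
  have h2 := S.twoRank_of_two_le hA hc
  refine ⟨?_, fun x hx => ?_⟩
  · rw [← S.card_others_eq hB hu huZ h2 hw.1 hw.2]
    haveI := S.finite_points
    have key : ∀ y : Ω, u • y = y → (others u y).ncard + 1 = {x : Ω | u • x = x}.ncard := fun y hy => by
      rw [← Set.ncard_insert_of_notMem (a := y) (fun h => h.2 rfl) (Set.toFinite _)]
      congr 1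
      ext x
      exact ⟨fun h => h.elim (fun e => e ▸ hy) fun h => h.1,
        fun h => (eq_or_ne x y).imp id fun hne => ⟨h, hne⟩⟩
    have h3 := key p hp
    have h4 := key a ha
    omega
  · obtain ⟨hv2, -, -, -⟩ := S.mul_notMem hu huZ hw.1.1 hw.2
    have hvp : (u * w) • p = p := by rw [mul_smul, hw.1.2, hp]
    rw [S.ncard_cAt_eq hv2 hx hvp, S.ncard_cAt_eq hu ha hp]
    congr 1
    ext r
    exact ⟨fun h => ⟨h.1, (S.commute_iff_mul hB hu huZ h2 hw.1 hw.2 h.1).2 h.2⟩,
      fun h => ⟨h.1, (S.commute_iff_mul hB hu huZ h2 hw.1 hw.2 h.1).1 h.2⟩⟩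

/-- The members at a moved point fall into middle classes of size `c`. -/
theorem cAt_dvd {b : Ω} (hb : u • b ≠ b) : (cAt Z u a).ncard ∣ (zAt Z b).ncard := by
  classical
  let W := {w : G // w ∈ Z ∧ Commute w u ∧ (u * w) • b = b}
  have hsize : ∀ w : W, Nat.card (cAt Z (u * w.1) b) = (cAt Z u a).ncard := fun w => by
    obtain ⟨p, hp⟩ := S.exists_fix w.2.1
    rw [Nat.card_coe_set_eq]
    exact (S.counts_mul hB hA hu huZ ha hc (S.fix_of_commute w.2.1 hp w.2.2.1.symm) ⟨⟨w.2.1, hp⟩, w.2.2.1⟩).2 b w.2.2.2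
  rw [← Nat.card_coe_set_eq (zAt Z b)]
  refine Dvd.intro_left (Nat.card W) ?_
  rw [← card_sigma_const hsize]
  refine Nat.card_eq_of_bijective (fun q => ⟨(q.2 : G), q.2.2.1⟩) ⟨fun q q' h => ?_, fun t => ?_⟩
  · obtain ⟨⟨w, hw⟩, t, ht⟩ := q
    obtain ⟨⟨w', hw'⟩, t', ht'⟩ := q'
    obtain rfl : t = t' := congrArg Subtype.val h
    obtain rfl := S.middle_unique hu huZ hb ht.1 hw.1 hw.2.1 ht.2.symm hw'.1 hw'.2.1 ht'.2.symm
    rfl
  · obtain ⟨w, hw, hwu, hwt, hwb, -⟩ := S.exists_middle hu huZ hb t.2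
    exact ⟨⟨⟨w, hw, hwu, hwb⟩, t, t.2, hwt.symm⟩, rfl⟩

/-- The count of the moved points. -/
theorem card_moved_mul : {x : Ω | u • x ≠ x}.ncard * (zAt Z a).ncard =
    {x : Ω | u • x = x}.ncard * (others u a).ncard * (cAt Z u a).ncard ^ 2 := by
  classical
  haveI := S.finite_points
  let B := Σ p : {p : Ω // u • p = p}, Σ w : cAt Z u (p : Ω), Σ x : others (u * (w : G)) (p : Ω),
    cAt Z (u * (w : G)) (x : Ω)
  let A := Σ x : {x : Ω // u • x ≠ x}, zAt Z (x : Ω)
  have hA' : Nat.card A = {x : Ω | u • x ≠ x}.ncard * (zAt Z a).ncard := by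
    rw [card_sigma_const (c := (zAt Z a).ncard) fun x => ?_, ← Nat.card_coe_set_eq]
    · rfl
    · rw [S.card_zAt x.1 a, Nat.card_coe_set_eq]
  have hB' : Nat.card B = {x : Ω | u • x = x}.ncard *
      ((cAt Z u a).ncard * ((others u a).ncard * (cAt Z u a).ncard)) := by
    rw [card_sigma_const fun p => ?_, ← Nat.card_coe_set_eq]
    · rfl
    · rw [card_sigma_const fun w => ?_, Nat.card_coe_set_eq, S.ncard_cAt_eq hu p.2 ha]
      obtain ⟨h1, h2⟩ := S.counts_mul hB hA hu huZ ha hc p.2 w.2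
      rw [card_sigma_const (fun x : others (u * (w : G)) (p : Ω) => (Nat.card_coe_set_eq _).trans (h2 x.1 x.2.1)),
        Nat.card_coe_set_eq, h1]
  have hbij : Nat.card B = Nat.card A := by
    refine Nat.card_eq_of_bijective (fun q => ⟨⟨(q.2.2.1 : Ω), fun h => q.2.2.1.2.2 (S.fix_unique q.2.1.2.1.1 ?_
      q.2.1.2.1.2)⟩, (q.2.2.2 : G), q.2.2.2.2.1⟩) ⟨fun q q' h => ?_, fun q => ?_⟩
    · have h1 := q.2.2.1.2.1
      rw [mul_smul] at h1
      exact smul_left_cancel u (h1.trans h.symm)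
    · obtain ⟨⟨p, hp⟩, ⟨w, hw⟩, ⟨x, hx⟩, t, ht⟩ := q
      obtain ⟨⟨p', hp'⟩, ⟨w', hw'⟩, ⟨x', hx'⟩, t', ht'⟩ := q'
      obtain rfl : x = x' := congrArg (fun r : A => (r.1 : Ω)) h
      obtain rfl : t = t' := congrArg (fun r : A => (r.2 : G)) h
      have hux : u • x ≠ x := fun e => by
        have h1 := hx.1
        rw [mul_smul] at h1
        exact hx.2 (S.fix_unique hw.1.1 (smul_left_cancel u (h1.trans e.symm)) hw.1.2)
      obtain rfl := S.middle_unique hu huZ hux ht.1 hw.1.1 hw.2 ht.2.symm hw'.1.1 hw'.2 ht'.2.symm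
      obtain rfl := S.fix_unique hw.1.1 hw.1.2 hw'.1.2
      rfl
    · obtain ⟨⟨x, hx⟩, t, ht⟩ := q
      obtain ⟨w, hw, hwu, hwt, hwb, -⟩ := S.exists_middle hu huZ hx ht
      obtain ⟨p, hp⟩ := S.exists_fix hw
      have hup := S.fix_of_commute hw hp hwu.symm
      exact ⟨⟨⟨p, hup⟩, ⟨w, ⟨hw, hp⟩, hwu⟩, ⟨x, hwb, fun e => hx (e.symm ▸ hup)⟩, t, ht, hwt.symm⟩, rfl⟩
  rw [← hA', ← hbij, hB']
  ring

end Hyp

namespace Hyp

variable (S : Hyp G Ω Z)
include S

/-- With commuting members at a point, all of them plus one is a power of two, and so is the number of those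
commuting with an involution, whose square bounds it. -/
theorem card_pow_two (hA : CommAt Z Ω) {u : G} (hu : orderOf u = 2) {a : Ω} (ha : u • a = a) :
    ∃ n k : ℕ, (zAt Z a).ncard + 1 = 2 ^ n ∧ (cAt Z u a).ncard + 1 = 2 ^ k ∧ 1 ≤ k ∧ k ≤ n ∧ n ≤ 2 * k := by
  classical
  haveI : Fact (Nat.Prime 2) := ⟨Nat.prime_two⟩
  obtain ⟨E, hE, hEp, hEc, hEn⟩ := S.exists_elementary hA a
  have hEcard : Nat.card E = (zAt Z a).ncard + 1 := by
    rw [← Set.ncard_insert_of_notMem (a := (1 : G)) (fun h => ?_), ← Nat.card_coe_set_eq]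
    · exact Nat.card_congr (Equiv.subtypeEquivRight fun g => hE g)
    · have := S.invol _ h.1
      rw [orderOf_one] at this
      omega
  obtain ⟨C, hC⟩ : ∃ C, C = E ⊓ Subgroup.centralizer ({u} : Set G) := ⟨_, rfl⟩
  have hCcard : Nat.card C = (cAt Z u a).ncard + 1 := by
    rw [← Set.ncard_insert_of_notMem (a := (1 : G)) (fun h => ?_), ← Nat.card_coe_set_eq]
    · refine Nat.card_congr (Equiv.subtypeEquivRight fun g => ?_)
      rw [hC, Subgroup.mem_inf, hE, Subgroup.mem_centralizer_singleton_iff]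
      exact ⟨fun h => h.1.imp id fun h1 => ⟨h1, h.2⟩, fun h => h.elim
        (fun e => ⟨Or.inl e, by rw [e, one_mul, mul_one]⟩) fun h => ⟨Or.inr h.1, h.2.eq⟩⟩
    · have := S.invol _ h.1.1
      rw [orderOf_one] at this
      omega
  obtain ⟨n, hn⟩ := hEp.exists_card_eq
  obtain ⟨k, hk⟩ := (hEp.to_le (hC ▸ inf_le_left : C ≤ E)).exists_card_eq
  refine ⟨n, k, hEcard ▸ hn, hCcard ▸ hk, ?_, ?_, ?_⟩
  · rcases Nat.eq_zero_or_pos k with rfl | h
    · rw [hk, pow_zero] at hCcard
      have := (S.cAt_nonempty hu ha).ncard_pos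
      omega
    · exact h
  · refine (Nat.pow_le_pow_iff_right (one_lt_two : 1 < 2)).1 ?_
    rw [← hn, ← hk]
    exact Subgroup.card_le_of_le (hC ▸ inf_le_left)
  · have hmem : ∀ e : E, u * (e : G) * u⁻¹ ∈ E := fun e => by
      rcases (hE e).1 e.2 with h | h
      · rw [h]; simp
      · exact (hE _).2 (Or.inr (by
          have := S.zAt_conj (g := u) h
          rwa [ha] at this))
    let f : E →* E :=
      { toFun := fun e => e * ⟨_, hmem e⟩
        map_one' := Subtype.ext (by simp)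
        map_mul' := fun x y => Subtype.ext (by
          show (x : G) * y * (u * (x * y) * u⁻¹) = x * (u * x * u⁻¹) * (y * (u * y * u⁻¹))
          calc (x : G) * y * (u * (x * y) * u⁻¹) = x * (y * (u * x * u⁻¹)) * (u * y * u⁻¹) := by group
            _ = x * ((u * x * u⁻¹) * y) * (u * y * u⁻¹) := by rw [(hEc _ y.2 _ (hmem x)).eq]
            _ = x * (u * x * u⁻¹) * (y * (u * y * u⁻¹)) := by group) }
    have hinv : ∀ e ∈ E, e⁻¹ = e := fun e he => by
      rcases (hE e).1 he with h | h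
      · rw [h, inv_one]
      · exact inv_of_orderOf_two (S.invol e h.1)
    have hker : f.ker = C.subgroupOf E := by
      ext e
      rw [MonoidHom.mem_ker, Subgroup.mem_subgroupOf, hC, Subgroup.mem_inf, and_iff_right e.2,
        Subgroup.mem_centralizer_singleton_iff]
      show e * ⟨_, hmem e⟩ = 1 ↔ _
      rw [Subtype.ext_iff]
      show (e : G) * (u * e * u⁻¹) = 1 ↔ _
      rw [mul_eq_one_iff_inv_eq, hinv e e.2, eq_mul_inv_iff_mul_eq]
    have hrange : f.range ≤ C.subgroupOf E := by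
      rintro _ ⟨e, rfl⟩
      rw [Subgroup.mem_subgroupOf, hC, Subgroup.mem_inf, Subgroup.mem_centralizer_singleton_iff]
      refine ⟨(f e).2, (mul_inv_eq_iff_eq_mul.1 ?_).symm⟩
      show u * (e * (u * e * u⁻¹)) * u⁻¹ = e * (u * e * u⁻¹)
      rw [(hEc _ e.2 _ (hmem e)).eq]
      have huu := mul_self_of_orderOf_two hu
      rw [inv_of_orderOf_two hu]
      calc u * (u * e * u * e) * u = u * u * e * (u * e * u) := by group
        _ = e * (u * e * u) := by rw [huu, one_mul]
        _ = u * e * u * e := by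
          rw [← inv_of_orderOf_two hu]
          nth_rewrite 1 3 [inv_of_orderOf_two hu]
          exact (hEc _ e.2 _ (inv_of_orderOf_two hu ▸ hmem e)).eq
    have h1 := Subgroup.card_eq_card_quotient_mul_card_subgroup f.ker
    rw [Nat.card_congr (QuotientGroup.quotientKerEquivRange f).toEquiv, hker,
      Nat.card_congr (subgroupOfEquivOfLe (hC ▸ inf_le_left : C ≤ E)).toEquiv] at h1
    have h2 : Nat.card f.range ≤ Nat.card C :=
      (Subgroup.card_le_of_le hrange).trans (Nat.card_congr (subgroupOfEquivOfLe (hC ▸ inf_le_left : C ≤ E)).toEquiv).le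
    refine (Nat.pow_le_pow_iff_right (one_lt_two : 1 < 2)).1 ?_
    rw [two_mul, pow_add, ← hn, h1, ← hk]
    exact Nat.mul_le_mul_right _ h2

variable [FaithfulSMul G Ω] (hB : ClosedBelow Ω Z) (hA : CommAt Z Ω)
include hB hA

/-- The members commuting with `u` together with one are all or a square root. -/
theorem cAt_eq_or_sq {u : G} (hu : orderOf u = 2) (huZ : u ∉ Z) {a : Ω} (ha : u • a = a) :
    (cAt Z u a).ncard = (zAt Z a).ncard ∨ (zAt Z a).ncard + 1 = ((cAt Z u a).ncard + 1) ^ 2 := by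
  obtain ⟨n, k, hn, hk, hk1, hkn, hnk⟩ := S.card_pow_two hA hu ha
  rcases eq_or_lt_of_le hk1 with rfl | hk2
  · rcases eq_or_lt_of_le hkn with rfl | h
    · left; omega
    · obtain rfl : n = 2 := by omega
      right
      rw [hn, hk]
      norm_num
  · have hc : 2 ≤ (cAt Z u a).ncard := by
      have h4 : 2 ^ 2 ≤ 2 ^ k := Nat.pow_le_pow_right two_pos hk2
      omega
    have hmove : ∃ b : Ω, u • b ≠ b := by
      by_contra h
      push Not at h
      have h1 : u = 1 := eq_of_smul_eq_smul (α := Ω) fun x => by rw [h x, one_smul]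
      rw [h1, orderOf_one] at hu
      omega
    obtain ⟨b, hb⟩ := hmove
    have hd := S.cAt_dvd hB hA hu huZ ha hc hb
    have hm : (zAt Z b).ncard = (zAt Z a).ncard := by
      rw [← Nat.card_coe_set_eq, ← Nat.card_coe_set_eq, S.card_zAt b a]
    rw [hm, show (zAt Z a).ncard = 2 ^ n - 1 by omega, show (cAt Z u a).ncard = 2 ^ k - 1 by omega] at hd
    rcases exponent_cases hk1 hkn hnk hd with rfl | rfl
    · left; omega
    · right; rw [hn, hk, ← pow_mul, mul_comm]

/-- If all members at a fixed point commute with `u`, its fixed point count gives the degree. -/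
theorem card_points {u : G} (hu : orderOf u = 2) (huZ : u ∉ Z) {a : Ω} (ha : u • a = a)
    (hm : 2 ≤ (zAt Z a).ncard) (hall : ∀ e ∈ zAt Z a, Commute e u) :
    Nat.card Ω = ((others u a).ncard + 1) * (1 + (others u a).ncard * (zAt Z a).ncard) := by
  haveI := S.finite_points
  have hc : cAt Z u a = zAt Z a := Set.ext fun e => ⟨fun h => h.1, fun h => ⟨h, hall e h⟩⟩
  have h := S.card_moved_mul hB hA hu huZ ha (by rw [hc]; exact hm)
  have hn : {x : Ω | u • x = x}.ncard = (others u a).ncard + 1 := by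
    rw [← Set.ncard_insert_of_notMem (a := a) (fun h => h.2 rfl) (Set.toFinite _)]
    congr 1
    ext x
    exact ⟨fun hx => (eq_or_ne x a).imp id fun hne => ⟨hx, hne⟩, fun hx => hx.elim (fun e => e ▸ ha) fun hx => hx.1⟩
  rw [hc, hn, pow_two, ← mul_assoc] at h
  have h1 := Nat.eq_of_mul_eq_mul_right (by omega) h
  have hN := Set.ncard_add_ncard_compl {x : Ω | u • x = x}
  rw [show ({x : Ω | u • x = x})ᶜ = {x : Ω | u • x ≠ x} from rfl, hn, h1] at hN
  rw [← hN]
  ring

/-- All such involutions fix equally many points. -/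
theorem others_eq_others {u v : G} (hu : orderOf u = 2) (huZ : u ∉ Z) (hv : orderOf v = 2) (hvZ : v ∉ Z) {a b : Ω}
    (ha : u • a = a) (hb : v • b = b) (hm : 2 ≤ (zAt Z a).ncard) (hua : ∀ e ∈ zAt Z a, Commute e u)
    (hvb : ∀ e ∈ zAt Z b, Commute e v) : (others u a).ncard = (others v b).ncard := by
  have hab : (zAt Z b).ncard = (zAt Z a).ncard := by
    rw [← Nat.card_coe_set_eq, ← Nat.card_coe_set_eq, S.card_zAt b a]
  have h1 := S.card_points hB hA hu huZ ha hm hua
  have h2 := S.card_points hB hA hv hvZ hb (hab ▸ hm) hvb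
  rw [h1, hab] at h2
  by_contra hne
  rcases lt_or_gt_of_ne hne with h | h
  · exact absurd h2 (ne_of_lt (Nat.mul_lt_mul'' (by omega)
      (Nat.add_lt_add_left (Nat.mul_lt_mul_of_pos_right h (by omega)) 1)))
  · exact absurd h2 (ne_of_gt (Nat.mul_lt_mul'' (by omega)
      (Nat.add_lt_add_left (Nat.mul_lt_mul_of_pos_right h (by omega)) 1)))

end Hyp

end Cfsg.Agent.Invol.Aschbacher
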