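import Cfsg.Agent.Lib.Invol.Aschbacher.NoKernel
import Cfsg.Agent.Lib.Invol.Aschbacher.Sub

/-!
# Frames from the inductive hypothesis

If all involutions generated by the members in a proper subgroup are members, Bender's theorem gives the frames.
-/

set_option autoImplicit false
set_option linter.unusedSectionVars false

namespace Cfsg.Agent.Invol.Aschbacher

open MulAction Subgroup
open Cfsg.Agent.Invol.Bender (cen TwoRank)

universe u

/-- The group generated by the members of `Z` in `M`. -/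
abbrev zgen {G : Type u} [Group G] (Z : Set G) (M : Subgroup G) : Subgroup G :=
  Subgroup.closure {z | z ∈ Z ∧ z ∈ M}

variable {G : Type u} [Group G] [Finite G] {Ω : Type u} [MulAction G Ω] {Z : Set G}

/-- The inductive hypothesis: in a proper subgroup with members at two points the involutions generated by members are
members. -/
def ClosedBelow (Ω : Type u) [MulAction G Ω] (Z : Set G) : Prop :=
  ∀ M : Subgroup G, M ≠ ⊤ → (zCen Ω Z M).Nontrivial → AllZ Z (zgen Z M)

omit [Finite G] [MulAction G Ω] in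
theorem zgen_le (Z : Set G) (M : Subgroup G) : zgen Z M ≤ M := (Subgroup.closure_le _).2 fun _ hz => hz.2

omit [Finite G] [MulAction G Ω] in
theorem mem_zgen {M : Subgroup G} {z : G} (hz : z ∈ Z) (hzM : z ∈ M) : z ∈ zgen Z M :=
  Subgroup.subset_closure ⟨hz, hzM⟩

omit [Finite G] [MulAction G Ω] in
theorem zgen_centralizer (Z : Set G) (u : G) : zgen Z (Subgroup.centralizer ({u} : Set G)) = lgen Z u := by
  refine congrArg Subgroup.closure (Set.ext fun z => ?_)
  exact and_congr_right fun _ => Subgroup.mem_centralizer_singleton_iff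

namespace Hyp

variable (S : Hyp G Ω Z)
include S

theorem zgen_normalized (M : Subgroup G) : M ≤ normalizer (zgen Z M : Set G) := fun a ha =>
  Subgroup.mem_normalizer_fintype fun x hx => by
    have hle : zgen Z M ≤ (zgen Z M).comap (MulAut.conj a).toMonoidHom :=
      (Subgroup.closure_le _).2 fun z hz =>
        mem_zgen (S.conj_mem a z hz.1) (M.mul_mem (M.mul_mem ha hz.2) (M.inv_mem ha))
    exact hle hx

/-- The induction gives the hypothesis. -/
theorem closedBelow (hb : Below.{u, u} (Nat.card G)) : ClosedBelow Ω Z := fun _ hne hcen =>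
  S.allZ_closure_inter hb hcen hne

/-- The frame of a proper subgroup. -/
theorem frame (hB : ClosedBelow Ω Z) {M : Subgroup G} (hM : M ≠ ⊤) {x y : G} {a b : Ω} (hxM : x ∈ M)
    (hx : x ∈ zAt Z a) (hyM : y ∈ M) (hy : y ∈ zAt Z b) (hab : a ≠ b)
    (h4 : ∃ x ∈ M, ∃ y ∈ M, x ∈ Z ∧ y ∈ Z ∧ x ≠ y ∧ Commute x y) : Frame Z Ω M (zgen Z M) := by
  obtain ⟨r, hrM, t, htM, hr, ht, hrt, hc⟩ := h4
  have hcen : (cen Ω (zgen Z M)).Nontrivial :=
    ⟨a, ⟨x, mem_zgen hx.1 hxM, S.invol x hx.1, hx.2⟩, b, ⟨y, mem_zgen hy.1 hyM, S.invol y hy.1, hy.2⟩, hab⟩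
  have hall : AllZ Z (zgen Z M) := hB M hM ⟨a, ⟨x, hx.1, hxM, hx.2⟩, b, ⟨y, hy.1, hyM, hy.2⟩, hab⟩
  have h2 : TwoRank (zgen Z M) :=
    ⟨r, mem_zgen hr hrM, t, mem_zgen ht htM, S.invol r hr, S.invol t ht, hrt, hc⟩
  exact ⟨zgen_le Z M, S.zgen_normalized M, fun _ hz hzM => mem_zgen hz hzM,
    ⟨S, hall, S.split hall hcen h2, hcen, h2⟩⟩

theorem subFrames (hB : ClosedBelow Ω Z) : SubFrames Z Ω := fun M hM ⟨_, hxM, _, hyM, _, _, hx, hy, hab⟩ h4 =>
  ⟨zgen Z M, S.frame hB hM hxM hx hyM hy hab h4⟩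

end Hyp

end Cfsg.Agent.Invol.Aschbacher
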