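import Cfsg.Agent.Lib.Invol.Aschbacher.OddCore

/-!
# An involution whose conjugates under a group all give products of odd order

An involution `w` normalising `D` such that every product `w * (x w x⁻¹)`, `x ∈ D`, has odd order is central modulo a
normal subgroup of odd order of `D`.  Hence invariant Sylow subgroups exist above invariant subgroups, and the number
of their elements inverted by `w` is the `p`-part of the number of conjugates of `w`.
-/

set_option autoImplicit false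
set_option linter.unusedSectionVars false

namespace Cfsg.Agent.Invol.Aschbacher.QOdd

open Subgroup
open Cfsg.Agent.Invol.Bender (conj_mem_of_normalizer conj_mem_of_normalizer')
open scoped Pointwise

universe u

variable {G : Type u} [Group G] [Finite G]

/-- Glauberman's theorem for `D⟨w⟩`: modulo the odd core `w` centralises `D`. -/
theorem exists_core {w : G} {D : Subgroup G} (hw : orderOf w = 2) (hwD : w ∈ normalizer (D : Set G))
    (hodd : OddConj w D) :
    ∃ O ≤ D, Odd (Nat.card O) ∧ D ≤ normalizer (O : Set G) ∧ w ∈ normalizer (O : Set G) ∧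
      ∀ x ∈ D, w * x * w⁻¹ * x⁻¹ ∈ O :=
  ⟨oddIn D, oddIn_le D, odd_oddIn D, oddIn_normalized D, Bender.mem_normalizer_O' hwD,
    fun _ hx => commutator_mem_oddIn hw hwD hodd hx⟩

variable {p : ℕ} [hp : Fact p.Prime]

theorem odd_of_isPGroup (hp2 : p ≠ 2) {P : Subgroup G} (hP : IsPGroup p P) : Odd (Nat.card P) := by
  obtain ⟨n, hn⟩ := IsPGroup.iff_card.1 hP
  rw [hn]
  exact (hp.out.odd_of_ne_two hp2).pow

variable {w : G} {D : Subgroup G}

/-- An invariant `p`-subgroup lies in an invariant Sylow subgroup. -/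
theorem exists_sylow_ge (hp2 : p ≠ 2) (hw : orderOf w = 2) (hwD : w ∈ normalizer (D : Set G))
    (hodd : OddConj w D) {W : Subgroup G} (hWD : W ≤ D) (hW : IsPGroup p W)
    (hwW : w ∈ normalizer (W : Set G)) :
    ∃ P : Subgroup G, Grp.IsSylowIn p P D ∧ w ∈ normalizer (P : Set G) ∧ W ≤ P := by
  obtain ⟨O, hOD, hOodd, hDO, hwO, hcomm⟩ := exists_core hw hwD hodd
  obtain ⟨S, hS⟩ := (hW.of_equiv (subgroupOfEquivOfLe hWD).symm).exists_le_sylow
  obtain ⟨T, hT⟩ : ∃ T, T = (S : Subgroup D).map D.subtype := ⟨_, rfl⟩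
  have hTin : Grp.IsSylowIn p T D := Grp.isSylowIn_iff.2 ⟨S, hT.symm⟩
  have hWT : W ≤ T := fun x hx => hT ▸ ⟨⟨x, hWD hx⟩, hS (mem_subgroupOf.2 hx), rfl⟩
  obtain ⟨X, hX⟩ : ∃ X, X = O ⊔ T := ⟨_, rfl⟩
  have hXD : X ≤ D := hX ▸ sup_le hOD hTin.1
  have hXodd : Odd (Nat.card X) := by
    have hn : T ≤ normalizer (O : Set G) := hTin.1.trans hDO
    have hOX : O ≤ X := hX ▸ le_sup_left
    haveI : (O.subgroupOf X).Normal := (Subgroup.normal_subgroupOf_iff_le_normalizer hOX).2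
      (hX ▸ sup_le le_normalizer hn)
    have hsur : Function.Surjective
        ((QuotientGroup.mk' (O.subgroupOf X)).comp (Subgroup.inclusion (hX ▸ le_sup_right : T ≤ X))) := fun q => by
      obtain ⟨⟨x, hx⟩, rfl⟩ := QuotientGroup.mk'_surjective _ q
      have hx' : x ∈ O ⊔ T := hX ▸ hx
      rw [← SetLike.mem_coe, coe_mul_of_right_le_normalizer_left _ _ hn] at hx'
      obtain ⟨o, ho, t, ht, rfl⟩ := hx'
      refine ⟨⟨t, ht⟩, QuotientGroup.eq.2 ?_⟩
      have h5 : t⁻¹ * (o * t) ∈ O := by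
        rw [← mul_assoc]; exact conj_mem_of_normalizer' (hn ht) ho
      exact mem_subgroupOf.2 h5
    have h1 := Subgroup.card_eq_card_quotient_mul_card_subgroup (O.subgroupOf X)
    rw [h1, Nat.card_congr (subgroupOfEquivOfLe hOX).toEquiv]
    exact ((odd_of_isPGroup hp2 hTin.2.1).of_dvd_nat (Subgroup.card_dvd_of_surjective _ hsur)).mul hOodd
  have hwX : w ∈ normalizer (X : Set G) := by
    rw [hX]
    refine mem_normalizer_fintype fun y hy => ?_
    have h1 := hcomm y (hXD (hX ▸ hy))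
    have h2 : w * y * w⁻¹ = w * y * w⁻¹ * y⁻¹ * y := by group
    exact h2 ▸ Subgroup.mul_mem _ (mem_sup_left h1) hy
  obtain ⟨P, hP, hwP, hWP⟩ := Grp.exists_invariant_sylow_ge (zpowers w) X (Bender.zpowers_le_normalizer hwX)
    (Bender.coprime_two_odd hw hXodd) (Or.inl inferInstance) (hWT.trans (hX ▸ le_sup_right)) hW
    (Bender.zpowers_le_normalizer hwW)
  refine ⟨P, ⟨hP.1.trans hXD, hP.2.1, fun hd => ?_⟩, hwP (mem_zpowers w), hWP⟩
  have hTX : T ≤ X := hX ▸ le_sup_right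
  have hTX' : Grp.IsSylowIn p T X := ⟨hTX, hTin.2.1, fun h => hTin.2.2
    (h.trans ⟨_, (Subgroup.relIndex_mul_relIndex T X D hTX hXD).symm⟩)⟩
  rw [← Subgroup.relIndex_mul_relIndex P X D hP.1 hXD] at hd
  rcases hp.out.dvd_mul.1 hd with h | h
  · exact hP.2.2 h
  · exact hTin.2.2 (h.trans ⟨_, ((mul_comm _ _).trans (Subgroup.relIndex_mul_relIndex T X D hTX hXD)).symm⟩)

/-- An element of a core inverted by `w` is the square of one. -/
theorem exists_sqrt {O : Subgroup G} (hOodd : Odd (Nat.card O)) {y : G} (hy : y ∈ Bender.invertedBy w O) :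
    ∃ j ∈ Bender.invertedBy w O, j * j = y := by
  obtain ⟨n, hn⟩ := hOodd.of_dvd_nat (Subgroup.orderOf_dvd_natCard _ hy.1)
  refine ⟨y ^ (n + 1), ⟨pow_mem hy.1 _, by rw [← conj_pow, hy.2, inv_pow]⟩, ?_⟩
  rw [← pow_add, show n + 1 + (n + 1) = orderOf y + 1 by omega, pow_succ, pow_orderOf_eq_one, one_mul]

/-- Inverted elements of odd order lie in the core. -/
theorem inverted_subset {O P : Subgroup G} (hPD : P ≤ D) (hPodd : Odd (Nat.card P))
    (hcomm : ∀ x ∈ D, w * x * w⁻¹ * x⁻¹ ∈ O) : Bender.invertedBy w P ⊆ (O : Set G) := by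
  intro j hj
  have h1 := O.inv_mem (hcomm j (hPD hj.1))
  rw [hj.2] at h1
  have h2 : j * j ∈ O := by simpa using h1
  obtain ⟨n, hn⟩ := hPodd.of_dvd_nat (Subgroup.orderOf_dvd_natCard _ hj.1)
  have h3 : j = (j * j) ^ (n + 1) := by
    rw [← pow_two, ← pow_mul, show 2 * (n + 1) = orderOf j + 1 by omega, pow_succ, pow_orderOf_eq_one, one_mul]
  rw [h3]
  exact O.pow_mem h2 _

/-- The number of inverted elements of an invariant Sylow subgroup. -/
theorem card_inverted (hp2 : p ≠ 2) (hw : orderOf w = 2) (hwD : w ∈ normalizer (D : Set G))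
    (hodd : OddConj w D) {P : Subgroup G} (hP : Grp.IsSylowIn p P D) (hwP : w ∈ normalizer (P : Set G)) :
    Nat.card ↥(Bender.invertedBy w P) = p ^ (Nat.card ↥((fun x => x * w * x⁻¹) '' (D : Set G))).factorization p := by
  obtain ⟨O, hOD, hOodd, hDO, hwO, hcomm⟩ := exists_core hw hwD hodd
  have hww := mul_self_of_orderOf_two hw
  have hwinv := inv_of_orderOf_two hw
  have hconj : ∀ j ∈ Bender.invertedBy w O, j * w * j⁻¹ = j * j * w := fun j hj => by
    have h1 : w * j * w⁻¹ * w = j⁻¹ * w := by rw [hj.2]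
    calc j * w * j⁻¹ = j * (w * j⁻¹ * w⁻¹) * w := by group
      _ = j * (w * j * w⁻¹)⁻¹ * w := by group
      _ = _ := by rw [hj.2, inv_inv]
  have hcls : (fun x => x * w * x⁻¹) '' (D : Set G) = (fun j => j * j * w) '' (Bender.invertedBy w O) := by
    refine Set.Subset.antisymm ?_ ?_
    · rintro _ ⟨x, hx, rfl⟩
      have hy : x * w * x⁻¹ * w ∈ Bender.invertedBy w O := by
        refine ⟨?_, ?_⟩
        · have h1 := O.inv_mem (hcomm x hx)
          simpa [mul_assoc, hwinv] using h1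
        · simp only [mul_inv_rev, inv_inv, mul_assoc, hwinv]
          rw [hww, mul_one]
      obtain ⟨j, hj, he⟩ := exists_sqrt hOodd hy
      refine ⟨j, hj, ?_⟩
      show j * j * w = x * w * x⁻¹
      rw [he, mul_assoc, hww, mul_one]
    · rintro _ ⟨j, hj, rfl⟩
      exact ⟨j, hOD hj.1, hconj j hj⟩
  rw [hcls, Nat.card_image_of_injOn fun j hj j' hj' h =>
    Bender.eq_of_sq_eq hOodd hj.1 hj'.1 (mul_right_cancel h)]
  have hPodd := odd_of_isPGroup hp2 hP.2.1
  obtain ⟨R, hR⟩ : ∃ R, R = P ⊓ O := ⟨_, rfl⟩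
  have hRS : Grp.IsSylowIn p R O :=
    hR ▸ Bender.isSylowIn_inf_normal hP hOD hDO
  have hwR : w ∈ normalizer (R : Set G) := mem_normalizer_fintype fun y hy => by
    rw [hR] at hy ⊢
    exact ⟨conj_mem_of_normalizer hwP hy.1, conj_mem_of_normalizer hwO hy.2⟩
  have hJ : Bender.invertedBy w P = Bender.invertedBy w R := by
    refine Set.Subset.antisymm (fun j hj => ⟨hR ▸ ⟨hj.1, inverted_subset hP.1 hPodd hcomm hj⟩, hj.2⟩) ?_
    exact fun j hj => ⟨(hR ▸ inf_le_left : R ≤ P) hj.1, hj.2⟩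
  rw [hJ]
  have h1 := Bender.card_inverted_mul hw hOodd hwO
  have h2 := Bender.card_inverted_mul hw (hOodd.of_dvd_nat (Subgroup.card_dvd_of_le hRS.1)) hwR
  obtain ⟨C, hC⟩ : ∃ C, C = O ⊓ centralizer ({w} : Set G) := ⟨_, rfl⟩
  have hwA := Bender.zpowers_le_normalizer hwO
  have hcop := Bender.coprime_two_odd hw hOodd
  have hRC : Nat.card ↥(R ⊓ centralizer ({w} : Set G)) = p ^ (Nat.card C).factorization p := by
    obtain ⟨S, hS⟩ := Grp.exists_isSylowIn p C
    have hSO : S ≤ O := hS.1.trans (hC ▸ inf_le_left)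
    have hSw : zpowers w ≤ normalizer (S : Set G) := by
      refine Bender.zpowers_le_normalizer (mem_normalizer_fintype fun y hy => ?_)
      have h1 : y ∈ C := hS.1 hy
      rw [hC, Subgroup.mem_inf, mem_centralizer_singleton_iff] at h1
      rwa [← h1.2, mul_inv_cancel_right]
    obtain ⟨T, hT, hTw, hST⟩ := Grp.exists_invariant_sylow_ge (zpowers w) O hwA hcop (Or.inl inferInstance)
      (p := p) hSO hS.2.1 hSw
    obtain ⟨c, hc, hcR⟩ := Grp.invariant_sylow_conj (zpowers w) O hwA hcop (Or.inl inferInstance) hT hRS hTw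
      (Bender.zpowers_le_normalizer hwR)
    have hcw : Commute c w :=
      ((mem_centralizer_iff.1 (Subgroup.mem_inf.1 hc).2) w (mem_zpowers w)).symm
    have hle : MulAut.conj c • S ≤ R ⊓ centralizer ({w} : Set G) := by
      refine le_inf (hcR ▸ Subgroup.pointwise_smul_le_pointwise_smul_iff.2 hST) ?_
      rintro _ ⟨y, hy, rfl⟩
      have h1 : y ∈ C := hS.1 hy
      rw [hC, Subgroup.mem_inf, mem_centralizer_singleton_iff] at h1
      rw [mem_centralizer_singleton_iff]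
      exact ((hcw.mul_left h1.2).mul_left hcw.inv_left).eq
    obtain ⟨k, hk⟩ := IsPGroup.iff_card.1 (hRS.2.1.to_le (inf_le_left : R ⊓ centralizer ({w} : Set G) ≤ R))
    refine le_antisymm ?_ (le_trans (le_of_eq (hS.card.symm.trans
      (Nat.card_congr (Subgroup.equivSMul (MulAut.conj c) S).toEquiv))) (Subgroup.card_le_of_le hle))
    rw [hk]
    refine Nat.pow_le_pow_right hp.out.pos ((hp.out.pow_dvd_iff_le_factorization Nat.card_pos.ne').1 ?_)
    rw [← hk, hC]
    exact Subgroup.card_dvd_of_le (inf_le_inf_right _ hRS.1)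
  rw [hRS.card, hRC, ← h1, ← hC, Nat.factorization_mul ?_ Nat.card_pos.ne', Finsupp.add_apply, pow_add] at h2
  · exact Nat.eq_of_mul_eq_mul_right (pow_pos hp.out.pos _) h2
  · exact fun e => by rw [e, zero_mul] at h1; exact absurd h1.symm Nat.card_pos.ne'

/-- Invariant Sylow subgroups are conjugate under the centraliser of the involution. -/
theorem sylow_conj (hp2 : p ≠ 2) (hw : orderOf w = 2) (hwD : w ∈ normalizer (D : Set G)) (hodd : OddConj w D)
    {P P' : Subgroup G} (hP : Grp.IsSylowIn p P D) (hP' : Grp.IsSylowIn p P' D)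
    (hwP : w ∈ normalizer (P : Set G)) (hwP' : w ∈ normalizer (P' : Set G)) :
    ∃ c ∈ D, Commute c w ∧ MulAut.conj c • P = P' := by
  obtain ⟨g, hg, hgP⟩ := hP.conj hP'
  obtain ⟨o, ho, c, hc, hcw, rfl⟩ := exists_oddIn_mul hw hwD hodd hg
  obtain ⟨P1, hP1⟩ : ∃ P1, P1 = MulAut.conj c • P := ⟨_, rfl⟩
  have hP1D : Grp.IsSylowIn p P1 D :=
    hP1 ▸ hP.smul (Grp.normalizer_le_smul (le_refl _) (le_normalizer hc))
  have hwP1 : w ∈ normalizer (P1 : Set G) := by
    refine mem_normalizer_fintype fun y hy => ?_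
    rw [hP1] at hy ⊢
    obtain ⟨y, hy, rfl⟩ := hy
    refine ⟨w * y * w⁻¹, conj_mem_of_normalizer hwP hy, ?_⟩
    show c * (w * y * w⁻¹) * c⁻¹ = w * (c * y * c⁻¹) * w⁻¹
    calc c * (w * y * w⁻¹) * c⁻¹ = (c * w) * y * (c * w)⁻¹ := by group
      _ = (w * c) * y * (w * c)⁻¹ := by rw [hcw.eq]
      _ = _ := by group
  obtain ⟨O, hO⟩ : ∃ O, O = oddIn D := ⟨_, rfl⟩
  have hn : P1 ≤ normalizer (O : Set G) := hO ▸ hP1D.1.trans (oddIn_normalized D)
  obtain ⟨X, hX⟩ : ∃ X, X = P1 ⊔ O := ⟨_, rfl⟩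
  have hXD : X ≤ D := hX ▸ sup_le hP1D.1 (hO ▸ oddIn_le D)
  have hXodd : Odd (Nat.card X) := ((odd_of_isPGroup hp2 hP1D.2.1).mul (hO ▸ odd_oddIn D :
    Odd (Nat.card O))).of_dvd_nat (hX ▸ Grp.card_sup_dvd_mul hn)
  have hsyl : ∀ R : Subgroup G, Grp.IsSylowIn p R D → R ≤ X → Grp.IsSylowIn p R X := fun R hR hRX =>
    ⟨hRX, hR.2.1, fun h => hR.2.2 (h.trans ⟨_, (Subgroup.relIndex_mul_relIndex R X D hRX hXD).symm⟩)⟩
  have hP'X : P' ≤ X := by
    rw [← hgP, map_mul, mul_smul, ← hP1]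
    rintro _ ⟨y, hy, rfl⟩
    have hoX : o ∈ X := hX ▸ mem_sup_right (hO ▸ ho)
    exact X.mul_mem (X.mul_mem hoX (hX ▸ mem_sup_left hy)) (X.inv_mem hoX)
  have hwX : w ∈ normalizer (X : Set G) := mem_normalizer_fintype fun y hy => by
    have h1 : w * y * w⁻¹ * y⁻¹ ∈ X := hX ▸ mem_sup_right (hO ▸ commutator_mem_oddIn hw hwD hodd (hXD hy))
    have h2 := X.mul_mem h1 hy
    rwa [inv_mul_cancel_right] at h2
  obtain ⟨c', hc', hc'P⟩ := Grp.invariant_sylow_conj (zpowers w) X (Bender.zpowers_le_normalizer hwX)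
    (Bender.coprime_two_odd hw hXodd) (Or.inl inferInstance) (hsyl P1 hP1D (hX ▸ le_sup_left))
    (hsyl P' hP' hP'X) (Bender.zpowers_le_normalizer hwP1) (Bender.zpowers_le_normalizer hwP')
  refine ⟨c' * c, D.mul_mem (hXD (Subgroup.mem_inf.1 hc').1) hc,
    (Commute.mul_left ((mem_centralizer_iff.1 (Subgroup.mem_inf.1 hc').2) w (mem_zpowers w)).symm hcw), ?_⟩
  rw [map_mul, mul_smul, ← hP1, hc'P]

end Cfsg.Agent.Invol.Aschbacher.QOdd
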