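import Cfsg.Agent.Lib.Invol.Aschbacher.SubSplit
import Cfsg.Agent.Lib.Invol.Bender.KerLocal

/-!
# A subgroup and the group generated by its members of `Z`

`Frame Z Ω M M₀`: a subgroup `M` with a normal subgroup `M₀` containing the members of `Z` in `M` and split on its
centres.  A four group at a centre normalises `Z(J(P))` for a Sylow subgroup `P` of a pair stabiliser in `M`.
-/

set_option autoImplicit false
set_option linter.unusedSectionVars false

namespace Cfsg.Agent.Invol.Aschbacher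

open MulAction Subgroup Cfsg.Agent.Transfer.Loc
open Cfsg.Agent.Invol.Bender (conj_smul_smul swap_symm pairStab mem_pair invAt cen ker mem_ker ker_le ker_conj_mem
  mem_cen_smul TwoRank Split SplitAt ker_fix zpowers_le_normalizer conj_mem_of_normalizer conj_mem_of_normalizer'
  four_coprime exists_four_normalizer isSylowIn_inf_normal exists_zj_normalizer solvable_of_odd)
open scoped Pointwise

universe u v

variable {G : Type u} [Group G] [Finite G] {Ω : Type v} [MulAction G Ω] {Z : Set G}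

/-- A subgroup with the split group of its members of `Z`. -/
structure Frame (Z : Set G) (Ω : Type v) [MulAction G Ω] (M M₀ : Subgroup G) : Prop where
  le : M₀ ≤ M
  norm : M ≤ normalizer (M₀ : Set G)
  mem : ∀ z ∈ Z, z ∈ M → z ∈ M₀
  sub : SubData Z Ω M₀

/-- The elements of `M` fixing all centres of `M₀`. -/
def fixAll (Ω : Type v) [MulAction G Ω] (M M₀ : Subgroup G) : Subgroup G :=
  M ⊓ ⨅ x ∈ cen Ω M₀, stabilizer G x

omit [Finite G] in
theorem mem_fixAll {M M₀ : Subgroup G} {g : G} :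
    g ∈ fixAll Ω M M₀ ↔ g ∈ M ∧ ∀ x ∈ cen Ω M₀, g • x = x := by
  simp only [fixAll, Subgroup.mem_inf, Subgroup.mem_iInf, mem_stabilizer_iff]

variable {M M₀ : Subgroup G} {p : ℕ} [hp : Fact p.Prime]

/-- An element can be corrected by the kernel to normalise a Sylow subgroup of the kernel. -/
theorem Bender_exists_frattini {V : Subgroup G} (hV : Grp.IsSylowIn p V (ker Ω M)) {g : G} (hg : g ∈ M) :
    ∃ n ∈ M, n ∈ normalizer (V : Set G) ∧ ∀ x ∈ cen Ω M, n • x = g • x := by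
  obtain ⟨k, hk, hkV⟩ := (hV.smul (Grp.normalizer_le_smul Bender.le_normalizer_ker hg)).conj hV
  refine ⟨k * g, mul_mem (ker_le hk) hg, mem_normalizer_fintype fun y hy => ?_,
    fun x hx => by rw [mul_smul, ker_fix hk (mem_cen_smul hg hx)]⟩
  rw [smul_smul, ← map_mul] at hkV
  show k * g * y * (k * g)⁻¹ ∈ V
  have h1 : k * g * y * (k * g)⁻¹ ∈ MulAut.conj (k * g) • V := ⟨y, hy, rfl⟩
  rwa [hkV] at h1

namespace Frame

variable (F : Frame Z Ω M M₀)
include F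

theorem smul_cen {a : G} (ha : a ∈ M) {x : Ω} (hx : x ∈ cen Ω M₀) : a • x ∈ cen Ω M₀ := by
  obtain ⟨i, hi, hi2, hix⟩ := hx
  exact ⟨a * i * a⁻¹, conj_mem_of_normalizer (F.norm ha) hi, (orderOf_conj_eq a i).trans hi2,
    by rw [conj_smul_smul, hix]⟩

theorem ker_conj {a k : G} (ha : a ∈ M) (hk : k ∈ ker Ω M₀) : a * k * a⁻¹ ∈ ker Ω M₀ := by
  refine mem_ker.2 ⟨conj_mem_of_normalizer (F.norm ha) (ker_le hk), fun x hx => ?_⟩
  rw [mul_smul, mul_smul, (mem_ker.1 hk).2 _ (F.smul_cen (M.inv_mem ha) hx), smul_inv_smul]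

theorem ker_normalized : M ≤ normalizer (ker Ω M₀ : Set G) := fun _ ha =>
  mem_normalizer_fintype fun _ hk => F.ker_conj ha hk

theorem fixAll_normalized : M ≤ normalizer (fixAll Ω M M₀ : Set G) := fun a ha =>
  mem_normalizer_fintype fun k hk => by
    rw [SetLike.mem_coe, mem_fixAll] at hk ⊢
    refine ⟨M.mul_mem (M.mul_mem ha hk.1) (M.inv_mem ha), fun x hx => ?_⟩
    rw [mul_smul, mul_smul, hk.2 _ (F.smul_cen (M.inv_mem ha) hx), smul_inv_smul]

theorem ker_le_fixAll : ker Ω M₀ ≤ fixAll Ω M M₀ := fun _ hk =>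
  mem_fixAll.2 ⟨F.le (ker_le hk), fun _ hx => ker_fix hk hx⟩

/-- An element inverted by a member and fixing two centres is in the kernel. -/
theorem real_mem_ker {d e : Ω} {z x : G} (hz : z ∈ zAt Z d) (hzM : z ∈ M) (hxM : x ∈ M) (hodd : Odd (orderOf x))
    (hinv : z * x * z⁻¹ = x⁻¹) (hxd : x • d = d) (he : e ∈ cen Ω M₀) (hed : e ≠ d) (hxe : x • e = e) :
    x ∈ ker Ω M₀ := by
  have hz0 := F.mem z hz.1 hzM
  have hzi : z ∈ invAt G d := F.sub.mem_invAt hz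
  have h2 : x * x ∈ M₀ := by
    have h1 := M₀.mul_mem (conj_mem_of_normalizer (F.norm hxM) hz0) (M₀.inv_mem hz0)
    rwa [show x * z * x⁻¹ * z⁻¹ = x * (z * x * z⁻¹)⁻¹ by group, hinv, inv_inv] at h1
  have hx0 := mem_of_sq_mem hodd h2
  obtain ⟨Q, hQ⟩ := F.sub.split d ⟨z, hz0, hzi⟩
  exact F.sub.real_mem_ker hQ hz0 hzi hx0 hodd hinv hxd he hed hxe

/-- An element can be corrected by the elements fixing all centres to normalise a Sylow subgroup of theirs. -/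
theorem exists_frattini {V : Subgroup G} (hV : Grp.IsSylowIn p V (fixAll Ω M M₀)) {g : G} (hg : g ∈ M) :
    ∃ n ∈ M, n ∈ normalizer (V : Set G) ∧ ∀ x ∈ cen Ω M₀, n • x = g • x := by
  obtain ⟨k, hk, hkV⟩ := (hV.smul (Grp.normalizer_le_smul F.fixAll_normalized hg)).conj hV
  obtain ⟨hkM, hkfix⟩ := mem_fixAll.1 hk
  refine ⟨k * g, mul_mem hkM hg, mem_normalizer_fintype fun y hy => ?_,
    fun x hx => by rw [mul_smul, hkfix _ (F.smul_cen hg hx)]⟩
  rw [smul_smul, ← map_mul] at hkV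
  show k * g * y * (k * g)⁻¹ ∈ V
  have h1 : k * g * y * (k * g)⁻¹ ∈ MulAut.conj (k * g) • V := ⟨y, hy, rfl⟩
  rwa [hkV] at h1

/-- An element centralising a Sylow subgroup of the elements fixing all centres which contains a special element
fixes all centres. -/
theorem mem_fixAll_of_centralise {i u : G} {d : Ω} (hs : Special Z i u d) (hd : d ∈ cen Ω M₀) {V : Subgroup G}
    (hV : Grp.IsSylowIn p V (fixAll Ω M M₀)) (hiV : i ∈ V) {x : G} (hx : x ∈ M) (hc : ∀ v ∈ V, Commute x v) :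
    x ∈ fixAll Ω M M₀ := by
  refine mem_fixAll.2 ⟨hx, fun y hy => ?_⟩
  obtain ⟨g, hg, hgd⟩ := F.sub.exists_smul_cen hd hy
  obtain ⟨n, hnM, hnV, hn⟩ := F.exists_frattini hV (F.le hg)
  have := (hs.conj F.sub.hyp n).commute_fix F.sub.hyp (hc _ (conj_mem_of_normalizer hnV hiV))
  rwa [hn d hd, hgd] at this

/-- No involution centralises a Sylow subgroup of the kernel if the kernel has a special element of prime power
order. -/
theorem not_centralise {i u : G} {d : Ω} (hs : Special Z i u d) (hi : i ∈ ker Ω M₀) (hd : d ∈ cen Ω M₀)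
    (hip : IsPGroup p (Subgroup.zpowers i)) {V : Subgroup G} (hV : Grp.IsSylowIn p V (ker Ω M₀)) {z : G}
    (hzM : z ∈ M₀) (hz : orderOf z = 2) : ∃ v ∈ V, ¬ Commute z v := by
  by_contra hcon
  push Not at hcon
  obtain ⟨Y, hY⟩ := (hip.of_equiv (subgroupOfEquivOfLe (zpowers_le.2 hi)).symm).exists_le_sylow
  obtain ⟨k, hk, hkV⟩ := (Grp.isSylowIn_iff.2 ⟨Y, rfl⟩ : Grp.IsSylowIn p _ (ker Ω M₀)).conj hV
  have hiV : k * i * k⁻¹ ∈ V := by
    rw [← hkV]
    exact ⟨i, ⟨⟨i, hi⟩, hY (mem_subgroupOf.2 (mem_zpowers i)), rfl⟩, rfl⟩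
  have hs' := hs.conj F.sub.hyp k
  rw [ker_fix hk hd] at hs'
  have hzd : z • d = d := hs'.commute_fix F.sub.hyp (hcon _ hiV)
  obtain ⟨b, hb, hbd⟩ := F.sub.exists_other d
  obtain ⟨g, hg, hgd⟩ := F.sub.exists_smul_cen hd hb
  obtain ⟨n, hnM, hnV, hn⟩ := Bender_exists_frattini hV hg
  have hc : Commute (n * z * n⁻¹) (k * i * k⁻¹) := by
    have h1 := (hcon _ (conj_mem_of_normalizer' hnV hiV)).conj n
    have e : n * (n⁻¹ * (k * i * k⁻¹) * n) * n⁻¹ = k * i * k⁻¹ := by group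
    rwa [e] at h1
  have hz2 := F.sub.hyp.conj_mem n z (F.sub.zonly z hzM hz)
  refine hbd (F.sub.hyp.fix_unique hz2 ?_ (hs'.commute_fix F.sub.hyp hc))
  rw [← hgd, ← hn d hd, conj_smul_smul, hzd]

/-- An involution normalising a Sylow subgroup of the kernel commutes with another one. -/
theorem exists_partner {V : Subgroup G}
    (hV : Grp.IsSylowIn p V (ker Ω M₀)) {w : G} (hwM : w ∈ M₀) (hw : orderOf w = 2)
    (hwV : w ∈ normalizer (V : Set G)) :
    ∃ e ∈ M₀, e ∈ normalizer (V : Set G) ∧ orderOf e = 2 ∧ e ≠ w ∧ Commute e w := by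
  haveI : Fact (Nat.Prime 2) := ⟨Nat.prime_two⟩
  obtain ⟨x, hxM, y, hyM, hx2, hy2, hxy, hc⟩ := F.sub.rank
  obtain ⟨k, hk, hxk, hyk⟩ := exists_four_normalizer hx2 hy2 hc F.sub.odd_ker
    (Bender.le_normalizer_ker hxM) (Bender.le_normalizer_ker hyM) hV
  let L := M₀ ⊓ normalizer (V : Set G)
  let x' : L := ⟨k * x * k⁻¹, mul_mem (mul_mem (ker_le hk) hxM) (Subgroup.inv_mem _ (ker_le hk)), hxk⟩
  let y' : L := ⟨k * y * k⁻¹, mul_mem (mul_mem (ker_le hk) hyM) (Subgroup.inv_mem _ (ker_le hk)), hyk⟩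
  let w' : L := ⟨w, hwM, hwV⟩
  have hx' : orderOf x' = 2 := by rw [← Subgroup.orderOf_coe]; exact (orderOf_conj_eq k x).trans hx2
  have hy' : orderOf y' = 2 := by rw [← Subgroup.orderOf_coe]; exact (orderOf_conj_eq k y).trans hy2
  have hw' : orderOf w' = 2 := by rw [← Subgroup.orderOf_coe]; exact hw
  have hc' : Commute x' y' := Subtype.ext (hc.conj k).eq
  have hne' : x' ≠ y' := fun h => hxy (mul_left_cancel (mul_right_cancel (congrArg Subtype.val h)))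
  suffices ∃ e : L, orderOf e = 2 ∧ e ≠ w' ∧ Commute e w' by
    obtain ⟨e, he, hne, hew⟩ := this
    exact ⟨e, e.2.1, e.2.2, by rw [Subgroup.orderOf_coe]; exact he, fun h => hne (Subtype.ext h),
      congrArg Subtype.val hew.eq⟩
  have hpow : IsPGroup 2 ↥(Subgroup.zpowers w') := IsPGroup.of_card (n := 1) (by rw [Nat.card_zpowers, hw', pow_one])
  obtain ⟨S, hS⟩ := hpow.exists_le_sylow
  have hwS : w' ∈ (S : Subgroup L) := hS (mem_zpowers w')
  haveI : Nontrivial (S : Subgroup L) := ⟨⟨⟨w', hwS⟩, 1, fun h => by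
    rw [show w' = 1 from congrArg Subtype.val h, orderOf_one] at hw'
    exact absurd hw' (by decide)⟩⟩
  haveI := S.isPGroup'.center_nontrivial
  obtain ⟨n, hn0, hn⟩ := (S.isPGroup'.to_subgroup (Subgroup.center (S : Subgroup L))).nontrivial_iff_card.1 inferInstance
  obtain ⟨z, hz⟩ := exists_prime_orderOf_dvd_card' (G := Subgroup.center (S : Subgroup L)) 2
    (hn ▸ dvd_pow_self 2 hn0.ne')
  have hz2 : orderOf ((z : (S : Subgroup L)) : L) = 2 := by rw [Subgroup.orderOf_coe, Subgroup.orderOf_coe]; exact hz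
  have hzc : ∀ a ∈ (S : Subgroup L), Commute ((z : (S : Subgroup L)) : L) a := fun a ha =>
    congrArg Subtype.val (Subgroup.mem_center_iff.1 z.2 ⟨a, ha⟩).symm
  by_cases hzw : ((z : (S : Subgroup L)) : L) = w'
  · -- then a conjugate of the four group supplies the partner
    obtain ⟨hsol, -⟩ := four_coprime hx' hy' hc'
    have hE : IsPGroup 2 ↥(Subgroup.zpowers x' ⊔ Subgroup.zpowers y') := by
      refine IsPGroup.to_sup_of_normal_left'
        (IsPGroup.of_card (n := 1) (by rw [Nat.card_zpowers, hx', pow_one]))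
        (IsPGroup.of_card (n := 1) (by rw [Nat.card_zpowers, hy', pow_one])) ?_
      refine (Subgroup.zpowers_le).2 (Subgroup.mem_normalizer_fintype fun a ha => ?_)
      obtain ⟨j, rfl⟩ := Subgroup.mem_zpowers_iff.1 ha
      rw [show y' * x' ^ j * y'⁻¹ = x' ^ j by rw [← (hc'.zpow_left j).eq, mul_inv_cancel_right]]
      exact zpow_mem (Subgroup.mem_zpowers _) j
    obtain ⟨S', hS'⟩ := hE.exists_le_sylow
    obtain ⟨g, hg⟩ := MulAction.exists_smul_eq L S' S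
    have hmem : ∀ a ∈ (S' : Subgroup L), g * a * g⁻¹ ∈ (S : Subgroup L) := fun a ha => by
      rw [← hg]; exact ⟨a, ha, rfl⟩
    by_cases hxw : g * x' * g⁻¹ = w'
    · refine ⟨g * y' * g⁻¹, (orderOf_conj_eq g y').trans hy', fun h => hne' ?_, ?_⟩
      · exact mul_left_cancel (mul_right_cancel (hxw.trans h.symm))
      · rw [← hzw]; exact (hzc _ (hmem _ (hS' (mem_sup_right (mem_zpowers _))))).symm
    · refine ⟨g * x' * g⁻¹, (orderOf_conj_eq g x').trans hx', hxw, ?_⟩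
      rw [← hzw]; exact (hzc _ (hmem _ (hS' (mem_sup_left (mem_zpowers _))))).symm
  · exact ⟨_, hz2, hzw, hzc w' hwS⟩

/-- A four group at a centre normalises `Z(J(P))` and a Sylow subgroup of the kernel. -/
theorem exists_four_zj (hp2 : p ≠ 2) {i u : G} {d γ b : Ω} (hs : Special Z i u d)
    (hi : i ∈ ker Ω M₀) (hd : d ∈ cen Ω M₀) (hip : IsPGroup p (Subgroup.zpowers i)) (hγ : γ ∈ cen Ω M₀)
    (hb : b ∈ cen Ω M₀) (hne : b ≠ γ) {P : Subgroup G} (hP : Grp.IsSylowIn p P (M ⊓ pairStab G γ b)) :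
    ∃ e ∈ M₀, ∃ f ∈ M₀, e ∈ invAt G γ ∧ f ∈ invAt G γ ∧ e ≠ f ∧ Commute e f ∧
      e ∈ normalizer (Cfsg.centerThompsonAOf P : Set G) ∧ f ∈ normalizer (Cfsg.centerThompsonAOf P : Set G) ∧
      e ∈ normalizer ((P ⊓ ker Ω M₀ : Subgroup G) : Set G) ∧ f ∈ normalizer ((P ⊓ ker Ω M₀ : Subgroup G) : Set G) := by
  haveI : Fact (Nat.Prime 2) := ⟨Nat.prime_two⟩
  have hoddK := F.sub.odd_ker
  have hPM : P ≤ M := hP.1.trans inf_le_left
  have hPγ : P ≤ stabilizer G γ := hP.1.trans (inf_le_right.trans inf_le_left)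
  have hKMD : ker Ω M₀ ≤ M ⊓ pairStab G γ b := fun x hx =>
    ⟨F.le (ker_le hx), mem_pair.2 ⟨ker_fix hx hγ, ker_fix hx hb⟩⟩
  obtain ⟨V, hVdef⟩ : ∃ V, V = P ⊓ ker Ω M₀ := ⟨_, rfl⟩
  have hV : Grp.IsSylowIn p V (ker Ω M₀) :=
    hVdef ▸ isSylowIn_inf_normal hP hKMD (inf_le_left.trans F.ker_normalized)
  obtain ⟨J, hJ⟩ : ∃ J, J = Subgroup.closure ((ker Ω M₀ : Set G) ∪ {s | s ∈ M₀ ∧ s ∈ invAt G γ}) := ⟨_, rfl⟩
  have hKJ : ker Ω M₀ ≤ J := fun x hx => hJ ▸ Subgroup.subset_closure (Or.inl hx)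
  have hJM : J ≤ M₀ ⊓ stabilizer G γ := hJ ▸ (Subgroup.closure_le _).2 (by
    rintro x (hx | ⟨hxM, hx⟩)
    · exact ⟨ker_le hx, mem_stabilizer_iff.2 (ker_fix hx hγ)⟩
    · exact ⟨hxM, mem_stabilizer_iff.2 hx.2⟩)
  have hPJ : P ≤ normalizer (J : Set G) := fun x hx => mem_normalizer_fintype fun y hy => by
    have hxγ := mem_stabilizer_iff.1 (hPγ hx)
    have hle : J ≤ J.comap (MulAut.conj x).toMonoidHom := by
      conv_lhs => rw [hJ]
      refine (Subgroup.closure_le _).2 ?_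
      rintro a (ha | ⟨haM, ha⟩)
      · exact hKJ (F.ker_conj (hPM hx) ha)
      · refine hJ ▸ Subgroup.subset_closure (Or.inr ⟨conj_mem_of_normalizer (F.norm (hPM hx)) haM, ?_, ?_⟩)
        · exact (orderOf_conj_eq x a).trans ha.1
        · show (x * a * x⁻¹) • γ = γ
          conv_lhs => rw [← hxγ]
          rw [conj_smul_smul, ha.2, hxγ]
    exact hle hy
  haveI hKn : ((ker Ω M₀).subgroupOf J).Normal :=
    ⟨fun a ha g => by
      rw [Subgroup.mem_subgroupOf] at ha ⊢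
      simpa using ker_conj_mem (hJM g.2).1 ha⟩
  have hJcomm : ∀ a ∈ J, ∀ c ∈ J, a * c * a⁻¹ * c⁻¹ ∈ ker Ω M₀ := by
    intro a ha c hc
    subst hJ
    refine Subgroup.closure_induction₂ (p := fun a c _ _ => a * c * a⁻¹ * c⁻¹ ∈ ker Ω M₀) ?_ ?_ ?_ ?_ ?_ ?_ ?_ ha hc
    · rintro x y (hx | ⟨hxM, hx⟩) (hy | ⟨hyM, hy⟩)
      · exact mul_mem (mul_mem (mul_mem hx hy) (Subgroup.inv_mem _ hx)) (Subgroup.inv_mem _ hy)
      · rw [show x * y * x⁻¹ * y⁻¹ = x * (y * x⁻¹ * y⁻¹) by group]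
        exact mul_mem hx (ker_conj_mem hyM (Subgroup.inv_mem _ hx))
      · exact mul_mem (ker_conj_mem hxM hy) (Subgroup.inv_mem _ hy)
      · exact F.sub.comm_mem_ker hxM hx hyM hy
    · intro x _; simp
    · intro x _; simp
    · intro x y z hx _ _ h1 h2
      have hxM : x ∈ M₀ := (hJM hx).1
      convert mul_mem (ker_conj_mem hxM h2) h1 using 1
      group
    · intro y z x hy _ _ h1 h2
      have hyM : y ∈ M₀ := (hJM hy).1
      convert mul_mem h1 (ker_conj_mem hyM h2) using 1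
      group
    · intro x y hx _ h
      have hxM : x ∈ M₀ := (hJM hx).1
      convert ker_conj_mem (Subgroup.inv_mem _ hxM) (Subgroup.inv_mem _ h) using 1
      group
    · intro x y _ hy h
      have hyM : y ∈ M₀ := (hJM hy).1
      convert ker_conj_mem (Subgroup.inv_mem _ hyM) (Subgroup.inv_mem _ h) using 1
      group
  haveI hJsol : Group.IsSolvable J := by
    haveI := solvable_of_odd (X := (ker Ω M₀).subgroupOf J)
      (by rw [Nat.card_congr (subgroupOfEquivOfLe hKJ).toEquiv]; exact hoddK)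
    haveI : Group.IsSolvable (J ⧸ (ker Ω M₀).subgroupOf J) := by
      refine Group.isSolvable_of_comm fun x y => ?_
      obtain ⟨x, rfl⟩ := QuotientGroup.mk'_surjective _ x
      obtain ⟨y, rfl⟩ := QuotientGroup.mk'_surjective _ y
      rw [← mul_inv_eq_iff_eq_mul, ← mul_inv_eq_one, ← map_mul, ← map_inv, ← map_mul, ← map_inv, ← map_mul]
      exact (QuotientGroup.eq_one_iff _).2 (Subgroup.mem_subgroupOf.2 (hJcomm _ x.2 _ y.2))
    exact (Group.isSolvable_iff_subgroup_quotient ((ker Ω M₀).subgroupOf J)).2 ⟨inferInstance, inferInstance⟩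
  obtain ⟨N, hN⟩ : ∃ N, N = J ⊔ P := ⟨_, rfl⟩
  have hJN : J ≤ N := hN ▸ le_sup_left
  have hPN : P ≤ N := hN ▸ le_sup_right
  have hNMγ : N ≤ M ⊓ stabilizer G γ := hN ▸ sup_le (hJM.trans (inf_le_inf_right _ F.le)) (le_inf hPM hPγ)
  haveI hJn : (J.subgroupOf N).Normal := Subgroup.normal_subgroupOf_iff_le_normalizer hJN |>.2
    (hN ▸ sup_le le_normalizer hPJ)
  have hquot : IsPGroup p (N ⧸ J.subgroupOf N) := by
    obtain ⟨a, ha⟩ := IsPGroup.iff_card.1 hP.2.1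
    have h1 : Nat.card N ∣ Nat.card P * Nat.card J := by
      rw [hN, sup_comm]
      exact Grp.card_sup_dvd_mul (H := P) (N := J) hPJ
    rw [Subgroup.card_eq_card_quotient_mul_card_subgroup (J.subgroupOf N),
      Nat.card_congr (subgroupOfEquivOfLe hJN).toEquiv, ha] at h1
    obtain ⟨c, -, hc⟩ := (Nat.dvd_prime_pow hp.out).1 ((Nat.mul_dvd_mul_iff_right Nat.card_pos).1 h1)
    exact IsPGroup.of_card hc
  haveI : Group.IsSolvable N := by
    haveI : Group.IsSolvable (J.subgroupOf N) :=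
      Group.isSolvable_of_isSolvable_injective (f := (subgroupOfEquivOfLe hJN).toMonoidHom)
        (subgroupOfEquivOfLe hJN).injective
    haveI := hquot.isNilpotent
    exact (Group.isSolvable_iff_subgroup_quotient (J.subgroupOf N)).2 ⟨inferInstance, inferInstance⟩
  have htwo : ∀ (x : G) (hx : x ∈ N) (a : ℕ), x ^ 2 ^ a = 1 → x ∈ J := fun x hx a hxa => by
    obtain ⟨c, hc⟩ := hquot (QuotientGroup.mk' (J.subgroupOf N) ⟨x, hx⟩)
    have h1 : QuotientGroup.mk' (J.subgroupOf N) ⟨x, hx⟩ ^ 2 ^ a = 1 := by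
      rw [← map_pow, show (⟨x, hx⟩ : N) ^ 2 ^ a = 1 from Subtype.ext hxa, map_one]
    have h2 := pow_gcd_eq_one.2 ⟨h1, hc⟩
    rw [((Nat.coprime_primes Nat.prime_two hp.out).2 (Ne.symm hp2) |>.pow a c).gcd_eq_one, pow_one] at h2
    exact Subgroup.mem_subgroupOf.1 ((QuotientGroup.eq_one_iff _).1 h2)
  have hab : ∀ T : Sylow 2 N, IsMulCommutative T := fun T => by
    refine ⟨⟨fun x y => Subtype.ext (Subtype.ext ?_)⟩⟩
    have hJT : ∀ z : T, ((z : N) : G) ∈ J := fun z => by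
      obtain ⟨a, ha⟩ := T.isPGroup' z
      exact htwo _ (z : N).2 a (congrArg (fun t : T => ((t : N) : G)) ha)
    have h1 := hJcomm _ (hJT x) _ (hJT y)
    obtain ⟨a, ha⟩ := T.isPGroup' (x * y * x⁻¹ * y⁻¹)
    have ha' : (((x * y * x⁻¹ * y⁻¹ : T) : N) : G) ^ 2 ^ a = 1 :=
      congrArg (fun t : T => ((t : N) : G)) ha
    have h2 : (⟨_, h1⟩ : ker Ω M₀) ^ Nat.card (ker Ω M₀) = 1 := pow_card_eq_one'
    have h3 := pow_gcd_eq_one.2 ⟨ha', congrArg Subtype.val h2⟩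
    rw [((Nat.coprime_two_left.2 hoddK).pow_left a).gcd_eq_one, pow_one] at h3
    have h4 : ((x : N) : G) * (y : N) * ((x : N) : G)⁻¹ * ((y : N) : G)⁻¹ = 1 := h3
    rwa [mul_inv_eq_one, mul_inv_eq_iff_eq_mul] at h4
  have hPsyl : Grp.IsSylowIn p P N := by
    refine ⟨hPN, hP.2.1, ?_⟩
    -- a larger `p`-subgroup would fix a second centre
    intro hdvd
    obtain ⟨S, hS'⟩ := (hP.2.1.of_equiv (subgroupOfEquivOfLe hPN).symm).exists_le_sylow
    have hSin : Grp.IsSylowIn p ((S : Subgroup N).map N.subtype) N := Grp.isSylowIn_iff.2 ⟨S, rfl⟩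
    have hle : P ≤ (S : Subgroup N).map N.subtype := fun x hx => ⟨⟨x, hPN hx⟩, hS' (mem_subgroupOf.2 hx), rfl⟩
    have hSodd : Odd (Nat.card ↥((S : Subgroup N).map N.subtype)) := by
      obtain ⟨a, ha⟩ := IsPGroup.iff_card.1 hSin.2.1
      rw [ha]; exact (hp.out.odd_of_ne_two hp2).pow
    obtain ⟨Q, hQ⟩ := F.sub.split γ hγ
    obtain ⟨f, hf, hfγ, hSf⟩ := F.sub.exists_fix_pgroup hp2 hγ hSin.2.1 (fun x hx => (hNMγ (hSin.1 hx)).2)
      (fun x hx y hy => F.smul_cen (hNMγ (hSin.1 hx)).1 hy)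
    obtain ⟨q, hq, hqf⟩ := hQ.exists_move f hf hfγ b hb hne
    obtain ⟨hqM₀, hqγ⟩ := Subgroup.mem_inf.1 (hQ.le hq)
    have hqM : q ∈ M := F.le hqM₀
    have hqS : MulAut.conj q • (S : Subgroup N).map N.subtype ≤ M ⊓ pairStab G γ b := by
      rintro _ ⟨x, hx, rfl⟩
      obtain ⟨hxM, hxγ⟩ := Subgroup.mem_inf.1 (hNMγ (hSin.1 hx))
      refine ⟨mul_mem (mul_mem hqM hxM) (Subgroup.inv_mem _ hqM), mem_pair.2 ⟨?_, ?_⟩⟩
      · show (q * x * q⁻¹) • γ = γ
        conv_lhs => rw [← mem_stabilizer_iff.1 hqγ]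
        rw [conj_smul_smul, mem_stabilizer_iff.1 hxγ, mem_stabilizer_iff.1 hqγ]
      · show (q * x * q⁻¹) • b = b
        rw [← hqf, conj_smul_smul, mem_stabilizer_iff.1 (hSf hx)]
    obtain ⟨Z, hZ⟩ := ((hSin.2.1.map (MulAut.conj q).toMonoidHom).of_equiv
      (subgroupOfEquivOfLe hqS).symm).exists_le_sylow
    have hZin : Grp.IsSylowIn p ((Z : Subgroup ↥(M ⊓ pairStab G γ b)).map (Subgroup.subtype _)) _ :=
      Grp.isSylowIn_iff.2 ⟨Z, rfl⟩
    have h1 : Nat.card ↥((S : Subgroup N).map N.subtype) ≤ Nat.card P := by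
      rw [hP.card, ← hZin.card]
      refine le_trans (Nat.card_congr (Subgroup.equivSMul (MulAut.conj q) _).toEquiv).le ?_
      exact Subgroup.card_le_of_le fun x hx => ⟨⟨x, hqS hx⟩, hZ (mem_subgroupOf.2 hx), rfl⟩
    exact hSin.2.2 ((Subgroup.eq_of_le_of_card_ge hle h1) ▸ hdvd)
  obtain ⟨e₀, he₀M, f₀, hf₀M, he₀, hf₀, hef, hc⟩ := F.sub.exists_four_at hγ
  have hJe : ∀ {a : G}, a ∈ M₀ → a ∈ invAt G γ → a ∈ N := fun ha h =>
    hJN (hJ ▸ Subgroup.subset_closure (Or.inr ⟨ha, h⟩))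
  obtain ⟨x, hx, hex, hfx⟩ := exists_zj_normalizer hp2 hab hPsyl (hVdef ▸ inf_le_left : V ≤ P) hoddK
    (fun g hg v hv => mul_mem (F.ker_conj (hNMγ hg).1 (hV.1 hv)) (Subgroup.inv_mem _ (hV.1 hv)))
    (fun j hj hj2 => F.not_centralise hs hi hd hip hV
      (hJM (htwo j hj 1 (by rw [pow_one, ← hj2]; exact pow_orderOf_eq_one j))).1 hj2)
    (hJe he₀M he₀) (hJe hf₀M hf₀) he₀.1 hf₀.1 hc
  obtain ⟨hxM, hxγ⟩ := Subgroup.mem_inf.1 (hNMγ hx)
  obtain ⟨Nz, hZ⟩ : ∃ Nz, Nz = normalizer (Cfsg.centerThompsonAOf P : Set G) := ⟨_, rfl⟩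
  rw [← hZ] at hex hfx ⊢
  have hZP : P ≤ Nz := hZ ▸ le_normalizer.trans ((isZJFunctor_centerThompsonA.{u} (p := p)).normalizer_le P)
  obtain ⟨K0, hK0⟩ : ∃ K0, K0 = Nz ⊓ ker Ω M₀ := ⟨_, rfl⟩
  have hV0 : Grp.IsSylowIn p V K0 := by
    refine ⟨hK0 ▸ hVdef ▸ inf_le_inf_right _ hZP, hV.2.1, fun h => hV.2.2 (h.trans ?_)⟩
    exact ⟨_, (Subgroup.relIndex_mul_relIndex V K0 (ker Ω M₀) (hK0 ▸ hVdef ▸ inf_le_inf_right _ hZP)
      (hK0 ▸ inf_le_right)).symm⟩
  have hnorm : ∀ a ∈ Nz, a ∈ M → a ∈ normalizer (K0 : Set G) := fun a haZ haM =>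
    mem_normalizer_fintype fun y hy => by
      rw [hK0] at hy ⊢
      exact ⟨mul_mem (mul_mem haZ hy.1) (Subgroup.inv_mem _ haZ), F.ker_conj haM hy.2⟩
  have he0' : x * e₀ * x⁻¹ ∈ M₀ := conj_mem_of_normalizer (F.norm hxM) he₀M
  have he1 : x * e₀ * x⁻¹ ∈ M := F.le he0'
  have hf0' : x * f₀ * x⁻¹ ∈ M₀ := conj_mem_of_normalizer (F.norm hxM) hf₀M
  have hf1 : x * f₀ * x⁻¹ ∈ M := F.le hf0'
  obtain ⟨k, hk, hek, hfk⟩ := exists_four_normalizer ((orderOf_conj_eq x e₀).trans he₀.1)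
    ((orderOf_conj_eq x f₀).trans hf₀.1) (hc.conj x)
    (hoddK.of_dvd_nat (Subgroup.card_dvd_of_le (hK0 ▸ inf_le_right))) (hnorm _ hex he1) (hnorm _ hfx hf1) hV0
  rw [hK0] at hk
  have hkM : k ∈ M₀ := ker_le hk.2
  have hkxγ : (k * x) • γ = γ := by rw [mul_smul, mem_stabilizer_iff.1 hxγ, ker_fix hk.2 hγ]
  have hinv : ∀ {a : G}, a ∈ invAt G γ → k * (x * a * x⁻¹) * k⁻¹ ∈ invAt G γ := fun {a} ha =>
    ⟨((orderOf_conj_eq k _).trans (orderOf_conj_eq x a)).trans ha.1, by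
      rw [show k * (x * a * x⁻¹) * k⁻¹ = (k * x) * a * (k * x)⁻¹ by group]
      conv_lhs => rw [← hkxγ]
      rw [conj_smul_smul, ha.2, hkxγ]⟩
  rw [← hVdef]
  exact ⟨_, mul_mem (mul_mem hkM he0') (Subgroup.inv_mem _ hkM), _, mul_mem (mul_mem hkM hf0') (Subgroup.inv_mem _ hkM), hinv he₀, hinv hf₀,
    fun h => hef (mul_left_cancel (mul_right_cancel (mul_left_cancel (mul_right_cancel h)))), (hc.conj x).conj k,
    mul_mem (mul_mem hk.1 hex) (Subgroup.inv_mem _ hk.1), mul_mem (mul_mem hk.1 hfx) (Subgroup.inv_mem _ hk.1), hek, hfk⟩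

end Frame

end Cfsg.Agent.Invol.Aschbacher
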