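import Cfsg.Agent.Lib.Invol.Aschbacher.OddCore
import Cfsg.Agent.Lib.Invol.Aschbacher.Sub
import Cfsg.Agent.Lib.Invol.Aschbacher.NoKernel
import Cfsg.Agent.Lib.Invol.ZStar

/-!
# The kernel of the setting

When the members generate the group the kernel of the action has odd order by the Z*-theorem, the setting passes
to the permutation group, and the conclusion comes back from there.
-/

set_option autoImplicit false
set_option linter.unusedSectionVars false

namespace Cfsg.Agent.Invol.Aschbacher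

open MulAction Subgroup
open Cfsg.Agent.Invol.Bender (conj_smul_smul toImage image toImage_eq_one toImage_surjective toImage_smul)
open scoped Pointwise

universe u

variable {G : Type u} [Group G] [Finite G] {Ω : Type u} [MulAction G Ω] {Z : Set G}

/-- An involution congruent to another modulo an odd subgroup is conjugate to it there. -/
theorem exists_conj_of_coset {N : Subgroup G} (hodd : Odd (Nat.card N)) {z d : G} (hz : orderOf z = 2)
    (hd : orderOf d = 2) (h : z * d ∈ N) : ∃ s ∈ N, s * z * s⁻¹ = d := by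
  obtain ⟨n, hn⟩ := hodd.of_dvd_nat (Subgroup.orderOf_dvd_natCard _ h)
  refine ⟨(z * d) ^ (n : ℤ), N.zpow_mem h _, ?_⟩
  rw [← zpow_neg, mul_assoc, mul_zpow_comm hz hd, neg_neg, ← mul_assoc, ← zpow_add]
  have h1 : (z * d) ^ ((n : ℤ) + n) = (z * d)⁻¹ := by
    rw [eq_inv_iff_mul_eq_one, ← zpow_add_one, show (n : ℤ) + n + 1 = ((2 * n + 1 : ℕ) : ℤ) by push_cast; ring,
      zpow_natCast, ← hn, pow_orderOf_eq_one]
  rw [h1, _root_.mul_inv_rev, mul_assoc, inv_mul_cancel, mul_one, inv_of_orderOf_two hd]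

/-- An involution centralising another modulo an odd normal subgroup has a conjugate there centralising it. -/
theorem exists_commuting_conj {N : Subgroup G} (hN : N.Normal) (hodd : Odd (Nat.card N)) {u z : G}
    (hu : orderOf u = 2) (hz : orderOf z = 2) (h : u * z * u⁻¹ * z⁻¹ ∈ N) :
    ∃ s ∈ N, Commute (s * z * s⁻¹) u := by
  obtain ⟨r, hr, c, hcu, hzc⟩ := exists_mul_fixed hu hodd h
  have hzz := mul_self_of_orderOf_two hz
  have hc : c = r⁻¹ * z := eq_inv_mul_iff_mul_eq.2 hzc.symm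
  have h2 : c * c ∈ N := by
    have e : c * c = r⁻¹ * (z * r⁻¹ * z⁻¹) := by
      rw [hc, inv_of_orderOf_two hz]; group
    rw [e]
    exact mul_mem (inv_mem hr) (hN.conj_mem _ (inv_mem hr) z)
  obtain ⟨j, hj⟩ := hodd.of_dvd_nat (Subgroup.orderOf_dvd_natCard _ h2)
  obtain ⟨d, hd⟩ : ∃ d, d = c ^ orderOf (c * c) := ⟨_, rfl⟩
  have hdd : d * d = 1 := by
    rw [hd, ← (Commute.refl c).mul_pow, pow_orderOf_eq_one]
  have hzd : z * d ∈ N := by
    have e : d = (c * c) ^ j * c := by rw [hd, hj, pow_succ, pow_mul, pow_two]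
    have h3 : d * z ∈ N := by
      have h4 : c * z = r⁻¹ := by rw [hc, mul_assoc, hzz, mul_one]
      rw [e, mul_assoc, h4]
      exact mul_mem (N.pow_mem h2 j) (inv_mem hr)
    have := hN.conj_mem _ h3 z
    rwa [show z * (d * z) * z⁻¹ = z * d by group] at this
  have hd2 : orderOf d = 2 := orderOf_two_iff.2 ⟨hdd, fun e => by
    rw [e, mul_one] at hzd
    have := Subgroup.orderOf_dvd_natCard _ hzd
    rw [hz] at this
    exact Nat.not_even_iff_odd.2 hodd (even_iff_two_dvd.2 this)⟩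
  obtain ⟨s, hs, hsz⟩ := exists_conj_of_coset hodd hz hd2 hzd
  exact ⟨s, hs, hsz ▸ hd ▸ hcu.pow_left _⟩

namespace Hyp

variable (S : Hyp G Ω Z)
include S

/-- The kernel of the action has odd order. -/
theorem odd_kernel (hgen : Subgroup.closure Z = ⊤) : Odd (Nat.card (MulAction.toPermHom G Ω).ker) := by
  classical
  haveI : Fact (Nat.Prime 2) := ⟨Nat.prime_two⟩
  obtain ⟨K, hK⟩ : ∃ K, K = (MulAction.toPermHom G Ω).ker := ⟨_, rfl⟩
  rw [← hK]
  have hfix : ∀ g, g ∈ K → ∀ x : Ω, g • x = x := fun g hg x => by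
    rw [hK] at hg
    exact congrArg (fun σ : Equiv.Perm Ω => σ x) (MonoidHom.mem_ker.1 hg)
  haveI hKn : K.Normal := hK ▸ MonoidHom.normal_ker _
  have hZK : ∀ z ∈ Z, z ∉ K := fun z hz hzK => by
    obtain ⟨x, y, hxy⟩ := S.nontrivial.exists_pair_ne
    exact hxy (S.fix_unique hz (hfix z hzK x) (hfix z hzK y))
  obtain ⟨O, hO⟩ : ∃ O, O = oddIn K := ⟨_, rfl⟩
  have hOodd : Odd (Nat.card O) := hO ▸ odd_oddIn K
  haveI hOn : O.Normal := ⟨fun x hx g => by
    have h1 : MulAut.conj g • K = K := by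
      refine Subgroup.ext fun y => ?_
      rw [Grp.mem_smul_conj]
      exact ⟨fun h => by have := hKn.conj_mem _ h g; simpa [mul_assoc] using this,
        fun h => by have := hKn.conj_mem _ h g⁻¹; simpa using this⟩
    have h2 := conj_O'_eq (r := 2) h1
    rw [hO] at hx ⊢
    show g * x * g⁻¹ ∈ Transfer.Loc.O' 2 K
    rw [← h2]
    exact ⟨x, hx, rfl⟩⟩
  -- each member centralises the kernel modulo its odd core
  have hmem : ∀ z ∈ Z, ∀ k ∈ K, z * k * z⁻¹ * k⁻¹ ∈ O := by
    intro z hz k hk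
    obtain ⟨a, ha⟩ := S.exists_fix hz
    obtain ⟨M, hM⟩ : ∃ M, M = K ⊔ Subgroup.zpowers z := ⟨_, rfl⟩
    have hzM : z ∈ M := hM ▸ Subgroup.mem_sup_right (Subgroup.mem_zpowers z)
    have hdec : ∀ g ∈ M, g ∈ K ∨ g * z ∈ K := by
      intro g hg
      rw [hM, ← SetLike.mem_coe, Subgroup.normal_mul, Set.mem_mul] at hg
      obtain ⟨x, hx, y, hy, rfl⟩ := hg
      obtain ⟨i, rfl⟩ := Subgroup.mem_zpowers_iff.1 hy
      rcases zpow_eq_one_or_self (S.invol z hz) i with h | h <;> rw [h]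
      · exact Or.inl (by rw [mul_one]; exact hx)
      · exact Or.inr (by rw [mul_assoc, mul_self_of_orderOf_two (S.invol z hz), mul_one]; exact hx)
    have hMa : ∀ g ∈ M, g • a = a := fun g hg => by
      rcases hdec g hg with h | h
      · exact hfix g h a
      · have := hfix _ h a
        rwa [mul_smul, ha] at this
    have hone : ∀ {c d : G}, c ∈ M → d ∈ M → c ∈ Z → d ∈ Z → Commute c d → c = d := fun {c d} hc hd hcZ hdZ hcd => by
      by_contra hne
      have hcz := (hdec c hc).resolve_left (hZK c hcZ)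
      have hdz := (hdec d hd).resolve_left (hZK d hdZ)
      refine hZK _ (S.mul_mem hcZ hdZ hne hcd) ?_
      have h1 := MulMemClass.mul_mem hcz (InvMemClass.inv_mem hdz)
      rwa [_root_.mul_inv_rev, ← mul_assoc, mul_inv_cancel_right, inv_of_orderOf_two (S.invol d hdZ)] at h1
    obtain ⟨T, hT⟩ := (IsPGroup.of_card (n := 1) (by
      rw [Nat.card_zpowers, ← Subgroup.orderOf_coe, S.invol z hz, pow_one]) :
      IsPGroup 2 (Subgroup.zpowers (⟨z, hzM⟩ : M))).exists_le_sylow
    have hzT : (⟨z, hzM⟩ : M) ∈ (T : Subgroup M) := hT (Subgroup.mem_zpowers _)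
    obtain ⟨c, hc, hcT, hcc⟩ := S.exists_central (X := (T : Subgroup M).map M.subtype) (T.isPGroup'.map _)
      ⟨z, hz, ⟨⟨z, hzM⟩, hzT, rfl⟩⟩
    have hcM : c ∈ M := Subgroup.map_subtype_le _ hcT
    have hz2 : orderOf (⟨z, hzM⟩ : M) = 2 := by rw [← Subgroup.orderOf_coe]; exact S.invol z hz
    obtain ⟨N, hN, hNodd, hNz⟩ := ZStar.exists_odd_normal (ZStar.isIsolated_of_sylow (P := T) hzT hz2
      fun g hg => Subtype.ext (by
        have h1 := hone hcM (g * ⟨z, hzM⟩ * g⁻¹).2 hc (S.conj_mem (g : G) z hz)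
          (hcc _ ⟨_, hg, rfl⟩)
        exact h1.symm.trans (hone hcM hzM hc hz (hcc z ⟨⟨z, hzM⟩, hzT, rfl⟩))))
    obtain ⟨N', hN'⟩ : ∃ N', N' = N.map M.subtype ⊓ K := ⟨_, rfl⟩
    have hle : N' ≤ O := by
      rw [hO]
      refine le_oddIn (hN' ▸ inf_le_right) (fun g hg => Subgroup.mem_normalizer_fintype fun x hx => ?_) ?_
      · have hgM : g ∈ M := hM ▸ Subgroup.mem_sup_left hg
        rw [hN'] at hx
        obtain ⟨⟨y, hy, rfl⟩, hxK⟩ := Subgroup.mem_inf.1 hx
        rw [hN']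
        exact Subgroup.mem_inf.2 ⟨⟨⟨g, hgM⟩ * y * ⟨g, hgM⟩⁻¹, hN.conj_mem y hy _, rfl⟩, hKn.conj_mem _ hxK g⟩
      · rw [hN']
        refine hNodd.of_dvd_nat ((Subgroup.card_dvd_of_le inf_le_left).trans ?_)
        rw [Subgroup.card_map_of_injective M.subtype_injective]
    have hkM : k ∈ M := hM ▸ Subgroup.mem_sup_left hk
    refine hle (hN' ▸ Subgroup.mem_inf.2 ⟨⟨_, hNz ⟨k, hkM⟩, rfl⟩, ?_⟩)
    exact MulMemClass.mul_mem (hKn.conj_mem k hk z) (InvMemClass.inv_mem hk)
  have hall : ∀ g : G, ∀ k ∈ K, g * k * g⁻¹ * k⁻¹ ∈ O := by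
    intro g
    refine Subgroup.closure_induction (p := fun g _ => ∀ k ∈ K, g * k * g⁻¹ * k⁻¹ ∈ O) hmem
      (fun k _ => by simp) (fun x y _ _ hx hy k hk => ?_) (fun x _ hx k hk => ?_)
      (hgen.symm ▸ Subgroup.mem_top g)
    · rw [show x * y * k * (x * y)⁻¹ * k⁻¹ = x * (y * k * y⁻¹ * k⁻¹) * x⁻¹ * (x * k * x⁻¹ * k⁻¹) by group]
      exact MulMemClass.mul_mem (hOn.conj_mem _ (hy k hk) x) (hx k hk)
    · have h1 := hx _ (hKn.conj_mem k hk x⁻¹)
      rw [inv_inv, show x * (x⁻¹ * k * x) * x⁻¹ * (x⁻¹ * k * x)⁻¹ = (x⁻¹ * k * x * k⁻¹)⁻¹ by group] at h1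
      simpa using InvMemClass.inv_mem h1
  by_contra heven
  obtain ⟨⟨k, hk⟩, hk2⟩ := exists_prime_orderOf_dvd_card' (G := K) 2
    (even_iff_two_dvd.1 (Nat.not_odd_iff_even.1 heven))
  rw [Subgroup.orderOf_mk] at hk2
  have hkZ : k ∉ Z := fun h => hZK k h hk
  have hle : (⊤ : Subgroup G) ≤ O ⊔ lgen Z k := by
    rw [← hgen]
    refine (Subgroup.closure_le _).2 fun z hz => ?_
    have hcom : k * z * k⁻¹ * z⁻¹ ∈ O := by
      have := InvMemClass.inv_mem (hall z k hk)
      rwa [show (z * k * z⁻¹ * k⁻¹)⁻¹ = k * z * k⁻¹ * z⁻¹ by group] at this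
    obtain ⟨s, hs, hsk⟩ := exists_commuting_conj hOn hOodd hk2 (S.invol z hz) hcom
    have h1 : s * z * s⁻¹ ∈ O ⊔ lgen Z k := Subgroup.mem_sup_right (mem_lgen (S.conj_mem s z hz) hsk)
    have h2 := MulMemClass.mul_mem (MulMemClass.mul_mem (InvMemClass.inv_mem (Subgroup.mem_sup_left
      (T := lgen Z k) hs)) h1) (Subgroup.mem_sup_left (T := lgen Z k) hs)
    rwa [show s⁻¹ * (s * z * s⁻¹) * s = z by group] at h2
  have hk' := hle (Subgroup.mem_top k)
  rw [← SetLike.mem_coe, Subgroup.normal_mul, Set.mem_mul] at hk'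
  obtain ⟨o, ho, l, hl, hol⟩ := hk'
  have hlk : Commute l k := commute_of_mem_lgen hl
  have ho' : o⁻¹ = l * k := by
    rw [inv_eq_iff_mul_eq_one, ← mul_assoc, hol, mul_self_of_orderOf_two hk2]
  obtain ⟨j, hj⟩ := hOodd.of_dvd_nat (Subgroup.orderOf_dvd_natCard _ (InvMemClass.inv_mem ho))
  refine S.notMem_lgen k hk2 hkZ ?_
  have h3 : l ^ orderOf o⁻¹ * k = 1 := by
    have h4 : (l * k) ^ orderOf o⁻¹ = 1 := by rw [← ho', pow_orderOf_eq_one]
    rw [hlk.mul_pow, hj, pow_succ k, pow_mul k, pow_two k, mul_self_of_orderOf_two hk2, one_pow, one_mul] at h4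
    rw [hj]
    exact h4
  rw [mul_eq_one_iff_eq_inv, inv_of_orderOf_two hk2] at h3
  have h5 := Subgroup.pow_mem _ hl (orderOf o⁻¹)
  rwa [h3] at h5

/-- The setting passes to the permutation group. -/
theorem image (hK : Odd (Nat.card (MulAction.toPermHom G Ω).ker)) :
    Hyp (Bender.image G Ω) Ω (toImage G Ω '' Z) := by
  classical
  have hker : ∀ g : G, toImage G Ω g = 1 → g ∈ (MulAction.toPermHom G Ω).ker := fun g h =>
    MonoidHom.mem_ker.2 (Equiv.ext fun x => toImage_eq_one.1 h x)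
  have hlift : ∀ i : Bender.image G Ω, orderOf i = 2 → ∃ g : G, orderOf g = 2 ∧ toImage G Ω g = i := by
    intro i hi
    obtain ⟨g, rfl⟩ := toImage_surjective i
    have h2 : g * g ∈ (MulAction.toPermHom G Ω).ker := hker _ (by rw [map_mul, mul_self_of_orderOf_two hi])
    obtain ⟨j, hj⟩ := hK.of_dvd_nat (Subgroup.orderOf_dvd_natCard _ h2)
    have hmap : toImage G Ω (g ^ orderOf (g * g)) = toImage G Ω g := by
      rw [map_pow, hj, pow_succ, pow_mul, pow_two, mul_self_of_orderOf_two hi, one_pow, one_mul]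
    refine ⟨_, orderOf_two_iff.2 ⟨by rw [← (Commute.refl g).mul_pow, pow_orderOf_eq_one], fun e => ?_⟩, hmap⟩
    rw [e, map_one] at hmap
    rw [← hmap, orderOf_one] at hi
    omega
  have hnotK : ∀ {g : G}, orderOf g = 2 → toImage G Ω g ≠ 1 := fun {g} hg h => by
    have := Subgroup.orderOf_dvd_natCard _ (hker g h)
    rw [hg] at this
    exact Nat.not_even_iff_odd.2 hK (even_iff_two_dvd.2 this)
  have hle : ∀ {u : G}, orderOf u = 2 →
      lgen (toImage G Ω '' Z) (toImage G Ω u) ≤ (lgen Z u).map (toImage G Ω) := by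
    intro u hu
    refine (Subgroup.closure_le _).2 ?_
    rintro _ ⟨⟨z, hz, rfl⟩, hc⟩
    have h1 : u * z * u⁻¹ * z⁻¹ ∈ (MulAction.toPermHom G Ω).ker := hker _ (by
      rw [map_mul, map_mul, map_mul, map_inv, map_inv, ← hc.eq, mul_inv_cancel_right, mul_inv_cancel])
    obtain ⟨s, hs, hsu⟩ := exists_commuting_conj (MonoidHom.normal_ker _) hK hu (S.invol z hz) h1
    refine ⟨s * z * s⁻¹, mem_lgen (S.conj_mem s z hz) hsu, ?_⟩
    have h2 : toImage G Ω s = 1 := toImage_eq_one.2 fun x => congrArg (fun σ : Equiv.Perm Ω => σ x)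
      (MonoidHom.mem_ker.1 hs)
    rw [map_mul, map_mul, map_inv, h2, inv_one, one_mul, mul_one]
  exact
    { transitive := ⟨fun x y => let ⟨g, hg⟩ := S.exists_smul_eq x y; ⟨toImage G Ω g, hg⟩⟩
      nontrivial := S.nontrivial
      nonempty := S.nonempty.image _
      invol := by
        rintro _ ⟨z, hz, rfl⟩
        exact orderOf_two_iff.2 ⟨by rw [← map_mul, mul_self_of_orderOf_two (S.invol z hz), map_one],
          hnotK (S.invol z hz)⟩
      unique_fix := by
        rintro _ ⟨z, hz, rfl⟩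
        exact S.unique_fix z hz
      conj_mem := by
        rintro g _ ⟨z, hz, rfl⟩
        obtain ⟨g, rfl⟩ := toImage_surjective g
        exact ⟨g * z * g⁻¹, S.conj_mem g z hz, by rw [map_mul, map_mul, map_inv]⟩
      notMem_lgen := by
        intro i hi hiZ hmem
        obtain ⟨u, hu, rfl⟩ := hlift i hi
        obtain ⟨l, hl, hlu⟩ := hle hu hmem
        have hlk : Commute l u := commute_of_mem_lgen hl
        have hk : l * u ∈ (MulAction.toPermHom G Ω).ker := hker _ (by
          rw [map_mul, hlu, mul_self_of_orderOf_two hi])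
        obtain ⟨j, hj⟩ := hK.of_dvd_nat (Subgroup.orderOf_dvd_natCard _ hk)
        refine S.notMem_lgen u hu (fun h => hiZ ⟨u, h, rfl⟩) ?_
        have h4 := pow_orderOf_eq_one (l * u)
        rw [hlk.mul_pow] at h4
        nth_rewrite 2 [hj] at h4
        rw [pow_succ u, pow_mul u, pow_two u, mul_self_of_orderOf_two hu, one_pow, one_mul, mul_eq_one_iff_eq_inv,
          inv_of_orderOf_two hu] at h4
        have h5 := Subgroup.pow_mem _ hl (orderOf (l * u))
        rwa [h4] at h5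
      lgen_fix := by
        intro i hi hiZ r hr hr2 x y hix hiy hrx hry
        obtain ⟨u, hu, rfl⟩ := hlift i hi
        obtain ⟨l, hl, rfl⟩ := hle hu hr
        have h2 : l * l ∈ (MulAction.toPermHom G Ω).ker := hker _ (by
          rw [map_mul, mul_self_of_orderOf_two hr2])
        obtain ⟨j, hj⟩ := hK.of_dvd_nat (Subgroup.orderOf_dvd_natCard _ h2)
        have hmap : toImage G Ω (l ^ orderOf (l * l)) = toImage G Ω l := by
          rw [map_pow, hj, pow_succ, pow_mul, pow_two, mul_self_of_orderOf_two hr2, one_pow, one_mul]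
        refine S.lgen_fix u hu (fun h => hiZ ⟨u, h, rfl⟩) _ (Subgroup.pow_mem _ hl _)
          (orderOf_two_iff.2 ⟨by rw [← (Commute.refl l).mul_pow, pow_orderOf_eq_one], fun e => ?_⟩) x y hix hiy
          ?_ ?_
        · rw [e, map_one] at hmap
          rw [← hmap, orderOf_one] at hr2
          omega
        · show toImage G Ω (l ^ orderOf (l * l)) • x = x
          rw [hmap]; exact hrx
        · show toImage G Ω (l ^ orderOf (l * l)) • y = y
          rw [hmap]; exact hry }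

/-- The conclusion comes back from the permutation group. -/
theorem goal_of_image (hK : Odd (Nat.card (MulAction.toPermHom G Ω).ker)) (h : Goal (toImage G Ω '' Z)) :
    Goal Z := by
  intro r hr hr2
  have hr1 : toImage G Ω r ≠ 1 := fun e => by
    have := Subgroup.orderOf_dvd_natCard (MulAction.toPermHom G Ω).ker (x := r)
      (MonoidHom.mem_ker.2 (Equiv.ext fun x => toImage_eq_one.1 e x))
    rw [hr2] at this
    exact Nat.not_even_iff_odd.2 hK (even_iff_two_dvd.2 this)
  obtain ⟨z, hz, hzr⟩ := h (toImage G Ω r) (MonoidHom.map_closure (toImage G Ω) Z ▸ Subgroup.mem_map_of_mem _ hr)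
    (orderOf_two_iff.2 ⟨by rw [← map_mul, mul_self_of_orderOf_two hr2, map_one], hr1⟩)
  obtain ⟨s, -, hs⟩ := exists_conj_of_coset hK (S.invol z hz) hr2 (MonoidHom.mem_ker.2 (Equiv.ext fun x => by
    have h1 : toImage G Ω (z * r) = 1 := by
      rw [map_mul, ← hzr, ← map_mul, mul_self_of_orderOf_two (S.invol z hz), map_one]
    exact toImage_eq_one.1 h1 x))
  exact hs ▸ S.conj_mem s z hz

end Hyp

end Cfsg.Agent.Invol.Aschbacher
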