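import Cfsg.Agent.Lib.Invol.Aschbacher.CoreTrivial
import Cfsg.Agent.Lib.Transfer.RankOne.Structure
import Cfsg.Agent.Lib.Transfer.RankOne.Reduce

/-!
# The group of an involution outside `Z` as a rank one group

With two commuting members, `lgen Z u` acts faithfully on the fixed points of `u` as a simple rank one group; so
with `r - 1` members at a point commuting with `u` there are `r`, `r ^ 2` or `r ^ 3` fixed points besides it.
-/

set_option autoImplicit false
set_option linter.unusedSectionVars false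

namespace Cfsg.Agent.Invol.Aschbacher

open MulAction Subgroup
open Cfsg.Agent.Invol.Bender (cen cenAct ker mem_ker TwoRank twoRank_top)

universe u

variable {G : Type u} [Group G] [Finite G] {Ω : Type u} [MulAction G Ω] {Z : Set G}

/-- The members at `a` commuting with `u`. -/
def cAt (Z : Set G) (u : G) (a : Ω) : Set G := {e | e ∈ zAt Z a ∧ Commute e u}

namespace Hyp

variable (S : Hyp G Ω Z) [FaithfulSMul G Ω]
include S
variable (hB : ClosedBelow Ω Z) {u : G} (hu : orderOf u = 2) (huZ : u ∉ Z) (h2 : TwoRank (lgen Z u))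
include hB hu huZ h2

/-- The group of `u` is faithful on the fixed points of `u`. -/
theorem faithful_lgen : FaithfulSMul (lgen Z u) (cenAct Ω (lgen Z u)) := by
  constructor
  intro g h hgh
  have h1 : ((h⁻¹ * g : lgen Z u) : G) ∈ ker Ω (lgen Z u) := mem_ker.2 ⟨(h⁻¹ * g).2, fun x hx => by
    have := congrArg Subtype.val ((mul_smul h⁻¹ g (⟨x, hx⟩ : cenAct Ω (lgen Z u))).trans (by
      rw [hgh, inv_smul_smul]))
    exact this⟩
  rw [S.ker_lgen_eq_bot hB hu huZ h2, Subgroup.mem_bot, OneMemClass.coe_eq_one, inv_mul_eq_one] at h1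
  exact h1.symm

/-- The rank one set-up on the fixed points of `u`, at two of them. -/
theorem exists_rankOne_pair {a b : Ω} (ha : u • a = a) (hb' : u • b = b) (hba : b ≠ a) :
    ∃ (a' : cenAct Ω (lgen Z u)) (v : lgen Z u) (Q : Subgroup (lgen Z u)), (a' : Ω) = a ∧ (v : G) • a = b ∧
      orderOf (v : G) = 2 ∧ IsSimpleGroup (lgen Z u) ∧
      Transfer.RankOne.Hyp (lgen Z u) (cenAct Ω (lgen Z u)) a' v Q := by
  have F := S.frame_centralizer hB hu huZ h2
  have U := S.benderHyp F.sub.zonly F.sub.nontrivial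
  haveI := S.faithful_lgen hB hu huZ h2
  have hsplit := Bender.main U (twoRank_top F.sub.rank)
  have hac : a ∈ cen Ω (lgen Z u) := by rw [S.cen_lgen hu F.sub.zonly]; exact ha
  have hb : b ∈ cen Ω (lgen Z u) := by rw [S.cen_lgen hu F.sub.zonly]; exact hb'
  have hne : (⟨a, hac⟩ : cenAct Ω (lgen Z u)) ≠ ⟨b, hb⟩ := fun e => hba (congrArg Subtype.val e).symm
  obtain ⟨v, hv⟩ := U.exists_swap_pair hne
  obtain ⟨Q, R⟩ := Bender.exists_rankOne U (twoRank_top F.sub.rank) hsplit hne hv
  refine ⟨_, v, Q, rfl, congrArg Subtype.val hv.2, (Subgroup.orderOf_coe v).trans hv.1, ?_, R⟩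
  have htop : Transfer.RankOne.invGen (lgen Z u) = ⊤ := by
    refine top_le_iff.1 ((Subgroup.closure_closure_coe_preimage (k := {z | z ∈ Z ∧ Commute z u})).symm.le.trans
      (Subgroup.closure_mono fun z hz => ?_))
    obtain ⟨h1, h0⟩ := orderOf_two_iff.1 (S.invol _ hz.1)
    exact ⟨fun e => h0 (congrArg Subtype.val e), Subtype.ext h1⟩
  haveI := Transfer.RankOne.invGen_simple R
  exact ((MulEquiv.subgroupCongr htop).trans Subgroup.topEquiv).symm.isSimpleGroup

/-- The rank one set-up on the fixed points of `u`. -/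
theorem exists_rankOne_lgen {a : Ω} (ha : u • a = a) :
    ∃ (a' : cenAct Ω (lgen Z u)) (v : lgen Z u) (Q : Subgroup (lgen Z u)), (a' : Ω) = a ∧
      IsSimpleGroup (lgen Z u) ∧ Transfer.RankOne.Hyp (lgen Z u) (cenAct Ω (lgen Z u)) a' v Q := by
  obtain ⟨b, hb, hba⟩ := S.exists_other_fix hu huZ a
  obtain ⟨a', v, Q, h1, -, -, h3, h4⟩ := S.exists_rankOne_pair hB hu huZ h2 ha hb hba
  exact ⟨a', v, Q, h1, h3, h4⟩

/-- The number of the other fixed points is a power of the number of members, up to the cube. -/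
theorem others_eq_pow {a : Ω} (ha : u • a = a) :
    ∃ k : ℕ, 1 ≤ k ∧ k ≤ 3 ∧ (others u a).ncard = ((cAt Z u a).ncard + 1) ^ k := by
  classical
  have F := S.frame_centralizer hB hu huZ h2
  obtain ⟨a', v, Q, ha', hsimp, R⟩ := S.exists_rankOne_lgen hB hu huZ h2 ha
  haveI := hsimp
  haveI := S.faithful_lgen hB hu huZ h2
  haveI := S.finite_points
  -- the regular subgroup counts the other fixed points
  have hQ : Nat.card Q = (others u a).ncard := by
    rw [← Nat.card_coe_set_eq]
    have hmem : ∀ x : cenAct Ω (lgen Z u), (x : Ω) ∈ others u a ↔ x ≠ a' := fun x => by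
      have hx : u • (x : Ω) = x := (S.cen_lgen hu F.sub.zonly).le x.2
      exact ⟨fun h e => h.2 ((congrArg Subtype.val e).trans ha'), fun h => ⟨hx, fun e => h (Subtype.ext
        (e.trans ha'.symm))⟩⟩
    refine Nat.card_eq_of_bijective (fun q => ⟨((q : lgen Z u) • v • a' : cenAct Ω (lgen Z u)),
      (hmem _).2 fun e => Lie.RankOne.b_ne R.setup (smul_left_cancel _ (e.trans
        (Lie.RankOne.q_fix R.setup q.2).symm))⟩) ⟨fun p q h => ?_, fun x => ?_⟩
    · exact Subtype.ext (Lie.RankOne.q_unique R.setup p.2 q.2 (Subtype.ext ((Subtype.ext_iff.1 h :))))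
    · have hx : (x : Ω) ∈ cen Ω (lgen Z u) := by rw [S.cen_lgen hu F.sub.zonly]; exact x.2.1
      obtain ⟨q, hq, hqx⟩ := Lie.RankOne.exists_q R.setup (c := ⟨x, hx⟩) ((hmem _).1 x.2)
      refine ⟨⟨q, hq⟩, Subtype.ext ?_⟩
      show ((q • v • a' : cenAct Ω (lgen Z u)) : Ω) = x
      rw [hqx]
  -- the involutions of `Q` are the members at the point
  have hZ : Nat.card (Transfer.RankOne.zGrp (lgen Z u) a') = (cAt Z u a).ncard + 1 := by
    rw [Transfer.RankOne.card_zGrp_eq R, ← Set.ncard_insert_of_notMem (a := (1 : G)) (fun h => ?_),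
      ← Nat.card_coe_set_eq]
    · refine Nat.card_eq_of_bijective (fun q => ⟨((q.1 : lgen Z u) : G), ?_⟩) ⟨fun p q h => ?_, fun x => ?_⟩
      · rcases eq_or_ne ((q.1 : lgen Z u) : G) 1 with h | h
        · exact Or.inl h
        · refine Or.inr ⟨⟨F.sub.zonly _ (q.1 : lgen Z u).2 (orderOf_two_iff.2 ⟨congrArg
            (fun y : Q => ((y : lgen Z u) : G)) q.2, h⟩), ?_⟩, commute_of_mem_lgen (q.1 : lgen Z u).2⟩
          rw [← ha']
          exact congrArg Subtype.val (Lie.RankOne.q_fix R.setup q.1.2)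
      · exact Subtype.ext (Subtype.ext (Subtype.ext (congrArg Subtype.val h :)))
      · rcases x.2 with h | ⟨⟨hz, hza⟩, hzu⟩
        · exact ⟨⟨1, one_mul 1⟩, Subtype.ext h.symm⟩
        · have hm : (⟨x, mem_lgen hz hzu⟩ : lgen Z u) * ⟨x, mem_lgen hz hzu⟩ = 1 :=
            Subtype.ext (mul_self_of_orderOf_two (S.invol _ hz))
          have hxQ := Lie.RankOne.invol_mem_Q R.setup (s := ⟨x, mem_lgen hz hzu⟩)
            (mem_stabilizer_iff.2 (Subtype.ext (show (x : G) • (a' : Ω) = a' by rw [ha', hza]))) hm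
          exact ⟨⟨⟨_, hxQ⟩, Subtype.ext hm⟩, rfl⟩
    · have := S.invol _ h.1.1
      rw [orderOf_one] at this
      omega
  rw [← hQ, ← hZ]
  obtain ⟨-, h | ⟨-, h | ⟨h, -⟩⟩⟩ := Transfer.RankOne.struct_all R
  · exact ⟨1, le_rfl, by omega, by rw [pow_one, h]⟩
  · exact ⟨2, by omega, by omega, h⟩
  · exact ⟨3, by omega, le_rfl, h⟩

end Hyp

end Cfsg.Agent.Invol.Aschbacher
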