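import Cfsg.Agent.Lib.Invol.Aschbacher.Basic

/-!
# The middle involution

For an involution `u` outside `Z` and a member `x` at a point `b` moved by `u` there is exactly one member `w`
commuting with `u` such that `u w` commutes with `x`; `u w` fixes `b` and `u b`.  Consequently the members commuting
with `u` are conjugate, and in a faithful action every involution outside `Z` fixes at least two points.
-/

set_option autoImplicit false
set_option linter.unusedSectionVars false

namespace Cfsg.Agent.Invol.Aschbacher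

open MulAction Subgroup
open Cfsg.Agent.Invol.Bender (conj_smul_smul swap_symm)

universe u v

variable {G : Type u} {Ω : Type v} [Group G] [MulAction G Ω] [Finite G] {Z : Set G}

namespace Hyp

variable (S : Hyp G Ω Z)
include S

omit [Finite G] in
/-- The product of an involution outside `Z` and a member commuting with it is an involution outside `Z`. -/
theorem mul_notMem {u w : G} (hu : orderOf u = 2) (huZ : u ∉ Z) (hw : w ∈ Z) (hc : Commute w u) :
    orderOf (u * w) = 2 ∧ u * w ∉ Z ∧ Commute (u * w) u ∧ Commute (u * w) w := by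
  have hww := mul_self_of_orderOf_two (S.invol w hw)
  have h1 : orderOf (u * w) = 2 := orderOf_two_iff.2 ⟨by
    calc u * w * (u * w) = u * (w * u) * w := by group
      _ = u * (u * w) * w := by rw [hc.eq]
      _ = u * u * (w * w) := by group
      _ = 1 := by rw [mul_self_of_orderOf_two hu, hww, one_mul], fun e => huZ (by
        rw [mul_eq_one_iff_eq_inv, inv_of_orderOf_two (S.invol w hw)] at e; exact e ▸ hw)⟩
  refine ⟨h1, fun hZ => huZ ?_, (Commute.refl u).mul_left hc, hc.symm.mul_left (Commute.refl w)⟩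
  have h2 : u * w ≠ w := fun e => by
    rw [mul_eq_right] at e
    rw [e, orderOf_one] at hu
    omega
  have h3 := S.mul_mem hZ hw h2 (hc.symm.mul_left (Commute.refl w))
  rwa [mul_assoc, hww, mul_one] at h3

/-- The middle involution. -/
theorem exists_middle {u x : G} (hu : orderOf u = 2) (huZ : u ∉ Z) {b : Ω} (hub : u • b ≠ b)
    (hx : x ∈ zAt Z b) : ∃ w ∈ Z, Commute w u ∧ Commute (u * w) x ∧ (u * w) • b = b ∧
      ∀ g : G, Commute g u → Commute g x → Commute g (u * w) := by
  have hx2 := S.invol x hx.1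
  have heven : Even (orderOf (u * x)) := by
    refine Nat.not_odd_iff_even.1 fun hodd => huZ ?_
    obtain ⟨n, hn⟩ := hodd
    have hk : (u * x) ^ (n : ℤ) * u * ((u * x) ^ (n : ℤ))⁻¹ = x := by
      rw [← zpow_neg, mul_assoc, mul_zpow_comm hu hx2, neg_neg, ← mul_assoc, ← zpow_add]
      have h1 : (u * x) ^ ((n : ℤ) + n) = (u * x)⁻¹ := by
        rw [eq_inv_iff_mul_eq_one, ← zpow_add_one, show (n : ℤ) + n + 1 = ((2 * n + 1 : ℕ) : ℤ) by push_cast; ring,
          zpow_natCast, ← hn, pow_orderOf_eq_one]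
      rw [h1, _root_.mul_inv_rev, mul_assoc, inv_mul_cancel, mul_one, inv_of_orderOf_two hx2]
    have h2 := S.conj_mem ((u * x) ^ (n : ℤ))⁻¹ x hx.1
    nth_rewrite 2 [← hk] at h2
    simpa [mul_assoc] using h2
  obtain ⟨r, hr⟩ := heven
  obtain ⟨v, hv⟩ : ∃ v, v = (u * x) ^ r := ⟨_, rfl⟩
  have hr0 : r ≠ 0 := fun e => (orderOf_pos (u * x)).ne' (by rw [hr, e])
  have hv2 : orderOf v = 2 := by
    rw [hv, orderOf_pow, hr, Nat.gcd_eq_right ⟨2, by ring⟩, ← two_mul]
    exact Nat.mul_div_cancel _ (by omega)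
  have h1 : Commute u v := by
    have h2 := mul_zpow_comm hu hx2 (r : ℤ)
    rw [zpow_natCast, zpow_neg, zpow_natCast, ← hv, inv_of_orderOf_two hv2] at h2
    exact h2
  have h3 : Commute x v := by
    have hc : Commute (u * x) v := hv ▸ Commute.self_pow (u * x) r
    have := h1.mul_left hc
    rwa [← y_eq hu] at this
  have hvb : v • b = b := S.fix_of_commute hx.1 hx.2 h3.symm
  -- `r` is odd: the square of `u x` is a product of two members at different points
  have hrodd : Odd r := by
    have hx' : u * x * u ∈ Z := by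
      have := S.conj_mem u x hx.1
      rwa [inv_of_orderOf_two hu] at this
    have hfix : (u * x * u) • (u • b) = u • b := by
      rw [mul_smul, mul_smul, ← mul_smul u u, mul_self_of_orderOf_two hu, one_smul, hx.2]
    have h4 := S.odd_product hx' hx.1 hfix hx.2 hub
    rw [show u * x * u * x = (u * x) ^ 2 by rw [pow_two]; group, orderOf_pow, hr, ← two_mul] at h4
    rw [Nat.gcd_eq_right (Dvd.intro r rfl), Nat.mul_div_cancel_left _ two_pos] at h4
    exact h4
  obtain ⟨i, hi⟩ := hrodd
  have hw : u * v ∈ Z := by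
    have h5 : ((u * x) ^ (i : ℤ))⁻¹ * x * (u * x) ^ (i : ℤ) = u * v := by
      have e1 : u * (u * x) ^ (i : ℤ) = ((u * x) ^ (i : ℤ))⁻¹ * u := by
        rw [mul_zpow_comm hu hx2, zpow_neg]
      rw [hv, hi, ← zpow_natCast (u * x) (2 * i + 1),
        show ((2 * i + 1 : ℕ) : ℤ) = i + (1 + i) by push_cast; ring, zpow_add, zpow_add, zpow_one, ← mul_assoc, e1]
      simp only [mul_assoc]
      rw [← mul_assoc u u, mul_self_of_orderOf_two hu, one_mul]
    have h6 := S.conj_mem ((u * x) ^ (i : ℤ))⁻¹ x hx.1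
    rw [inv_inv, h5] at h6
    exact h6
  have hwu : Commute (u * v) u := (Commute.refl u).mul_left h1.symm
  have e : u * (u * v) = v := by rw [← mul_assoc, mul_self_of_orderOf_two hu, one_mul]
  exact ⟨u * v, hw, hwu, by rw [e]; exact h3.symm, by rw [e]; exact hvb, fun g hgu hgx => by
    rw [e, hv]; exact (hgu.mul_right hgx).pow_right r⟩

/-- The middle involution is unique. -/
theorem middle_unique {u x w w' : G} (hu : orderOf u = 2) (huZ : u ∉ Z) {b : Ω} (hub : u • b ≠ b)
    (hx : x ∈ zAt Z b) (hw : w ∈ Z) (hwu : Commute w u) (hwx : Commute (u * w) x) (hw' : w' ∈ Z)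
    (hwu' : Commute w' u) (hwx' : Commute (u * w') x) : w = w' := by
  obtain ⟨w₀, hw₀, hwu₀, hwx₀, hw₀b, hall⟩ := S.exists_middle hu huZ hub hx
  suffices h : ∀ w ∈ Z, Commute w u → Commute (u * w) x → w = w₀ by
    rw [h w hw hwu hwx, h w' hw' hwu' hwx']
  intro w hw hwu hwx
  by_contra hne
  obtain ⟨-, -, hvu, -⟩ := S.mul_notMem hu huZ hw hwu
  have huu := mul_self_of_orderOf_two hu
  have h1 : Commute w (u * w₀) := by
    have h2 : Commute (u * (u * w)) (u * w₀) :=
      ((Commute.refl u).mul_right hwu₀.symm).mul_left (hall _ hvu hwx)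
    rwa [← mul_assoc, huu, one_mul] at h2
  have h2 : Commute w w₀ := by
    have h3 : Commute w (u * (u * w₀)) := hwu.mul_right h1
    rwa [← mul_assoc, huu, one_mul] at h3
  have hp := S.mul_mem hw hw₀ hne h2
  have hpx : Commute (w * w₀) x := by
    have h4 := hwx.mul_left hwx₀
    rwa [show u * w * (u * w₀) = w * w₀ by
      calc u * w * (u * w₀) = u * (w * u) * w₀ := by group
        _ = u * (u * w) * w₀ := by rw [hwu.eq]
        _ = u * u * (w * w₀) := by group
        _ = w * w₀ := by rw [huu, one_mul]] at h4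
  obtain ⟨c, hc⟩ := S.exists_fix hw₀
  have hwc : w • c = c := S.fix_of_commute hw₀ hc h2
  have hbc : c = b := S.fix_unique hp (by rw [mul_smul, hc, hwc]) (S.fix_of_commute hx.1 hx.2 hpx)
  exact hub (hbc ▸ S.fix_of_commute hw₀ hc hwu₀.symm)

/-- Every involution outside `Z` is a product with a member commuting with it which fixes a given point. -/
theorem exists_mul_fix {u : G} (hu : orderOf u = 2) (huZ : u ∉ Z) (b : Ω) (hub : u • b ≠ b) :
    ∃ w ∈ Z, Commute w u ∧ (u * w) • b = b ∧ (u * w) • (u • b) = u • b := by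
  obtain ⟨x, hx⟩ := S.zAt_nonempty b
  obtain ⟨w, hw, hwu, -, hb, -⟩ := S.exists_middle hu huZ hub hx
  refine ⟨w, hw, hwu, hb, ?_⟩
  rw [← mul_smul, (S.mul_notMem hu huZ hw hwu).2.2.1.eq, mul_smul, hb]

/-- Members commuting with an involution outside `Z` which has two fixed points are conjugate in its group. -/
theorem exists_conj_lgen {u : G} (hu : orderOf u = 2) {c d : Ω} (hc : u • c = c) (hd : u • d = d) (hcd : c ≠ d)
    {w w' : G} (hw : w ∈ Z) (hwu : Commute w u) (hw' : w' ∈ Z) (hwu' : Commute w' u) :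
    ∃ g ∈ lgen Z u, g * w * g⁻¹ = w' := by
  obtain ⟨p, hp⟩ := S.exists_fix hw
  obtain ⟨q, hq⟩ := S.exists_fix hw'
  have key : ∀ {z t : G} {x y : Ω}, z ∈ Z → Commute z u → z • x = x → t ∈ Z → Commute t u → t • y = y → x ≠ y →
      ∃ g ∈ lgen Z u, g * z * g⁻¹ = t := by
    intro z t x y hz hzu hzx ht htu hty hxy
    obtain ⟨m, -, hm, hmz, -⟩ := S.exists_swapper hz ht hzx hty hxy
    refine ⟨m, (Subgroup.closure_le _).2 ?_ hm, hmz⟩
    rintro g (rfl | rfl)
    · exact mem_lgen hz hzu
    · exact mem_lgen ht htu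
  rcases eq_or_ne p q with rfl | hpq
  · obtain ⟨e, he, hep⟩ : ∃ e, u • e = e ∧ e ≠ p := by
      rcases eq_or_ne c p with rfl | h
      · exact ⟨d, hd, hcd.symm⟩
      · exact ⟨c, hc, h⟩
    obtain ⟨t, ⟨ht, hte⟩, htu⟩ := S.exists_partner_invol hu he
    obtain ⟨g, hg, hgw⟩ := key hw hwu hp ht htu hte hep.symm
    obtain ⟨h, hh, hhw⟩ := key ht htu hte hw' hwu' hq hep
    refine ⟨h * g, Subgroup.mul_mem _ hh hg, ?_⟩
    rw [← hhw, ← hgw]; group
  · exact key hw hwu hp hw' hwu' hq hpq

/-- In a faithful action an involution outside `Z` fixes at least two points. -/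
theorem exists_other_fix [FaithfulSMul G Ω] {u : G} (hu : orderOf u = 2) (huZ : u ∉ Z) (a : Ω) :
    ∃ x : Ω, u • x = x ∧ x ≠ a := by
  by_contra hcon
  push Not at hcon
  have hmove : ∀ {g : G}, orderOf g = 2 → ∃ b : Ω, g • b ≠ b := fun {g} hg => by
    by_contra h
    push Not at h
    have h1 : g = 1 := eq_of_smul_eq_smul (α := Ω) fun x => by rw [h x, one_smul]
    rw [h1, orderOf_one] at hg
    omega
  obtain ⟨b, hub⟩ := hmove hu
  obtain ⟨w, hw, hwu, hb, hb'⟩ := S.exists_mul_fix hu huZ b hub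
  obtain ⟨hv2, hvZ, hvu, hvw⟩ := S.mul_notMem hu huZ hw hwu
  obtain ⟨d, hd⟩ := hmove hv2
  obtain ⟨w₁, hw₁, hw₁v, hd1, hd2⟩ := S.exists_mul_fix hv2 hvZ d hd
  -- `u` is `v w`, a conjugate of `v w₁`
  obtain ⟨g, hg, hgw⟩ := S.exists_conj_lgen hv2 hb hb' (Ne.symm hub) hw₁ hw₁v hw hvw.symm
  have hgu : g * (u * w * w₁) * g⁻¹ = u := by
    have h1 : g * (u * w) * g⁻¹ = u * w := by rw [(commute_of_mem_lgen hg).eq, mul_inv_cancel_right]
    calc g * (u * w * w₁) * g⁻¹ = g * (u * w) * g⁻¹ * (g * w₁ * g⁻¹) := by group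
      _ = u * w * w := by rw [h1, hgw]
      _ = u := by rw [mul_assoc, mul_self_of_orderOf_two (S.invol w hw), mul_one]
  have h2 : ∀ y : Ω, (u * w * w₁) • y = y → g • y = a := fun y hy => hcon _ (by
    conv_lhs => rw [← hgu]
    rw [conj_smul_smul, hy])
  exact hd (smul_left_cancel g ((h2 _ hd1).trans (h2 _ hd2).symm)).symm

end Hyp

end Cfsg.Agent.Invol.Aschbacher
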