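import Cfsg.Agent.Lib.Invol.Aschbacher.Frames
import Cfsg.Agent.Lib.Invol.Aschbacher.Refine
import Cfsg.Agent.Lib.Invol.Aschbacher.Conj
import Cfsg.Agent.Lib.Invol.ZStar

/-!
# The reduction of a counterexample

A minimal counterexample to the criterion is generated by its members, has two commuting members at each point,
and its points may be taken to be the classes of commuting members; the action is then doubly transitive.
-/

set_option autoImplicit false
set_option linter.unusedSectionVars false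

namespace Cfsg.Agent.Invol.Aschbacher

open MulAction Subgroup
open Cfsg.Agent.Invol.Bender (conj_smul_smul)

universe u

variable {G : Type u} [Group G] [Finite G] {Ω : Type u} [MulAction G Ω] {Z : Set G}

namespace Hyp

variable (S : Hyp G Ω Z)
include S

/-- A counterexample is generated by its members. -/
theorem gen_of_not_goal (hb : Below.{u, u} (Nat.card G)) (hG : ¬ Goal Z) : Subgroup.closure Z = ⊤ := by
  by_contra hne
  refine hG fun r hr hr2 => ?_
  obtain ⟨x, y, hxy⟩ := S.nontrivial.exists_pair_ne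
  obtain ⟨z, hz, hzx⟩ := S.zAt_nonempty x
  obtain ⟨t, ht, hty⟩ := S.zAt_nonempty y
  exact S.allZ_closure_inter hb ⟨x, ⟨z, hz, Subgroup.subset_closure hz, hzx⟩, y,
    ⟨t, ht, Subgroup.subset_closure ht, hty⟩, hxy⟩ hne r
    (Subgroup.closure_mono (fun w hw => (⟨hw, Subgroup.subset_closure hw⟩ : w ∈ Z ∧ w ∈ Subgroup.closure Z)) hr) hr2

/-- One commuting pair at a point gives one at every point. -/
theorem fourAt_of_pair {d : Ω} {x y : G} (hx : x ∈ zAt Z d) (hy : y ∈ zAt Z d) (hxy : x ≠ y)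
    (hc : Commute x y) : FourAt Z Ω := by
  intro e
  obtain ⟨g, rfl⟩ := S.exists_smul_eq d e
  exact ⟨g * x * g⁻¹, S.zAt_conj hx, g * y * g⁻¹, S.zAt_conj hy,
    fun h => hxy (mul_left_cancel (mul_right_cancel h)), hc.conj g⟩

/-- A counterexample has two commuting members at a point. -/
theorem fourAt_of_not_goal [FaithfulSMul G Ω] (hgen : Subgroup.closure Z = ⊤) {u : G} (hu : orderOf u = 2)
    (huZ : u ∉ Z) : FourAt Z Ω := by
  classical
  haveI : Fact (Nat.Prime 2) := ⟨Nat.prime_two⟩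
  by_contra hcon
  have hno : ∀ {x y : G}, x ∈ Z → y ∈ Z → Commute x y → x = y := fun {x y} hx hy hc => by
    by_contra hne
    obtain ⟨d, hd⟩ := S.exists_fix hx
    exact hcon (S.fourAt_of_pair ⟨hx, hd⟩ ⟨hy, S.fix_of_commute hx hd hc.symm⟩ hne hc)
  -- each member is isolated
  have hiso : ∀ z ∈ Z, ∃ N : Subgroup G, N.Normal ∧ Odd (Nat.card N) ∧ ∀ g : G, z * g * z⁻¹ * g⁻¹ ∈ N := by
    intro z hz
    obtain ⟨T, hT⟩ := (IsPGroup.of_card (n := 1) (by rw [Nat.card_zpowers, S.invol z hz, pow_one]) :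
      IsPGroup 2 (Subgroup.zpowers z)).exists_le_sylow
    obtain ⟨c, hc, -, hcc⟩ := S.exists_central (X := (T : Subgroup G)) T.isPGroup'
      ⟨z, hz, hT (Subgroup.mem_zpowers z)⟩
    have hzT : z ∈ (T : Subgroup G) := hT (Subgroup.mem_zpowers z)
    refine ZStar.exists_odd_normal (ZStar.isIsolated_of_sylow (P := T) hzT (S.invol z hz) fun g hg => ?_)
    exact (hno hc (S.conj_mem g z hz) (hcc _ hg)).symm.trans (hno hc hz (hcc z hzT))
  obtain ⟨z, hz⟩ := S.nonempty
  obtain ⟨N, hN, hNodd, hNz⟩ := hiso z hz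
  haveI := hN
  -- one class modulo `N`
  have hsame : ∀ t ∈ Z, QuotientGroup.mk' N t = QuotientGroup.mk' N z := by
    intro t ht
    have hconj : ∀ g : G, QuotientGroup.mk' N (g * z * g⁻¹) = QuotientGroup.mk' N z := fun g => by
      refine (QuotientGroup.eq.2 ?_).symm
      show z⁻¹ * (g * z * g⁻¹) ∈ N
      have := hN.conj_mem _ (hNz g⁻¹) g
      have h2 := inv_mem this
      rw [inv_of_orderOf_two (S.invol z hz)] at h2 ⊢
      rw [show (g * (z * g⁻¹ * z * g⁻¹⁻¹) * g⁻¹)⁻¹ = z⁻¹ * (g * z⁻¹ * g⁻¹) by group,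
        inv_of_orderOf_two (S.invol z hz)] at h2
      exact h2
    obtain ⟨d, hd⟩ := S.exists_fix hz
    obtain ⟨e, he⟩ := S.exists_fix ht
    have key : ∀ {x y : G} {a b : Ω}, x ∈ Z → y ∈ Z → x • a = a → y • b = b → a ≠ b → ∃ g : G, g * x * g⁻¹ = y :=
      fun hx hy ha hb hab => by
        obtain ⟨m, -, -, hm, -⟩ := S.exists_swapper hx hy ha hb hab
        exact ⟨m, hm⟩
    rcases eq_or_ne d e with rfl | hde
    · haveI := S.nontrivial
      obtain ⟨f, hf⟩ := exists_ne d
      obtain ⟨s, hs⟩ := S.zAt_nonempty f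
      obtain ⟨g, hg⟩ := key hz hs.1 hd hs.2 hf.symm
      obtain ⟨h, hh⟩ := key hs.1 ht hs.2 he hf
      rw [show t = (h * g) * z * (h * g)⁻¹ by rw [← hh, ← hg]; group]
      exact hconj _
    · obtain ⟨g, hg⟩ := key hz ht hd he hde
      rw [← hg]
      exact hconj g
  have htop : ∀ g : G, g ∈ N ∨ g * z ∈ N := by
    intro g
    have hle : (⊤ : Subgroup G) ≤ (Subgroup.zpowers (QuotientGroup.mk' N z)).comap (QuotientGroup.mk' N) := by
      rw [← hgen]
      refine (Subgroup.closure_le _).2 fun t ht => ?_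
      show QuotientGroup.mk' N t ∈ Subgroup.zpowers (QuotientGroup.mk' N z)
      rw [hsame t ht]
      exact Subgroup.mem_zpowers _
    obtain ⟨k, hk⟩ := Subgroup.mem_zpowers_iff.1 (hle (Subgroup.mem_top g))
    rw [← map_zpow] at hk
    have h1 := QuotientGroup.eq.1 hk
    have h1' : (z ^ k)⁻¹ * g ∈ N := h1
    rcases zpow_eq_one_or_self (S.invol z hz) k with h | h <;> rw [h] at h1'
    · exact Or.inl (by simpa using h1')
    · refine Or.inr ?_
      have h2 := hN.conj_mem _ h1' z
      rwa [mul_inv_cancel_left, inv_of_orderOf_two (S.invol z hz)] at h2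
  -- so the order is twice an odd number
  have hidx : N.index = 2 := by
    rw [Subgroup.index_eq_two_iff]
    refine ⟨z, fun b => ?_⟩
    rcases htop b with h | h
    · refine Or.inr ⟨h, fun h' => ?_⟩
      have : z ∈ N := by
        have := MulMemClass.mul_mem (inv_mem h) h'
        rwa [inv_mul_cancel_left] at this
      have h2 := Subgroup.orderOf_dvd_natCard N this
      rw [S.invol z hz] at h2
      exact Nat.not_even_iff_odd.2 hNodd (even_iff_two_dvd.2 h2)
    · refine Or.inl ⟨h, fun h' => ?_⟩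
      have : z ∈ N := by
        have := MulMemClass.mul_mem (inv_mem h') h
        rwa [inv_mul_cancel_left] at this
      have h2 := Subgroup.orderOf_dvd_natCard N this
      rw [S.invol z hz] at h2
      exact Nat.not_even_iff_odd.2 hNodd (even_iff_two_dvd.2 h2)
  obtain ⟨T, hT⟩ := (IsPGroup.of_card (n := 1) (by rw [Nat.card_zpowers, S.invol z hz, pow_one]) :
    IsPGroup 2 (Subgroup.zpowers z)).exists_le_sylow
  obtain ⟨T', hT'⟩ := (IsPGroup.of_card (n := 1) (by rw [Nat.card_zpowers, hu, pow_one]) :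
    IsPGroup 2 (Subgroup.zpowers u)).exists_le_sylow
  have hcard : Nat.card (T : Subgroup G) = 2 := by
    rw [T.card_eq_multiplicity, ← Subgroup.card_mul_index N, hidx,
      Nat.factorization_mul Nat.card_pos.ne' two_ne_zero, Finsupp.add_apply,
      Nat.factorization_eq_zero_of_not_dvd (fun h => Nat.not_even_iff_odd.2 hNodd (even_iff_two_dvd.2 h)),
      zero_add, Nat.Prime.factorization_self Nat.prime_two, pow_one]
  obtain ⟨g, hg⟩ := MulAction.exists_smul_eq G T T'
  have hTz : (T : Subgroup G) = Subgroup.zpowers z := (Subgroup.eq_of_le_of_card_ge hT (by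
    rw [hcard, Nat.card_zpowers, S.invol z hz])).symm
  have huT : u ∈ ((g • T : Sylow 2 G) : Subgroup G) := hg ▸ hT' (Subgroup.mem_zpowers u)
  rw [Sylow.coe_subgroup_smul, hTz] at huT
  obtain ⟨x, hx, hxu⟩ := huT
  obtain ⟨k, rfl⟩ := Subgroup.mem_zpowers_iff.1 hx
  have hxu' : g * z ^ k * g⁻¹ = u := hxu
  rcases zpow_eq_one_or_self (S.invol z hz) k with h | h <;> rw [h] at hxu'
  · rw [← hxu', mul_one, mul_inv_cancel, orderOf_one] at hu
    omega
  · exact huZ (hxu' ▸ S.conj_mem g z hz)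

/-- The points of a counterexample may be taken to be classes of commuting members. -/
theorem exists_commAt [FaithfulSMul G Ω] (hb : Below.{u, u} (Nat.card G)) (hfour : FourAt Z Ω) :
    ∃ (Ω' : Type u) (_ : MulAction G Ω'), FaithfulSMul G Ω' ∧ Hyp G Ω' Z ∧ CommAt Z Ω' ∧ FourAt Z Ω' := by
  have hT : CommTrans Z Ω := S.commute_trans_of_fourAt (S.subFrames (S.closedBelow hb)) hfour
  obtain ⟨Ω', hact, hf, S', hA⟩ := S.exists_refine hb hT
  letI := hact
  obtain ⟨d, -⟩ := S.nontrivial.exists_pair_ne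
  obtain ⟨x, hx, y, hy, hxy, hc⟩ := hfour d
  obtain ⟨p, hp⟩ := S'.exists_fix hx.1
  exact ⟨Ω', hact, hf, S', hA, S'.fourAt_of_pair ⟨hx.1, hp⟩ ⟨hy.1, S'.fix_of_commute hx.1 hp hc.symm⟩ hxy hc⟩

end Hyp

end Cfsg.Agent.Invol.Aschbacher
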