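import Cfsg.Agent.Lib.Invol.Aschbacher.Basic
import Cfsg.Agent.Lib.Invol.Bender.Tools

/-!
# Special elements for Aschbacher's criterion

An element inverted by a member of `Z` and centralised by another one is special: its centraliser fixes the point of
the inverting member.
-/

set_option autoImplicit false
set_option linter.unusedSectionVars false

namespace Cfsg.Agent.Invol.Aschbacher

open MulAction Subgroup
open Cfsg.Agent.Invol.Bender (conj_smul_smul)

universe u v

variable {G : Type u} [Group G] {Ω : Type v} [MulAction G Ω]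

/-- `i` is inverted by `u ∈ Z` with point `d` and centralises a member of `Z`. -/
structure Special (Z : Set G) (i u : G) (d : Ω) : Prop where
  mem : u ∈ zAt Z d
  inverted : u * i * u⁻¹ = i⁻¹
  ne_one : i ≠ 1
  odd : Odd (orderOf i)
  exists_commute : ∃ z ∈ Z, Commute z i

variable [Finite G] {Z : Set G} {i u : G} {d : Ω}

theorem Special.commute_fix (S : Hyp G Ω Z) (h : Special Z i u d) {c : G} (hc : Commute c i) : c • d = d := by
  obtain ⟨z, hz, hzi⟩ := h.exists_commute
  have key : ∀ z ∈ Z, Commute z i → ∀ x : Ω, z • x = x → x = d := by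
    intro z hz hzi x hx
    by_contra hxd
    obtain ⟨n, hn⟩ := S.odd_product hz h.mem.1 hx h.mem.2 hxd
    have hui : u * i * u⁻¹ = i⁻¹ := h.inverted
    have h1 : (z * u) * i * (z * u)⁻¹ = i⁻¹ := by
      calc (z * u) * i * (z * u)⁻¹ = z * (u * i * u⁻¹) * z⁻¹ := by group
        _ = i⁻¹ := by rw [hui, hzi.inv_right.eq, mul_inv_cancel_right]
    have h2 : ∀ k : ℕ, (z * u) ^ (2 * k) * i * ((z * u) ^ (2 * k))⁻¹ = i := by
      intro k
      induction k with
      | zero => simp
      | succ k ih =>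
        have h1' : (z * u) * i⁻¹ * (z * u)⁻¹ = i := by
          rw [show (z * u) * i⁻¹ * (z * u)⁻¹ = ((z * u) * i * (z * u)⁻¹)⁻¹ by group, h1, inv_inv]
        rw [show 2 * (k + 1) = 1 + (1 + 2 * k) by ring, pow_add, pow_add, pow_one]
        generalize (z * u) ^ (2 * k) = g at ih ⊢
        generalize hw : z * u = w at h1 h1' ⊢
        calc w * (w * g) * i * (w * (w * g))⁻¹ = w * (w * (g * i * g⁻¹) * w⁻¹) * w⁻¹ := by group
          _ = i := by rw [ih, h1, h1']
    have h3 := h2 (n + 1)
    rw [show 2 * (n + 1) = orderOf (z * u) + 1 by omega, pow_succ, pow_orderOf_eq_one, one_mul, h1] at h3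
    refine h.ne_one (Bender.eq_one_of_sq_of_odd (X := Subgroup.zpowers i) (by rw [Nat.card_zpowers]; exact h.odd)
      (Subgroup.mem_zpowers i) ?_)
    nth_rewrite 2 [← h3]
    exact mul_inv_cancel i
  obtain ⟨x, hx⟩ := S.exists_fix hz
  obtain rfl := key z hz hzi x hx
  refine key (c * z * c⁻¹) (S.conj_mem c z hz) ?_ (c • x) (by rw [conj_smul_smul, hx])
  show c * z * c⁻¹ * i = i * (c * z * c⁻¹)
  calc c * z * c⁻¹ * i = c * z * (c⁻¹ * i) := by group
    _ = c * (z * i) * c⁻¹ := by rw [hc.inv_left.eq]; group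
    _ = (c * i) * z * c⁻¹ := by rw [hzi.eq]; group
    _ = _ := by rw [hc.eq]; group

theorem Special.fix (S : Hyp G Ω Z) (h : Special Z i u d) : i • d = d := h.commute_fix S (Commute.refl i)

/-- The prime power components of a special element are special. -/
theorem Special.pow (h : Special Z i u d) {k : ℕ} (hk : i ^ k ≠ 1) : Special Z (i ^ k) u d := by
  refine ⟨h.mem, ?_, hk, h.odd.of_dvd_nat (orderOf_pow_dvd k), ?_⟩
  · rw [← conj_pow, h.inverted, inv_pow]
  · obtain ⟨z, hz, hzi⟩ := h.exists_commute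
    exact ⟨z, hz, hzi.pow_right k⟩

/-- Conjugates of special elements are special. -/
theorem Special.conj (S : Hyp G Ω Z) (h : Special Z i u d) (g : G) :
    Special Z (g * i * g⁻¹) (g * u * g⁻¹) (g • d) := by
  refine ⟨⟨S.conj_mem g u h.mem.1, by rw [conj_smul_smul, h.mem.2]⟩, ?_,
    fun e => h.ne_one (conj_eq_one_iff.1 e), by rw [orderOf_conj_eq]; exact h.odd, ?_⟩
  · calc g * u * g⁻¹ * (g * i * g⁻¹) * (g * u * g⁻¹)⁻¹ = g * (u * i * u⁻¹) * g⁻¹ := by group
      _ = _ := by rw [h.inverted]; group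
  · obtain ⟨z, hz, hzi⟩ := h.exists_commute
    exact ⟨g * z * g⁻¹, S.conj_mem g z hz, hzi.conj g⟩

/-- A four group of members normalising a group of odd order which one of them does not centralise gives a special
element inverted by it. -/
theorem exists_special (S : Hyp G Ω Z) (V : Subgroup G) (hodd : Odd (Nat.card V)) {e f : G} {x : Ω} (he : e ∈ Z)
    (hf : f ∈ zAt Z x) (hef : Commute e f) (hne : e ≠ f) (heV : e ∈ normalizer (V : Set G))
    (hfV : f ∈ normalizer (V : Set G)) (hnc : ∃ v ∈ V, ¬ Commute f v) :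
    ∃ i ∈ V, Special Z i f x := by
  obtain ⟨i, hi, hi1, hinv, hcom⟩ :=
    Bender.exists_special_element (S.invol e he) (S.invol f hf.1) hef _ V rfl hodd heV hfV hnc
  refine ⟨i, hi, hf, hinv, hi1, hodd.of_dvd_nat (Subgroup.orderOf_dvd_natCard _ hi), ?_⟩
  rcases hcom with h | h
  · exact ⟨e, he, h⟩
  · exact ⟨e * f, S.mul_mem he hf.1 hne hef, h⟩

end Cfsg.Agent.Invol.Aschbacher
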