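import Cfsg.Agent.Lib.Invol.Aschbacher.Special
import Cfsg.Agent.Lib.Invol.Aschbacher.Pair
import Cfsg.Agent.Lib.Invol.Bender.Core

/-!
# Subgroups all whose involutions lie in `Z`

Such a subgroup with two centres and two commuting involutions is split on its centres by Bender's theorem.  This
file derives the consequences used in the proof that the odd core of the group of an involution is trivial.
-/

set_option autoImplicit false
set_option linter.unusedSectionVars false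

namespace Cfsg.Agent.Invol.Aschbacher

open MulAction Subgroup
open Cfsg.Agent.Invol.Bender (conj_smul_smul swap_symm pairStab mem_pair invAt cen ker mem_ker ker_le ker_conj_mem
  mem_cen_smul TwoRank Split SplitAt)
open scoped Pointwise

universe u v

variable {G : Type u} [Group G] [Finite G] {Ω : Type v} [MulAction G Ω] {Z : Set G}

/-- A split subgroup of 2-rank two with two centres, all whose involutions lie in `Z`. -/
structure SubData (Z : Set G) (Ω : Type v) [MulAction G Ω] (M : Subgroup G) : Prop where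
  hyp : Hyp G Ω Z
  zonly : ∀ i ∈ M, orderOf i = 2 → i ∈ Z
  split : Split Ω M
  nontrivial : (cen Ω M).Nontrivial
  rank : TwoRank M

variable {M : Subgroup G} {c d e : Ω}

namespace SubData

variable (T : SubData Z Ω M)
include T

theorem mem_zAt {i : G} (hiM : i ∈ M) (hi : i ∈ invAt G d) : i ∈ zAt Z d := ⟨T.zonly i hiM hi.1, hi.2⟩

theorem mem_invAt {i : G} (hi : i ∈ zAt Z d) : i ∈ invAt G d := ⟨T.hyp.invol i hi.1, hi.2⟩

theorem fix_eq {i : G} (hiM : i ∈ M) (hi : i ∈ invAt G d) (he : i • e = e) : e = d :=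
  T.hyp.fix_unique (T.zonly i hiM hi.1) he hi.2

theorem smul_ne_of_invAt {i : G} (hiM : i ∈ M) (hi : i ∈ invAt G d) (he : e ≠ d) : i • e ≠ e :=
  fun h => he (T.fix_eq hiM hi h)

theorem exists_other (d : Ω) : ∃ e ∈ cen Ω M, e ≠ d := T.nontrivial.exists_ne d

theorem odd_ker : Odd (Nat.card (ker Ω M)) := by
  obtain ⟨x, hx, y, hy, hxy⟩ := T.nontrivial
  obtain ⟨Q, hQ⟩ := T.split x hx
  refine (hQ.odd_pair y hy hxy.symm).of_dvd_nat (Subgroup.card_dvd_of_le fun g hg => ?_)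
  exact ⟨ker_le hg, mem_pair.2 ⟨(mem_ker.1 hg).2 x hx, (mem_ker.1 hg).2 y hy⟩⟩

/-- The subgroup is transitive on its centres. -/
theorem exists_smul_cen (hc : c ∈ cen Ω M) (hd : d ∈ cen Ω M) : ∃ g ∈ M, g • c = d := by
  rcases eq_or_ne c d with rfl | hcd
  · exact ⟨1, one_mem M, one_smul G c⟩
  obtain ⟨i, hiM, hi2, hid⟩ := id hd
  have h1 : i • c ∈ cen Ω M := mem_cen_smul hiM hc
  have h2 : i • c ≠ c := T.smul_ne_of_invAt hiM ⟨hi2, hid⟩ hcd
  have h3 : i • c ≠ d := fun h => hcd (smul_left_cancel i (h.trans hid.symm))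
  obtain ⟨Q', hQ'⟩ := T.split _ h1
  obtain ⟨q, hq, hqc⟩ := hQ'.exists_move c hc h2.symm d hd (Ne.symm h3)
  exact ⟨q, (Subgroup.mem_inf.1 (hQ'.le hq)).1, hqc⟩

/-- It is two-transitive on its centres. -/
theorem two_trans_cen {a c' a' : Ω} (hc : c ∈ cen Ω M) (ha : a ∈ cen Ω M)
    (hc' : c' ∈ cen Ω M) (ha' : a' ∈ cen Ω M) (hca : c ≠ a) (hca' : c' ≠ a') :
    ∃ g ∈ M, g • c = c' ∧ g • a = a' := by
  obtain ⟨g, hg, hgc⟩ := T.exists_smul_cen hc hc'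
  obtain ⟨Q, hQ⟩ := T.split c' hc'
  obtain ⟨q, hq, hqa⟩ := hQ.exists_move (g • a) (mem_cen_smul hg ha)
    (fun h => hca (smul_left_cancel g (hgc.trans h.symm))) a' ha' hca'.symm
  obtain ⟨hqM, hqc⟩ := Subgroup.mem_inf.1 (hQ.le hq)
  exact ⟨q * g, mul_mem hqM hg, by rw [mul_smul, hgc, mem_stabilizer_iff.1 hqc], by rw [mul_smul, hqa]⟩

/-- Any two centres are interchanged by an involution. -/
theorem exists_swap_mem {a : Ω} (hc : c ∈ cen Ω M) (ha : a ∈ cen Ω M) (hca : c ≠ a) :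
    ∃ w ∈ M, w ∈ zSwap Z c a := by
  obtain ⟨i, hiM, hi, hic⟩ := id hc
  have hne : a ≠ i • a := fun h => T.smul_ne_of_invAt hiM ⟨hi, hic⟩ hca.symm h.symm
  obtain ⟨g, hg, hga, hga'⟩ := T.two_trans_cen ha (mem_cen_smul hiM ha) hc ha hne hca
  refine ⟨g * i * g⁻¹, mul_mem (mul_mem hg hiM) (Subgroup.inv_mem _ hg),
    T.hyp.conj_mem g i (T.zonly i hiM hi), ?_⟩
  rw [← hga, conj_smul_smul, hga']

/-- There are two commuting involutions at each centre. -/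
theorem exists_four_at (hd : d ∈ cen Ω M) :
    ∃ e ∈ M, ∃ f ∈ M, e ∈ invAt G d ∧ f ∈ invAt G d ∧ e ≠ f ∧ Commute e f := by
  obtain ⟨x, hxM, y, hyM, hx2, hy2, hxy, hc⟩ := T.rank
  obtain ⟨c, hxc⟩ := T.hyp.exists_fix (T.zonly x hxM hx2)
  have hyc : y • c = c := T.hyp.fix_of_commute (T.zonly x hxM hx2) hxc hc.symm
  obtain ⟨g, hg, hgc⟩ := T.exists_smul_cen ⟨x, hxM, hx2, hxc⟩ hd
  refine ⟨g * x * g⁻¹, mul_mem (mul_mem hg hxM) (Subgroup.inv_mem _ hg), g * y * g⁻¹,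
    mul_mem (mul_mem hg hyM) (Subgroup.inv_mem _ hg),
    ⟨(orderOf_conj_eq g x).trans hx2, ?_⟩, ⟨(orderOf_conj_eq g y).trans hy2, ?_⟩,
    fun h => hxy (mul_left_cancel (mul_right_cancel h)), hc.conj g⟩
  · rw [← hgc, conj_smul_smul, hxc]
  · rw [← hgc, conj_smul_smul, hyc]

/-- The stabiliser of two centres is transitive on the involutions at the first. -/
theorem exists_conj_pair {s t : G} (he : e ∈ cen Ω M) (hde : d ≠ e) (hsM : s ∈ M) (hs : s ∈ invAt G d)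
    (htM : t ∈ M) (ht : t ∈ invAt G d) : ∃ g ∈ M ⊓ pairStab G d e, g * s * g⁻¹ = t := by
  obtain ⟨r, hrM, hr2, hre⟩ := he
  have hr := T.zonly r hrM hr2
  obtain ⟨m, hm, hm', hms, hmd⟩ := T.hyp.exists_swapper (T.mem_zAt hsM hs).1 hr hs.2 hre hde
  obtain ⟨n, hn, hn', hnt, hnd⟩ := T.hyp.exists_swapper (T.mem_zAt htM ht).1 hr ht.2 hre hde
  have hle : ∀ x ∈ M, Subgroup.closure ({x, r} : Set G) ≤ M := fun x hx => (Subgroup.closure_le _).2 (by
    rintro g (rfl | rfl) <;> assumption)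
  have hn2 := T.hyp.invol n hn
  have hnn := mul_self_of_orderOf_two hn2
  refine ⟨n * m, ⟨mul_mem (hle t htM hn') (hle s hsM hm'), mem_pair.2 ⟨?_, ?_⟩⟩, ?_⟩
  · rw [mul_smul, hmd, swap_symm hn2 hnd]
  · rw [mul_smul, swap_symm (T.hyp.invol m hm) hmd, hnd]
  · calc n * m * s * (n * m)⁻¹ = n * (m * s * m⁻¹) * n⁻¹ := by group
      _ = n * (n * t * n⁻¹) * n⁻¹ := by rw [hms, hnt]
      _ = (n * n) * t * (n * n)⁻¹ := by group
      _ = t := by rw [hnn, one_mul, inv_one, mul_one]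

theorem exists_mul {Q : Subgroup G} (hQ : SplitAt M d Q) (hec : e ∈ cen Ω M) (he : e ≠ d) {g : G} (hg : g ∈ M)
    (hgd : g • d = d) : ∃ q ∈ Q, ∃ x ∈ M ⊓ pairStab G d e, g = q * x := by
  have hne : g • e ≠ d := fun h => he (smul_left_cancel g (h.trans hgd.symm))
  obtain ⟨q, hq, hqe⟩ := hQ.exists_move e hec he _ (mem_cen_smul hg hec) hne
  obtain ⟨hqM, hqd⟩ := Subgroup.mem_inf.1 (hQ.le hq)
  refine ⟨q, hq, q⁻¹ * g, Subgroup.mem_inf.2 ⟨mul_mem (InvMemClass.inv_mem hqM) hg, mem_pair.2 ⟨?_, ?_⟩⟩, by group⟩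
  · rw [mul_smul, hgd, inv_smul_eq_iff, mem_stabilizer_iff.1 hqd]
  · rw [mul_smul, inv_smul_eq_iff, hqe]

/-- The involutions of `M` at `d` lie in `Q`. -/
theorem inv_mem {Q : Subgroup G} (hQ : SplitAt M d Q) {i : G} (hiM : i ∈ M) (hi : i ∈ invAt G d) :
    i ∈ Q := by
  obtain ⟨e, hec, he⟩ := T.exists_other d
  obtain ⟨q, hq, x, hx, hix⟩ := T.exists_mul hQ hec he hiM hi.2
  obtain ⟨n, hn⟩ : Odd (orderOf x) :=
    (hQ.odd_pair e hec he).of_dvd_nat (Subgroup.orderOf_dvd_natCard _ hx)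
  have hsd : M ⊓ stabilizer G d ≤ Subgroup.normalizer (Q : Set G) := fun h hh =>
    Subgroup.mem_normalizer_fintype (hQ.conj_mem h hh)
  have hxmd : x ∈ M ⊓ stabilizer G d :=
    Subgroup.mem_inf.2 ⟨(Subgroup.mem_inf.1 hx).1, mem_stabilizer_iff.2 (mem_pair.1 (Subgroup.mem_inf.1 hx).2).1⟩
  -- modulo `Q` the involution equals an element of odd order
  let N := (M ⊓ stabilizer G d)
  let Q' := Q.subgroupOf N
  haveI : Q'.Normal := ⟨fun a ha g => by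
    rw [Subgroup.mem_subgroupOf] at ha ⊢
    simpa using hQ.conj_mem _ g.2 _ ha⟩
  let π := QuotientGroup.mk' Q'
  obtain ⟨i', hi'⟩ : ∃ i' : N, (i' : G) = i := ⟨⟨i, hiM, hi.2⟩, rfl⟩
  obtain ⟨x', hx'⟩ : ∃ x' : N, (x' : G) = x := ⟨⟨x, hxmd⟩, rfl⟩
  have h1 : π i' = π x' := by
    refine (QuotientGroup.eq.2 ?_).symm
    rw [Subgroup.mem_subgroupOf, Subgroup.coe_mul, Subgroup.coe_inv, hi', hx', hix]
    have := hQ.conj_mem x⁻¹ (InvMemClass.inv_mem hxmd) q hq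
    simpa [mul_assoc] using this
  have h2 : π i' = 1 := by
    have e1 : π i' ^ 2 = 1 := by
      rw [← map_pow, show i' ^ 2 = 1 from Subtype.ext (by
        rw [SubmonoidClass.coe_pow, hi', ← hi.1, pow_orderOf_eq_one, OneMemClass.coe_one]), map_one]
    have e2 : π i' ^ (2 * n + 1) = 1 := by
      rw [h1, ← map_pow, show x' ^ (2 * n + 1) = 1 from Subtype.ext (by
        rw [SubmonoidClass.coe_pow, hx', ← hn, pow_orderOf_eq_one, OneMemClass.coe_one]), map_one]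
    rwa [pow_succ, pow_mul, e1, one_pow, one_mul] at e2
  have h3 := (QuotientGroup.eq_one_iff i').1 h2
  rw [Subgroup.mem_subgroupOf, hi'] at h3
  exact h3

/-- An element of odd order inverted by an involution at `d` and fixing a second centre is in the kernel. -/
theorem real_mem_ker {Q : Subgroup G} (hQ : SplitAt M d Q) {z x : G} (hzM : z ∈ M)
    (hz : z ∈ invAt G d) (hxM : x ∈ M) (hodd : Odd (orderOf x)) (hinv : z * x * z⁻¹ = x⁻¹) (hxd : x • d = d)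
    (hec : e ∈ cen Ω M) (he : e ≠ d) (hxe : x • e = e) : x ∈ ker Ω M := by
  have hzQ := T.inv_mem hQ hzM hz
  have h1 := hQ.conj_mem x ⟨hxM, hxd⟩ z hzQ
  have h2 : x ^ 2 ∈ Q := by
    have e1 : x * z * x⁻¹ * z⁻¹ = x ^ 2 := by
      calc x * z * x⁻¹ * z⁻¹ = x * (z * x * z⁻¹)⁻¹ := by group
        _ = x ^ 2 := by rw [hinv, inv_inv, pow_two]
    exact e1 ▸ mul_mem h1 (InvMemClass.inv_mem hzQ)
  obtain ⟨n, hn⟩ := hodd
  have h3 : x ∈ Q := by
    have : x = (x ^ 2) ^ (n + 1) := by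
      rw [← pow_mul, show 2 * (n + 1) = 2 * n + 1 + 1 by ring, pow_succ, ← hn, pow_orderOf_eq_one, one_mul]
    rw [this]
    exact pow_mem h2 _
  exact hQ.inf_le e hec he ⟨h3, hxe⟩

theorem comm_mem_ker {d : Ω} {s t : G} (hsM : s ∈ M)
    (hs : s ∈ invAt G d) (htM : t ∈ M) (ht : t ∈ invAt G d) : s * t * s⁻¹ * t⁻¹ ∈ ker Ω M := by
  haveI : Fact (Nat.Prime 2) := ⟨Nat.prime_two⟩
  have hd : d ∈ cen Ω M := ⟨s, hsM, hs⟩
  obtain ⟨Q, hQ⟩ := T.split d hd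
  have hsQ := T.inv_mem hQ hsM hs
  have hoddK := T.odd_ker
  haveI : ((ker Ω M).subgroupOf Q).Normal := ⟨fun a ha g => by
    rw [Subgroup.mem_subgroupOf] at ha ⊢
    simpa using ker_conj_mem (Subgroup.mem_inf.1 (hQ.le g.2)).1 ha⟩
  obtain ⟨π, hπ⟩ : ∃ π : Q →* Q ⧸ (ker Ω M).subgroupOf Q, π = QuotientGroup.mk' _ := ⟨_, rfl⟩
  have hπ1 : ∀ {a : Q}, π a = 1 ↔ (a : G) ∈ ker Ω M := fun {a} => by
    rw [hπ]; exact (QuotientGroup.eq_one_iff a).trans Subgroup.mem_subgroupOf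
  obtain ⟨k, hk⟩ := hQ.two_index
  have hcard : Nat.card (Q ⧸ (ker Ω M).subgroupOf Q) = 2 ^ k := by
    have h7 := Subgroup.card_eq_card_quotient_mul_card_subgroup ((ker Ω M).subgroupOf Q)
    rw [Nat.card_congr (subgroupOfEquivOfLe hQ.ker_le).toEquiv, hk, mul_comm] at h7
    exact (Nat.mul_right_cancel Nat.card_pos h7).symm
  have hP : IsPGroup 2 (Q ⧸ (ker Ω M).subgroupOf Q) := IsPGroup.of_card hcard
  haveI : Nontrivial (Q ⧸ (ker Ω M).subgroupOf Q) := ⟨π ⟨s, hsQ⟩, 1, fun h => by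
    have h1 := Subgroup.orderOf_dvd_natCard _ (hπ1.1 h)
    rw [hs.1] at h1
    exact Nat.not_even_iff_odd.2 hoddK (even_iff_two_dvd.2 h1)⟩
  haveI := hP.center_nontrivial
  obtain ⟨n, hn0, hn⟩ := (hP.to_subgroup (Subgroup.center _)).nontrivial_iff_card.1 inferInstance
  obtain ⟨zb, hzb⟩ := exists_prime_orderOf_dvd_card' (G := Subgroup.center (Q ⧸ (ker Ω M).subgroupOf Q)) 2
    (hn ▸ dvd_pow_self 2 hn0.ne')
  obtain ⟨q, hq⟩ : ∃ q, π q = zb := by rw [hπ]; exact QuotientGroup.mk'_surjective _ _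
  have hzb2 : (zb : Q ⧸ (ker Ω M).subgroupOf Q) ^ 2 = 1 := by
    rw [← hzb, ← Subgroup.orderOf_coe]; exact pow_orderOf_eq_one _
  -- an involution which is central modulo the kernel
  obtain ⟨i₀, hi₀⟩ : ∃ i₀ : Q, i₀ = q ^ Nat.card (ker Ω M) := ⟨_, rfl⟩
  have hπi : π i₀ = zb := by
    obtain ⟨m, hm⟩ := hoddK
    rw [hi₀, map_pow, hq, hm, pow_succ, pow_mul, hzb2, one_pow, one_mul]
  have hi₀2 : orderOf (i₀ : G) = 2 := by
    refine orderOf_two_iff.2 ⟨?_, fun h => ?_⟩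
    · have hq2 : ((q ^ 2 : Q) : G) ∈ ker Ω M := hπ1.1 (by rw [map_pow, hq, hzb2])
      have h1 : (⟨((q ^ 2 : Q) : G), hq2⟩ : ker Ω M) ^ Nat.card (ker Ω M) = 1 := pow_card_eq_one'
      have h2 : ((q ^ 2 : Q) : G) ^ Nat.card (ker Ω M) = 1 := congrArg Subtype.val h1
      rw [hi₀, SubmonoidClass.coe_pow, ← pow_add, ← two_mul, pow_mul, ← SubmonoidClass.coe_pow]
      exact h2
    · have h1 : π i₀ = 1 := hπ1.2 (by rw [h]; exact one_mem _)
      rw [hπi] at h1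
      rw [← Subgroup.orderOf_coe, h1, orderOf_one] at hzb
      exact absurd hzb (by decide)
  obtain ⟨hi₀M, hi₀d⟩ := Subgroup.mem_inf.1 (hQ.le i₀.2)
  have hcent : ∀ x ∈ Q, (i₀ : G) * x * (i₀ : G)⁻¹ * x⁻¹ ∈ ker Ω M := fun x hx => by
    refine (hπ1 (a := i₀ * ⟨x, hx⟩ * i₀⁻¹ * ⟨x, hx⟩⁻¹)).1 ?_
    rw [map_mul, map_mul, map_mul, map_inv, map_inv, hπi,
      ← Subgroup.mem_center_iff.1 zb.2 (π ⟨x, hx⟩), mul_inv_cancel_right, mul_inv_cancel]
  -- `s` is conjugate to it in the stabiliser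
  obtain ⟨b, hb, hbd⟩ := T.exists_other d
  obtain ⟨g, hg, hgs'⟩ := T.exists_conj_pair hb hbd.symm hi₀M ⟨hi₀2, hi₀d⟩ hsM hs
  have hgd : g • d = d := (mem_pair.1 hg.2).1
  have htQ := T.inv_mem hQ htM ht
  have hx : g⁻¹ * t * g ∈ Q := by
    have := hQ.conj_mem g⁻¹ ⟨Subgroup.inv_mem _ hg.1, Subgroup.inv_mem _ (mem_stabilizer_iff.2 hgd)⟩ t htQ
    simpa using this
  have := ker_conj_mem hg.1 (hcent _ hx)
  convert this using 1
  rw [← hgs']
  group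



/-- The number of the other centres is a power of two. -/
theorem others_card {Q : Subgroup G} (hQ : SplitAt M d Q) :
    ∃ k : ℕ, Nat.card Q = Nat.card (ker Ω M) * 2 ^ k ∧
      {x : Ω | x ∈ cen Ω M ∧ x ≠ d}.ncard = 2 ^ k := by
  obtain ⟨k, hk⟩ := hQ.two_index
  obtain ⟨e, he, hed⟩ := T.exists_other d
  refine ⟨k, hk, ?_⟩
  have hmem : ∀ q ∈ Q, q ∈ M ∧ q • d = d := fun q hq =>
    ⟨(Subgroup.mem_inf.1 (hQ.le hq)).1, mem_stabilizer_iff.1 (Subgroup.mem_inf.1 (hQ.le hq)).2⟩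
  have horb : orbit Q e = {x : Ω | x ∈ cen Ω M ∧ x ≠ d} := by
    ext x
    constructor
    · rintro ⟨⟨q, hq⟩, rfl⟩
      exact ⟨mem_cen_smul (hmem q hq).1 he, fun h => hed (smul_left_cancel q (h.trans (hmem q hq).2.symm))⟩
    · rintro ⟨hx, hxd⟩
      obtain ⟨q, hq, hqx⟩ := hQ.exists_move e he hed x hx hxd
      exact ⟨⟨q, hq⟩, hqx⟩
  have hstab : (stabilizer Q e).map Q.subtype = ker Ω M := by
    refine le_antisymm ?_ fun g hg => ⟨⟨g, hQ.ker_le hg⟩, (mem_ker.1 hg).2 e he, rfl⟩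
    rintro _ ⟨⟨q, hq⟩, hqe, rfl⟩
    exact hQ.inf_le e he hed ⟨hq, hqe⟩
  have h1 := Subgroup.card_mul_index (stabilizer Q e)
  rw [index_stabilizer, horb, ← Subgroup.card_map_of_injective Q.subtype_injective, hstab, hk] at h1
  exact Nat.eq_of_mul_eq_mul_left Nat.card_pos h1

/-- An involution at a centre is central in some 2-group which is regular on the other centres. -/
theorem exists_regular {w : G} (hwM : w ∈ M) (hw : w ∈ invAt G d) :
    ∃ P : Subgroup G, IsPGroup 2 P ∧ P ≤ M ⊓ stabilizer G d ∧ w ∈ P ∧ (∀ t ∈ P, Commute t w) ∧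
      Nat.card P = {x : Ω | x ∈ cen Ω M ∧ x ≠ d}.ncard := by
  haveI : Fact (Nat.Prime 2) := ⟨Nat.prime_two⟩
  have hd : d ∈ cen Ω M := ⟨w, hwM, hw⟩
  obtain ⟨Q, hQ⟩ := T.split d hd
  obtain ⟨k, hk, hcard⟩ := T.others_card hQ
  obtain ⟨S, hS⟩ := Grp.exists_isSylowIn 2 Q
  have hScard : Nat.card S = 2 ^ k := by
    rw [hS.card, hk, Nat.factorization_mul Nat.card_pos.ne' (pow_ne_zero _ two_ne_zero), Finsupp.add_apply,
      Nat.factorization_eq_zero_of_not_dvd (fun h => Nat.not_even_iff_odd.2 T.odd_ker (even_iff_two_dvd.2 h)),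
      zero_add, Nat.Prime.factorization_pow Nat.prime_two, Finsupp.single_eq_same]
  -- some conjugate of `w` in `Q` lies in `S`
  have hwQ := T.inv_mem hQ hwM hw
  obtain ⟨Y, hY⟩ := ((IsPGroup.of_card (n := 1) (by rw [Nat.card_zpowers, hw.1, pow_one]) :
    IsPGroup 2 (Subgroup.zpowers w)).of_equiv (subgroupOfEquivOfLe (Subgroup.zpowers_le.2 hwQ)).symm).exists_le_sylow
  obtain ⟨g, hg, hgS⟩ := (Grp.isSylowIn_iff.2 ⟨Y, rfl⟩ : Grp.IsSylowIn 2 _ Q).conj hS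
  have hwS : g * w * g⁻¹ ∈ S := by
    rw [← hgS]
    exact ⟨w, ⟨⟨w, hwQ⟩, hY (mem_subgroupOf.2 (mem_zpowers w)), rfl⟩, rfl⟩
  obtain ⟨z, hzZ, hzS, hzc⟩ := T.hyp.exists_central hS.2.1 ⟨_, T.hyp.conj_mem g w (T.zonly w hwM hw.1), hwS⟩
  obtain ⟨hzM, hzd⟩ := Subgroup.mem_inf.1 (hQ.le (hS.1 hzS))
  obtain ⟨b, hb, hbd⟩ := T.exists_other d
  obtain ⟨x, hx, hxz⟩ := T.exists_conj_pair hb hbd.symm hzM ⟨T.hyp.invol z hzZ, mem_stabilizer_iff.1 hzd⟩ hwM hw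
  have hxQ : x ∈ M ⊓ stabilizer G d := ⟨hx.1, hx.2.1⟩
  refine ⟨MulAut.conj x • S, hS.2.1.map _, ?_, ⟨z, hzS, hxz⟩, ?_, ?_⟩
  · rintro _ ⟨y, hy, rfl⟩
    exact hQ.le (hQ.conj_mem x hxQ y (hS.1 hy))
  · rintro _ ⟨y, hy, rfl⟩
    show Commute (x * y * x⁻¹) w
    rw [← hxz]
    exact (hzc y hy).symm.conj x
  · rw [← Nat.card_congr (Subgroup.equivSMul (MulAut.conj x) S).toEquiv, hScard, hcard]

/-- A group of odd prime power order preserving the centres and fixing one fixes another. -/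
theorem exists_fix_pgroup {p : ℕ} [hp : Fact p.Prime] (hp2 : p ≠ 2) (hd : d ∈ cen Ω M) {A : Subgroup G}
    (hA : IsPGroup p A) (hAd : A ≤ stabilizer G d) (hAM : ∀ a ∈ A, ∀ x ∈ cen Ω M, a • x ∈ cen Ω M) :
    ∃ f ∈ cen Ω M, f ≠ d ∧ A ≤ stabilizer G f := by
  haveI := T.hyp.finite_points
  obtain ⟨Q, hQ⟩ := T.split d hd
  obtain ⟨k, -, hcard⟩ := T.others_card hQ
  let Φ : SubMulAction A Ω :=
    { carrier := {x : Ω | x ∈ cen Ω M ∧ x ≠ d}
      smul_mem' := fun a x hx => ⟨hAM a a.2 x hx.1, fun h => hx.2 (smul_left_cancel (a : G) (h.trans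
        (mem_stabilizer_iff.1 (hAd a.2)).symm))⟩ }
  have hΦ : Nat.card Φ = 2 ^ k := by rw [← hcard, ← Nat.card_coe_set_eq]; rfl
  have h := hA.card_modEq_card_fixedPoints Φ
  have hne : Nat.card (fixedPoints A Φ) ≠ 0 := fun h0 => by
    rw [h0, hΦ, Nat.modEq_zero_iff_dvd] at h
    exact hp2 ((Nat.prime_dvd_prime_iff_eq hp.out Nat.prime_two).1 (hp.out.dvd_of_dvd_pow h))
  obtain ⟨⟨⟨f, hf, hfd⟩, hfix⟩⟩ := (Nat.card_ne_zero.1 hne).1
  exact ⟨f, hf, hfd, fun a ha => mem_stabilizer_iff.2 (congrArg Subtype.val (hfix ⟨a, ha⟩))⟩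

end SubData

end Cfsg.Agent.Invol.Aschbacher
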